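import Cfsg.Agent.Lib.Spor.Key2
import Cfsg.Agent.Lib.PermCert.Iso

/-! The dodecad stabilizer `M12` and its point stabilizer `M11`. -/

set_option autoImplicit false

namespace Cfsg.Agent.Spor

open Cfsg.Agent.PC Finset MulAction
open scoped Pointwise symmDiff

def c12 (j : ℕ) : ℕ := cds (nat_lit 0x5beee882c12d0489a8833b2b03264db28b758e813b9907d50688a69236409d157b0cb03c5b27544c7916941820abacb50e708dd2da3c922a0ec308202ccea5b1c9b448d7d506a42f218820752cb3a4a455cd0acdac7ca2818820) j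
theorem c12_ok : FamOK c12 6 := famOK_of (by decide +kernel)
def ch12V0 (i : ℕ) : ℕ := Nat.land (Nat.shiftRight (nat_lit 0x341c003330035204011e6e81) (Nat.mul (nat_lit 5) i)) (nat_lit 31)
def ch12V1 (i : ℕ) : ℕ := Nat.land (Nat.shiftRight (nat_lit 0x1900c0006100008d901101a69b040) (Nat.mul (nat_lit 6) i)) (nat_lit 63)
def ch12V2 (i : ℕ) : ℕ := Nat.land (Nat.shiftRight (nat_lit 0x100110004990002da01b013881000) (Nat.mul (nat_lit 6) i)) (nat_lit 63)
def ch12V3 (i : ℕ) : ℕ := Nat.land (Nat.shiftRight (nat_lit 0xa018000661000692010011040000) (Nat.mul (nat_lit 6) i)) (nat_lit 63)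
def ch12V4 (i : ℕ) : ℕ := Nat.land (Nat.shiftRight (nat_lit 0x600800131002180440100000) (Nat.mul (nat_lit 5) i)) (nat_lit 31)
noncomputable def ch12 : List Lev := [⟨(nat_lit 0), (nat_lit 12), (nat_lit 5), ch12V0⟩, ⟨(nat_lit 1), (nat_lit 11), (nat_lit 4), ch12V1⟩, ⟨(nat_lit 2), (nat_lit 10), (nat_lit 3), ch12V2⟩, ⟨(nat_lit 3), (nat_lit 9), (nat_lit 2), ch12V3⟩, ⟨(nat_lit 4), (nat_lit 8), (nat_lit 0), ch12V4⟩]
def s11 (j : ℕ) : ℕ := cds (nat_lit 0xa44eb286ccbccc2aaa037a5c823640b28b758e813b9907d50688a69236409d157b0cb03c5b27544c7916941820abacb50e708dd2da3c922a0ec308202ccea5b1c9b448d7d506a42f218820752cb3a4a455cd0acdac7ca28188202bd47b11c65c5929d209aa2ed18820752cb3a4a455cd0acdac7ca2818820ad1768a67255c6c71510790ed30820796275a286b29b09ba43a92ec488203daaf9c950a15045c46db89cc498202d953bb1c4aacc1a1e038c9ed12500716d7392329bc265546c5a68813600) j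
theorem s11_ok : FamOK s11 13 := famOK_of (by decide +kernel)
def s11w_t : TL := (TL.node (TL.node (TL.node (TL.node (TL.leaf []) (TL.leaf [nat_lit 6, nat_lit 5, nat_lit 5])) (TL.node (TL.leaf [nat_lit 1, nat_lit 2, nat_lit 2, nat_lit 2, nat_lit 3, nat_lit 3, nat_lit 0, nat_lit 2, nat_lit 3, nat_lit 3, nat_lit 2]) (TL.leaf [nat_lit 1, nat_lit 1, nat_lit 4, nat_lit 3, nat_lit 2, nat_lit 6, nat_lit 3, nat_lit 5, nat_lit 6]))) (TL.node (TL.node (TL.leaf [nat_lit 1, nat_lit 0, nat_lit 0, nat_lit 0, nat_lit 1, nat_lit 1, nat_lit 1, nat_lit 0]) (TL.leaf [nat_lit 6, nat_lit 3, nat_lit 2, nat_lit 5, nat_lit 3, nat_lit 6, nat_lit 5, nat_lit 5])) (TL.leaf [nat_lit 1, nat_lit 2, nat_lit 4, nat_lit 0, nat_lit 4, nat_lit 2, nat_lit 2, nat_lit 0, nat_lit 0, nat_lit 2, nat_lit 3, nat_lit 4, nat_lit 3, nat_lit 3]))) (TL.node (TL.node (TL.node (TL.leaf [nat_lit 12]) (TL.leaf [nat_lit 3, nat_lit 3, nat_lit 5, nat_lit 5,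 nat_lit 5])) (TL.leaf [nat_lit 1, nat_lit 2, nat_lit 4, nat_lit 4, nat_lit 2, nat_lit 2, nat_lit 2, nat_lit 0, nat_lit 0, nat_lit 2, nat_lit 4, nat_lit 2, nat_lit 3, nat_lit 4, nat_lit 4])) (TL.node (TL.node (TL.leaf [nat_lit 1, nat_lit 2, nat_lit 0, nat_lit 2, nat_lit 2, nat_lit 2, nat_lit 2]) (TL.leaf [nat_lit 1, nat_lit 1, nat_lit 0, nat_lit 2, nat_lit 4, nat_lit 3, nat_lit 3, nat_lit 6, nat_lit 5])) (TL.leaf [nat_lit 5]))))
noncomputable def s11w (i : ℕ) : List ℕ := TL.get s11w_t i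
def c11 (j : ℕ) : ℕ := cds (nat_lit 0x71eb6899e82ce4d52c30a0ee913080bcdd4384b07a90c8d5a9b0d7211880bd14ea90e25c5929bc28b24a369a00bbd5574ac98ad849d026388ad1a200bd9cb50de18d48ca4d263a0ad90a00) j
theorem c11_ok : FamOK c11 5 := famOK_of (by decide +kernel)
def ch11V0 (i : ℕ) : ℕ := Nat.land (Nat.shiftRight (nat_lit 0x598647004c051a0006da000880300000000) (Nat.mul (nat_lit 6) i)) (nat_lit 63)
def ch11V1 (i : ℕ) : ℕ := Nat.land (Nat.shiftRight (nat_lit 0x196186402c04120004da000880040000000) (Nat.mul (nat_lit 6) i)) (nat_lit 63)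
def ch11V2 (i : ℕ) : ℕ := Nat.land (Nat.shiftRight (nat_lit 0x1961a64028041200085a000040000000000) (Nat.mul (nat_lit 6) i)) (nat_lit 63)
def ch11V3 (i : ℕ) : ℕ := Nat.land (Nat.shiftRight (nat_lit 0x100240000400) (Nat.mul (nat_lit 5) i)) (nat_lit 31)
def ch11V4 (i : ℕ) : ℕ := Nat.land (Nat.shiftRight (nat_lit 0x80000000000000010) (Nat.mul (nat_lit 4) i)) (nat_lit 15)
noncomputable def ch11 : List Lev := [⟨(nat_lit 23), (nat_lit 12), (nat_lit 4), ch11V0⟩, ⟨(nat_lit 5), (nat_lit 11), (nat_lit 3), ch11V1⟩, ⟨(nat_lit 7), (nat_lit 10), (nat_lit 2), ch11V2⟩, ⟨(nat_lit 2), (nat_lit 3), (nat_lit 1), ch11V3⟩, ⟨(nat_lit 1), (nat_lit 2), (nat_lit 0), ch11V4⟩]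

theorem d0_mem : bset 340831 ∈ dodecads := bset_dod (by decide +kernel)

theorem squareDodecad_eq' : Cfsg.Spor.squareDodecad = bset 340831 := by rw [squareDodecad_eq, cwd, cw_dod0]

theorem ch12_ok : chainE (TP c12) 24 8 ch12 6 = 0 := Nat.eq_of_beq_eq_true (by decide +kernel)

theorem gen12 : gen (fam c12) 6 = stabilizer M24 (bset 340831) :=
  gen_eq_of_chain c12_ok (gen_le_stabS c12_ok _ (by decide +kernel)) (card_stab_dod d0_mem) ch12 8 (by decide +kernel)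

theorem chain12 :
    (gen (fam c12) 5 = gen (fam c12) 6 ⊓ stabilizer M24 (gp 0) ∧ Nat.card (gen (fam c12) 5) = 7920) ∧
    (gen (fam c12) 4 = gen (fam c12) 5 ⊓ stabilizer M24 (gp 1) ∧ Nat.card (gen (fam c12) 4) = 720) ∧
    (gen (fam c12) 3 = gen (fam c12) 4 ⊓ stabilizer M24 (gp 2) ∧ Nat.card (gen (fam c12) 3) = 72) ∧
    (gen (fam c12) 2 = gen (fam c12) 3 ⊓ stabilizer M24 (gp 3) ∧ Nat.card (gen (fam c12) 2) = 8) := by
  obtain ⟨a1, r1, c1, b1⟩ := chain_next gp_inj c12_ok.repsP ch12_ok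
    (by rw [gen12]; exact cardLE_of_card (card_stab_dod d0_mem).le)
  obtain ⟨a2, r2, c2, b2⟩ := chain_next gp_inj r1 c1 b1
  obtain ⟨a3, r3, c3, b3⟩ := chain_next gp_inj r2 c2 b2
  obtain ⟨a4, r4, c4, b4⟩ := chain_next gp_inj r3 c3 b3
  exact ⟨⟨a1, (chain_gen_eq gp_inj r1 c1 le_rfl b1).2⟩, ⟨a2, (chain_gen_eq gp_inj r2 c2 le_rfl b2).2⟩,
    ⟨a3, (chain_gen_eq gp_inj r3 c3 le_rfl b3).2⟩, ⟨a4, (chain_gen_eq gp_inj r4 c4 le_rfl b4).2⟩⟩

theorem gen11 : gen (fam c12) 5 = stabilizer M24 (bset 340831) ⊓ stabilizer M24 (gp 0) := by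
  rw [chain12.1.1, gen12]
theorem gen10 : gen (fam c12) 4 = stabilizer M24 (bset 340831) ⊓ stabilizer M24 (gp 0) ⊓ stabilizer M24 (gp 1) := by
  rw [chain12.2.1.1, gen11]
theorem gen9 : gen (fam c12) 3 =
    stabilizer M24 (bset 340831) ⊓ stabilizer M24 (gp 0) ⊓ stabilizer M24 (gp 1) ⊓ stabilizer M24 (gp 2) := by
  rw [chain12.2.2.1.1, gen10]
theorem card11 : Nat.card ↥(stabilizer M24 (bset 340831) ⊓ stabilizer M24 (gp 0)) = 7920 := gen11 ▸ chain12.1.2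
theorem card10 : Nat.card ↥(stabilizer M24 (bset 340831) ⊓ stabilizer M24 (gp 0) ⊓ stabilizer M24 (gp 1)) = 720 :=
  gen10 ▸ chain12.2.1.2
theorem card9 : Nat.card ↥(stabilizer M24 (bset 340831) ⊓ stabilizer M24 (gp 0) ⊓ stabilizer M24 (gp 1) ⊓
    stabilizer M24 (gp 2)) = 72 := gen9 ▸ chain12.2.2.1.2

theorem m12_base {a : M24} (ha : a ∈ stabilizer M24 (bset 340831)) (h : ∀ b ∈ [0, 1, 2, 3, 4], a • gp b = gp b) :
    a = 1 :=
  eq_one_of_chain gp_inj c12_ok.repsP ch12_ok gen12.le (cardLE_of_card (card_stab_dod d0_mem).le) ha h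

/-- translate of an injective tuple -/
def trE {k : ℕ} (g : M24) (x : Fin k ↪ GolayPt) : Fin k ↪ GolayPt :=
  ⟨fun i => g • x i, (MulAction.injective g).comp x.injective⟩

theorem trE_apply {k : ℕ} (g : M24) (x : Fin k ↪ GolayPt) (i : Fin k) : trE g x i = g • x i := rfl

theorem ncard_emb {k : ℕ} (s : Finset GolayPt) :
    {x : Fin k ↪ GolayPt | ∀ i, x i ∈ s}.ncard = s.card.descFactorial k := by
  have e : {x : Fin k ↪ GolayPt | ∀ i, x i ∈ s} ≃ (Fin k ↪ s) :=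
    { toFun := fun x => ⟨fun i => ⟨x.1 i, x.2 i⟩, fun i j h => x.1.injective (congrArg Subtype.val h)⟩
      invFun := fun y => ⟨y.trans (Function.Embedding.subtype _), fun i => (y i).2⟩
      left_inv := fun _ => rfl
      right_inv := fun _ => rfl }
  rw [← Nat.card_coe_set_eq, Nat.card_congr e, Nat.card_eq_fintype_card, Fintype.card_embedding_eq]
  simp

/-- a group preserving `s` with small enough stabilizer of a `k`-tuple in `s` is `k`-transitive on `s` -/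
theorem ktrans_of_count {L : Subgroup M24} {s : Finset GolayPt} (hs : ∀ a ∈ L, a • s = s) {k c : ℕ}
    (b : Fin k ↪ GolayPt) (hb : ∀ i, b i ∈ s) (K : Subgroup M24) (hK : CardLE K c)
    (h1 : ∀ a ∈ L, (∀ i, a • b i = b i) → a ∈ K) (h2 : s.card.descFactorial k * c ≤ Nat.card L)
    (x y : Fin k ↪ GolayPt) (hx : ∀ i, x i ∈ s) (hy : ∀ i, y i ∈ s) : ∃ a ∈ L, ∀ i, a • x i = y i := by
  have h : orbit L b = {x : Fin k ↪ GolayPt | ∀ i, x i ∈ s} := by
    refine orbit_eq_of_count (Set.toFinite _) (fun a ha i => ?_) (k := c) (hK.of_le fun a ha => h1 a ha.1 fun i => ?_)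
      (by rwa [ncard_emb])
    · show a • b i ∈ s
      rw [← hs a ha]; exact Finset.smul_mem_smul_finset (hb i)
    · exact congrArg (fun f : Fin k ↪ GolayPt => f i) (mem_stabilizer_iff.mp ha.2)
  obtain ⟨a, ha, e⟩ := exists_of_orbit (L := L) (x := b) (y := x) (z := y) (h ▸ hx) (h ▸ hy)
  exact ⟨a, ha, fun i => congrArg (fun f : Fin k ↪ GolayPt => f i) e⟩

theorem m12_trans5' (x y : Fin 5 ↪ GolayPt) (hx : ∀ i, x i ∈ bset 340831) (hy : ∀ i, y i ∈ bset 340831) :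
    ∃ a ∈ stabilizer M24 (bset 340831), ∀ i, a • x i = y i :=
  ktrans_of_count (fun _ h => h) ⟨![gp 0, gp 1, gp 2, gp 3, gp 4], by decide⟩ (by decide) ⊥ cardLE_bot
    (fun a ha h => m12_base ha (by simpa using ⟨h 0, h 1, h 2, h 3, h 4⟩))
    (by rw [card_stab_dod d0_mem, d0_mem.2]; decide) x y hx hy

theorem m12_trans5 {d : Finset GolayPt} (hd : d ∈ dodecads) (x y : Fin 5 ↪ GolayPt) (hx : ∀ i, x i ∈ d)
    (hy : ∀ i, y i ∈ d) : ∃ a ∈ stabilizer M24 d, ∀ i, a • x i = y i := by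
  obtain ⟨a, rfl⟩ := dod_trans d0_mem hd
  obtain ⟨g, h1, h2⟩ := m12_trans5' (trE a⁻¹ x) (trE a⁻¹ y) (fun i => Finset.inv_smul_mem_iff.mpr (hx i))
    (fun i => Finset.inv_smul_mem_iff.mpr (hy i))
  refine ⟨_, (conj_mem_stab a g _).mpr h1, fun i => ?_⟩
  have := h2 i
  rw [trE_apply, trE_apply] at this
  rw [mul_smul, mul_smul, this, smul_inv_smul]

theorem m12_sharp {d : Finset GolayPt} (hd : d ∈ dodecads) (x : Fin 5 ↪ GolayPt) (hx : ∀ i, x i ∈ d) {g : M24}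
    (hg : g ∈ stabilizer M24 d) (h : ∀ i, g • x i = x i) : g = 1 := by
  obtain ⟨a, rfl⟩ := dod_trans d0_mem hd
  let b : Fin 5 ↪ GolayPt := ⟨![gp 0, gp 1, gp 2, gp 3, gp 4], by decide⟩
  obtain ⟨c, h1, h2⟩ := m12_trans5 hd (trE a b) x
    (fun i => Finset.smul_mem_smul_finset (by revert i; decide)) hx
  have h3 : ∀ i, ((c * a)⁻¹ * g * (c * a)) • b i = b i := fun i => by
    rw [mul_smul, mul_smul, inv_smul_eq_iff, mul_smul, ← trE_apply a, h2, h]
  have h4 := m12_base (a := (c * a)⁻¹ * g * (c * a)) (by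
    rw [mem_stabilizer_iff, mul_smul, mul_smul, inv_smul_eq_iff, mul_smul, mem_stabilizer_iff.mp h1,
      mem_stabilizer_iff.mp hg]) (by simpa using ⟨h3 0, h3 1, h3 2, h3 3, h3 4⟩)
  rwa [mul_assoc, inv_mul_eq_one, eq_comm, mul_eq_right] at h4

/-- extend an injective tuple inside a large set -/
theorem extend_emb {k n : ℕ} (hkn : k ≤ n) {s : Finset GolayPt} (hs : n ≤ s.card) (x : Fin k → GolayPt)
    (hx : Function.Injective x) (hxs : ∀ i, x i ∈ s) :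
    ∃ y : Fin n ↪ GolayPt, (∀ i, y i ∈ s) ∧ ∀ i, y (Fin.castLE hkn i) = x i := by
  induction n, hkn using Nat.le_induction with
  | base => exact ⟨⟨x, hx⟩, hxs, fun _ => rfl⟩
  | succ n hkn ih =>
    obtain ⟨y, h1, h2⟩ := ih (by omega)
    obtain ⟨p, hp, hp'⟩ := Finset.exists_mem_notMem_of_card_lt_card (s := univ.map y) (t := s) (by simp; omega)
    refine ⟨⟨Fin.snoc y p, ?_⟩, ?_, ?_⟩
    · rw [Fin.snoc_injective_iff]
      exact ⟨y.injective, by simpa using hp'⟩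
    · intro i
      induction i using Fin.lastCases with
      | last => simpa using hp
      | cast i => simpa using h1 i
    · intro i
      rw [← h2 i]
      exact Fin.snoc_castSucc (α := fun _ => GolayPt) p y (Fin.castLE hkn i)

theorem m12_tuple {d : Finset GolayPt} (hd : d ∈ dodecads) {k : ℕ} (hk : k ≤ 5) (x y : Fin k → GolayPt)
    (hx : Function.Injective x) (hy : Function.Injective y) (hxd : ∀ i, x i ∈ d) (hyd : ∀ i, y i ∈ d) :
    ∃ a ∈ stabilizer M24 d, ∀ i, a • x i = y i := by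
  obtain ⟨x', a1, a2⟩ := extend_emb hk (by rw [hd.2]; norm_num) x hx hxd
  obtain ⟨y', b1, b2⟩ := extend_emb hk (by rw [hd.2]; norm_num) y hy hyd
  obtain ⟨a, ha, h⟩ := m12_trans5 hd x' y' a1 b1
  exact ⟨a, ha, fun i => by rw [← a2, ← b2, h]⟩

theorem m12_map3 {d : Finset GolayPt} (hd : d ∈ dodecads) {p q r : GolayPt} (hp : p ∈ d) (hq : q ∈ d) (hr : r ∈ d)
    (hpq : p ≠ q) (hpr : p ≠ r) (hqr : q ≠ r) :
    ∃ a : M24, a • bset 340831 = d ∧ a • gp 0 = p ∧ a • gp 1 = q ∧ a • gp 2 = r := by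
  obtain ⟨a, rfl⟩ := dod_trans d0_mem hd
  obtain ⟨b, hb, h⟩ := m12_tuple hd (k := 3) (by norm_num) (fun i => a • ![gp 0, gp 1, gp 2] i) ![p, q, r]
    ((MulAction.injective a).comp (by decide)) (inj3 hpq hpr hqr)
    (fun i => Finset.smul_mem_smul_finset (by revert i; decide)) (fun i => by fin_cases i <;> assumption)
  exact ⟨b * a, by rw [mul_smul, mem_stabilizer_iff.mp hb], by rw [mul_smul]; exact h 0, by rw [mul_smul]; exact h 1,
    by rw [mul_smul]; exact h 2⟩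

theorem m0 : gp 0 ∈ bset 340831 := by decide
theorem m1 : gp 1 ∈ bset 340831 := by decide

theorem simple11 : IsSimpleGroup ↥(stabilizer M24 (bset 340831) ⊓ stabilizer M24 (gp 0)) := by
  have hL : gen (fam s11) 13 = stabilizer M24 (bset 340831) ⊓ stabilizer M24 (gp 0) :=
    le_antisymm (le_inf (gen_le_stabS s11_ok _ (by decide +kernel))
      (gen_le_stab s11_ok.repsP (by norm_num) (by decide +kernel)))
      (gen11 ▸ gen_le_codes 7 (by norm_num) (by decide +kernel))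
  have horb : orbit ↥(stabilizer M24 (bset 340831) ⊓ stabilizer M24 (gp 0)) (gp 1) =
      {y | y ∈ bset 340831 ∧ y ≠ gp 0} := by
    refine orbit_eq_of (fun a ha => ⟨?_, fun e => ?_⟩) fun y hy => ?_
    · rw [← mem_stabilizer_iff.mp ha.1]; exact Finset.smul_mem_smul_finset (by decide)
    · rw [← mem_stabilizer_iff.mp ha.2, smul_left_cancel_iff] at e; exact absurd e (by decide)
    · obtain ⟨g, h1, h2⟩ := m12_tuple d0_mem (k := 2) (by norm_num) ![gp 0, gp 1] ![gp 0, y] (by decide)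
        (inj2 hy.2.symm) (by decide) (fun i => by fin_cases i; exacts [m0, hy.1])
      exact ⟨g, ⟨h1, h2 0⟩, h2 1⟩
  refine simple_cert gp_surj (s11_ok.repsP.sub hL.le) (gen_sub_top hL) (H := stabilizer _ (gp 1))
    (isCoatom_of_two_trans (Set.toFinite _) horb ?_ ?_) (normalCore_stabilizer_eq_bot ?_)
    ((card_stab_sub _ _).trans card10) (p := 11) (by norm_num) (W := s11w) (by norm_num) (by decide +kernel)
  · rw [Set.one_lt_ncard (Set.toFinite _)]
    exact ⟨gp 1, by decide, gp 2, by decide, by decide⟩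
  · intro y hy z hz h1 h2
    obtain ⟨g, hg, h⟩ := m12_tuple d0_mem (k := 3) (by norm_num) ![gp 0, gp 1, y] ![gp 0, gp 1, z]
      (inj3 (by decide) hy.2.symm h1.symm) (inj3 (by decide) hz.2.symm h2.symm)
      (fun i => by fin_cases i; exacts [m0, m1, hy.1])
      (fun i => by fin_cases i; exacts [m0, m1, hz.1])
    exact ⟨⟨g, hg, h 0⟩, h 1, h 2⟩
  · intro a ha
    rw [horb] at ha
    refine Subtype.ext (m12_base a.2.1 ?_)
    simp only [List.mem_cons, List.not_mem_nil, or_false, forall_eq_or_imp, forall_eq]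
    exact ⟨a.2.2, ha _ (by decide), ha _ (by decide), ha _ (by decide), ha _ (by decide)⟩

theorem simple12 : IsSimpleGroup ↥(stabilizer M24 (bset 340831)) := by
  have := simple11
  obtain ⟨e⟩ := stab_sub_equiv (stabilizer M24 (bset 340831)) (gp 0)
  refine simple_of_two_trans (x := gp 0) (S := ↑(bset 340831)) (p := 2) (q := 3) ?_ ?_ ?_ (by norm_num) (by norm_num)
    (by norm_num) ?_ ?_ e.isSimpleGroup
  · refine orbit_eq_of (fun a ha => ?_) fun y hy => ?_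
    · rw [← mem_stabilizer_iff.mp ha]; exact Finset.smul_mem_smul_finset (by decide)
    · obtain ⟨g, h1, h2⟩ := m12_tuple d0_mem (k := 1) (by norm_num) ![gp 0] ![y] (by decide)
        (Function.injective_of_subsingleton _) (by decide) (fun i => by fin_cases i; exact hy)
      exact ⟨g, h1, h2 0⟩
  · intro a ha
    refine Subtype.ext (m12_base a.2 ?_)
    simp only [List.mem_cons, List.not_mem_nil, or_false, forall_eq_or_imp, forall_eq]
    exact ⟨ha _ (by decide), ha _ (by decide), ha _ (by decide), ha _ (by decide), ha _ (by decide)⟩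
  · intro y hy z hz h1 h2
    obtain ⟨g, hg, h⟩ := m12_tuple d0_mem (k := 2) (by norm_num) ![gp 0, y] ![gp 0, z]
      (inj2 h1.symm) (inj2 h2.symm) (fun i => by fin_cases i; exacts [m0, hy])
      (fun i => by fin_cases i; exacts [m0, hz])
    exact ⟨⟨g, hg⟩, h 0, h 1⟩
  · rw [Set.ncard_coe_finset, d0_mem.2]; decide
  · rw [Set.ncard_coe_finset, d0_mem.2]; decide

theorem ch11_ok : chainE (TP c11) 24 8 ch11 5 = 0 := Nat.eq_of_beq_eq_true (by decide +kernel)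

theorem gen11' : gen (fam c11) 5 = stabilizer M24 (bset 340831) ⊓ stabilizer M24 (gp 0) :=
  gen_eq_of_chain c11_ok (le_inf (gen_le_stabS c11_ok _ (by decide +kernel))
    (gen_le_stabP c11_ok 0 (by norm_num) (by decide +kernel))) card11 ch11 8 (by decide +kernel)

theorem chain11 :
    (gen (fam c11) 4 = gen (fam c11) 5 ⊓ stabilizer M24 (gp 23) ∧ Nat.card (gen (fam c11) 4) = 660) ∧
    (gen (fam c11) 3 = gen (fam c11) 4 ⊓ stabilizer M24 (gp 5) ∧ Nat.card (gen (fam c11) 3) = 60) ∧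
    (gen (fam c11) 2 = gen (fam c11) 3 ⊓ stabilizer M24 (gp 7) ∧ Nat.card (gen (fam c11) 2) = 6) := by
  obtain ⟨a1, r1, c1, b1⟩ := chain_next gp_inj c11_ok.repsP ch11_ok
    (by rw [gen11']; exact cardLE_of_card card11.le)
  obtain ⟨a2, r2, c2, b2⟩ := chain_next gp_inj r1 c1 b1
  obtain ⟨a3, r3, c3, b3⟩ := chain_next gp_inj r2 c2 b2
  exact ⟨⟨a1, (chain_gen_eq gp_inj r1 c1 le_rfl b1).2⟩, ⟨a2, (chain_gen_eq gp_inj r2 c2 le_rfl b2).2⟩,
    ⟨a3, (chain_gen_eq gp_inj r3 c3 le_rfl b3).2⟩⟩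

theorem m11_trans3 (x y : Fin 3 ↪ GolayPt) (hx : ∀ i, x i ∉ bset 340831) (hy : ∀ i, y i ∉ bset 340831) :
    ∃ a ∈ stabilizer M24 (bset 340831) ⊓ stabilizer M24 (gp 0), ∀ i, a • x i = y i :=
  ktrans_of_count (s := (bset 340831)ᶜ) (fun a h => by rw [msmul_compl, mem_stabilizer_iff.mp h.1])
    ⟨![gp 23, gp 5, gp 7], by decide⟩ (by decide) _ (cardLE_of_card chain11.2.2.2.le)
    (fun a ha h => by
      rw [chain11.2.2.1, chain11.2.1.1, chain11.1.1, gen11']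
      exact ⟨⟨⟨ha, h 0⟩, h 1⟩, h 2⟩)
    (by rw [card11]; decide) x y (fun i => Finset.mem_compl.mpr (hx i)) (fun i => Finset.mem_compl.mpr (hy i))

/-- the frozen Mathieu groups as stabilizers inside `M24` -/
noncomputable def M23Equiv : stabilizer M24 (gp 23) ≃* Cfsg.Spor.M23 :=
  toPerm fun _ => ⟨fun h => ⟨h.1, h.2⟩, fun ⟨h1, h2⟩ => ⟨h1, h2⟩⟩
noncomputable def M22Equiv : ↥(stabilizer M24 (gp 23) ⊓ stabilizer M24 (gp 0)) ≃* Cfsg.Spor.M22 :=
  toPerm fun _ => ⟨fun h => ⟨h.1.1, h.1.2, h.2⟩, fun ⟨h1, h2, h3⟩ => ⟨⟨h1, h2⟩, h3⟩⟩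
noncomputable def M12Equiv : stabilizer M24 (bset 340831) ≃* Cfsg.Spor.M12 :=
  toPerm fun _ => by
    rw [← squareDodecad_eq']
    exact ⟨fun h => ⟨h.1, h.2⟩, fun ⟨h1, h2⟩ => ⟨h1, h2⟩⟩
noncomputable def M11Equiv : ↥(stabilizer M24 (bset 340831) ⊓ stabilizer M24 (gp 0)) ≃* Cfsg.Spor.M11 :=
  toPerm fun _ => by
    rw [← squareDodecad_eq']
    exact ⟨fun h => ⟨h.1.1, h.1.2, h.2⟩, fun ⟨h1, h2, h3⟩ => ⟨⟨h1, h2⟩, h3⟩⟩

end Cfsg.Agent.Spor
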