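import Cfsg.Agent.Lib.Spor.Small
import Cfsg.Agent.S0243

/-! Isomorphisms through common action tables; linear groups acting on labelled vectors and lines. -/

set_option autoImplicit false
set_option linter.unusedVariables false

namespace Cfsg.Agent.Spor

open Cfsg.Agent.PC Finset MulAction Matrix
open scoped Pointwise symmDiff LinearAlgebra.Projectivization

theorem chain_lt {T : ℕ → ℕ → ℕ} {N M : ℕ} : ∀ (t : List Lev) {m : ℕ}, chainE T N M t m = 0 → ∀ b ∈ t.map Lev.β, b < N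
  | [], _, _ => by simp
  | l :: t, m, h => List.forall_mem_cons.2 ⟨ltE_zero (add_eq_zero' (add_eq_zero' (add_eq_zero' h).1).1).2,
      chain_lt t (add_eq_zero' h).2⟩

theorem iso_cert {G K X Y : Type*} [Group G] [Group K] [MulAction G X] [MulAction K Y] {px : ℕ → X} {py : ℕ → Y} {N : ℕ}
    {g : ℕ → G} {h : ℕ → K} {T : ℕ → ℕ → ℕ} {m : ℕ} (hg : Reps px N g T m) (hh : Reps py N h T m) (hi : Inj px N)
    (hi' : Inj py N) (M : ℕ) (t : List Lev) {k : ℕ}
    (hc : Nat.beq (Nat.add (chainE T N M t m) (Nat.xor (chainN t) k)) (nat_lit 0) = true) {A : Subgroup G}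
    (hA : gen g m ≤ A) (cA : Nat.card A = k) (cK : Nat.card K = k) (hk : k ≠ 0) : Nonempty (A ≃* K) := by
  obtain ⟨c, e⟩ := add_eq_zero' (Nat.eq_of_beq_eq_true hc)
  obtain rfl := xor_eq_zero' e
  have a : CardLE A (chainN t) := ⟨Nat.finite_of_card_ne_zero (cA ▸ hk), cA.le⟩
  have b : CardLE (⊤ : Subgroup K) (chainN t) :=
    ⟨Nat.finite_of_card_ne_zero (by rwa [Subgroup.card_top, cK]), by rw [Subgroup.card_top, cK]⟩
  exact equiv_top_of_tables hg hh hi hi' (fun x hx f => eq_one_of_chain hi hg c hA a (hA hx) fun b hb => f b (chain_lt t c b hb))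
    (fun x hx f => eq_one_of_chain hi' hh c le_top b trivial fun b hb => f b (chain_lt t c b hb))
    (chain_gen_eq hi hg c hA a).1 (chain_gen_eq hi' hh c le_top b).1

theorem surj_of_card {G K : Type*} [Group G] [Group K] (φ : G →* K) {a b : ℕ} (h1 : Nat.card φ.ker = a) (h2 : Nat.card K = b)
    (h3 : Nat.card G = a * b) (ha : a ≠ 0) (hb : b ≠ 0) : Function.Surjective φ := by
  have := Nat.finite_of_card_ne_zero (h2 ▸ hb)
  have c := φ.ker.card_mul_index
  rw [Subgroup.index_ker, h1, h3] at c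
  exact MonoidHom.range_eq_top.1 (Subgroup.eq_top_of_card_eq _ ((Nat.eq_of_mul_eq_mul_left (Nat.pos_of_ne_zero ha) c).trans h2.symm))

theorem getD_prop {α : Type*} {P : α → Prop} {L : List α} {d : α} (h : ∀ x ∈ d :: L, P x) (c : ℕ) : P (L.getD c d) := by
  rw [List.getD_eq_getElem?_getD]
  cases e : L[c]? with
  | none => exact h d List.mem_cons_self
  | some x => exact h x (List.mem_cons_of_mem _ (List.mem_of_getElem? e))

theorem getD_all {α : Type*} (P : α → Prop) [DecidablePred P] {L : List α} {d : α}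
    (h : (d :: L).all (fun x => decide (P x)) = true) (c : ℕ) : P (L.getD c d) :=
  getD_prop (fun x hx => of_decide_eq_true (List.all_eq_true.1 h x hx)) c

section PSL
variable {K F : Type*} [Field K] [Field F] {n : ℕ}

theorem comp_ne (f : K →+* F) {v : Fin n → K} (h : v ≠ 0) : f ∘ v ≠ 0 := fun e =>
  h (funext fun i => f.injective ((congrFun e i).trans (map_zero f).symm))

noncomputable def ppt (f : K →+* F) (v : ℕ → Fin n → K) (hv : ∀ c, v c ≠ 0) (c : ℕ) : ℙ F (Fin n → F) :=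
  Projectivization.mk F (f ∘ v c) (comp_ne f (hv c))

noncomputable def pel (f : K →+* F) (M : ℕ → Matrix (Fin n) (Fin n) K) (hM : ∀ j, (M j).det = 1) (j : ℕ) :
    ProjectiveSpecialLinearGroup (Fin n) F := (SpecialLinearGroup.map f ⟨M j, hM j⟩ : SpecialLinearGroup (Fin n) F)

theorem psl_reps (f : K →+* F) {v : ℕ → Fin n → K} (hv : ∀ c, v c ≠ 0) {M : ℕ → Matrix (Fin n) (Fin n) K}
    (hM : ∀ j, (M j).det = 1) {T : ℕ → ℕ → ℕ} {N m : ℕ}
    (h : ∀ j < m, ∀ c < N, T j c < N ∧ ∃ a : K, ∀ i, a * v (T j c) i = (M j *ᵥ v c) i) :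
    Reps (ppt f v hv) N (pel f M hM) T m := fun j hj c hc => by
  obtain ⟨p, a, e⟩ := h j hj c hc
  exact ⟨p, (Projectivization.mk_eq_mk_iff' F ((M j).map f *ᵥ (f ∘ v c)) _ _ _).2 ⟨f a, funext fun i => by
    rw [← RingHom.map_mulVec, ← e, map_mul]; rfl⟩⟩

theorem psl_inj (f : K ≃+* F) {v : ℕ → Fin n → K} (hv : ∀ c, v c ≠ 0) {N : ℕ}
    (h : ∀ c < N, ∀ d < N, ∀ a : K, (∀ i, a * v d i = v c i) → c = d) : Inj (ppt f.toRingHom v hv) N := fun c hc d hd e => by
  obtain ⟨a, e⟩ := (Projectivization.mk_eq_mk_iff' F _ _ _ _).1 e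
  obtain ⟨a, rfl⟩ := f.surjective a
  exact h c hc d hd a fun i => f.injective ((map_mul f _ _).trans (congrFun e i))

theorem gl_eq_one {b : GL (Fin n) K} (h : ∀ i, b • (Pi.single i 1 : Fin n → K) = Pi.single i 1) : b = 1 :=
  Units.ext (Matrix.ext fun i j => by
    have := congrFun (h j) i
    change (b.1 *ᵥ _) i = _ at this
    rw [mulVec_single_one] at this
    exact this.trans (by rw [Units.val_one, one_apply, Pi.single_apply]))

/-- invertible matrices given with their inverses -/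
def glU [DecidableEq K] (L : List (Matrix (Fin n) (Fin n) K × Matrix (Fin n) (Fin n) K))
    (h : ((1, 1) :: L).all (fun x => decide (x.1 * x.2 = 1 ∧ x.2 * x.1 = 1)) = true) (j : ℕ) : GL (Fin n) K :=
  ⟨(L.getD j (1, 1)).1, (L.getD j (1, 1)).2, (getD_all _ h j).1, (getD_all _ h j).2⟩

end PSL

theorem card_GL23 : Nat.card (GL (Fin 2) (ZMod 3)) = 48 := by
  have := Fact.mk Nat.prime_three
  rw [card_GL_field]; simp [Fin.prod_univ_two]

theorem card_GL32 : Nat.card (GL (Fin 3) (ZMod 2)) = 168 := by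
  rw [card_GL_field]; simp [Fin.prod_univ_three]

/-- the group acting on itself by conjugation -/
def Cj : Type := M24
instance : MulAction M24 Cj := MulAction.compHom M24 (MulAut.conj : M24 →* MulAut M24)
/-- the group acting on its subgroups by conjugation -/
def SG : Type := Subgroup M24
instance : MulAction M24 SG := MulAction.compHom (Subgroup M24) (MulAut.conj : M24 →* MulAut M24)

noncomputable def cjP (X : ℕ → ℕ) (c : ℕ) : Cj := m24 (X c)
noncomputable def sgP (X : ℕ → ℕ) (c : ℕ) : SG := Subgroup.zpowers (m24 (X c))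

def FamI (C : ℕ → ℕ) (m : ℕ) : Prop := ∀ j < m, okE (C j) = 0 ∧ C j < 32 ^ 24
noncomputable instance (C : ℕ → ℕ) (m : ℕ) : Decidable (FamI C m) := by unfold FamI; infer_instance
theorem FamI.is {C : ℕ → ℕ} {m j : ℕ} (h : FamI C m) (hj : j < m) : Is (m24 (C j)) (C j) := is_m24 (h j hj).1 (h j hj).2
theorem FamI.ok {C : ℕ → ℕ} {m : ℕ} (h : FamI C m) : FamOK C m := fun j hj => (h j hj).1

def toCj (x : M24) : Cj := x
theorem cj_smul_iff {g x y : M24} : g • toCj x = toCj y ↔ g * x = y * g :=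
  (mul_inv_eq_iff_eq_mul : g * x * g⁻¹ = y ↔ _)

theorem cj_reps {C X : ℕ → ℕ} {m N : ℕ} (hC : FamI C m) (hX : FamI X N) {T : ℕ → ℕ → ℕ}
    (h : ∀ j < m, ∀ c < N, T j c < N ∧ cmp (C j) (X c) = cmp (X (T j c)) (C j)) : Reps (cjP X) N (fam C) T m :=
  fun j hj c hc => ⟨(h j hj c hc).1, cj_smul_iff.2 ((((hC.is hj).mul (hX.is hc)).eq_iff
    ((hX.is (h j hj c hc).1).mul (hC.is hj))).2 (h j hj c hc).2)⟩

theorem cj_inj {X : ℕ → ℕ} {N : ℕ} (hX : FamI X N) (h : ∀ c < N, ∀ d < N, X c = X d → c = d) : Inj (cjP X) N :=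
  fun c hc d hd e => h c hc d hd (((hX.is hc).eq_iff (hX.is hd)).1 e)

noncomputable def pwc (c k : ℕ) : ℕ := Nat.rec idc (fun _ ih => cmp ih c) k

theorem Is.pow {g : M24} {c : ℕ} (a : Is g c) : ∀ k, Is (g ^ k) (pwc c k)
  | 0 => pow_zero g ▸ is_one
  | k + 1 => pow_succ g k ▸ (a.pow k).mul a

theorem sg_reps {C X : ℕ → ℕ} {m N p : ℕ} (hC : FamI C m) (hX : FamI X N) (ho : ∀ c < N, orderOf (m24 (X c)) = p)
    {T E : ℕ → ℕ → ℕ} (h : ∀ j < m, ∀ c < N, T j c < N ∧ cmp (C j) (X c) = cmp (pwc (X (T j c)) (E j c)) (C j)) :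
    Reps (sgP X) N (fam C) T m := fun j hj c hc => ⟨(h j hj c hc).1, (conj_zpowers _ _).trans (by
  have e := mul_inv_eq_of_eq_mul ((((hC.is hj).mul (hX.is hc)).eq_iff
    (((hX.is (h j hj c hc).1).pow _).mul (hC.is hj))).2 (h j hj c hc).2)
  exact Subgroup.eq_of_le_of_card_ge (Subgroup.zpowers_le.2 (e ▸ Subgroup.pow_mem _ (Subgroup.mem_zpowers _) _)) (by
    rw [sgP, Nat.card_zpowers, Nat.card_zpowers, ord_conj, ho c hc, ho _ (h j hj c hc).1]))⟩

theorem sg_inj {X : ℕ → ℕ} {N : ℕ} (hX : FamI X N) (h : ∀ c < N, ∀ d < N, cmp (X c) (X d) = cmp (X d) (X c) → c = d) :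
    Inj (sgP X) N := fun c hc d hd e => h c hc d hd (((hX.is hc).comm_iff (hX.is hd)).1 (by
  obtain ⟨k, e⟩ : m24 (X c) ∈ Subgroup.zpowers (m24 (X d)) :=
    (show Subgroup.zpowers _ = Subgroup.zpowers _ from e) ▸ Subgroup.mem_zpowers _
  exact e ▸ (Commute.zpow_self _ k).eq))

theorem Is.ordp {g : M24} {c p : ℕ} (a : Is g c) (hp : p.Prime) (h : pwc c p = idc ∧ c ≠ idc) : orderOf g = p := by
  have := Fact.mk hp
  exact orderOf_eq_prime ((a.pow p).eq_one.2 h.1) (mt a.eq_one.1 h.2)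

/-- when all `p`-elements of `K` have exponent `p` and their number is a power of `p` they form a subgroup -/
theorem exists_pset {G : Type*} [Group G] [Finite G] (K : Subgroup G) {p n : ℕ} (hp : p.Prime) (hd : p ^ n ∣ Nat.card K)
    (h : ∀ x ∈ K, x ^ p ^ n = 1 → x ^ p = 1) (c : Nat.card {x // x ∈ K ∧ x ^ p = 1} = p ^ n) :
    ∃ N : Subgroup G, ∀ x, x ∈ N ↔ x ∈ K ∧ x ^ p = 1 := by
  have := Fact.mk hp
  obtain ⟨P, hP⟩ := Sylow.exists_subgroup_card_pow_prime p hd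
  have e : Nat.card (P.map K.subtype) = p ^ n := by rw [Subgroup.card_map_of_injective K.subtype_injective, hP]
  refine ⟨P.map K.subtype, Set.ext_iff.1 (Set.eq_of_subset_of_ncard_le (s := (P.map K.subtype : Set G))
    (t := {x | x ∈ K ∧ x ^ p = 1}) (fun x hx => ?_) (c.trans e.symm).le)⟩
  have k := Subgroup.map_subtype_le P hx
  exact ⟨k, h x k (congrArg Subtype.val (e ▸ pow_card_eq_one' (x := (⟨x, hx⟩ : P.map K.subtype))))⟩

theorem m12_map3' {d : Finset GolayPt} (hd : d ∈ dodecads) {p q r : GolayPt} (hp : p ∈ d) (hq : q ∈ d) (hr : r ∈ d)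
    (hpq : p ≠ q) (hpr : p ≠ r) (hqr : q ≠ r) :
    ∃ a : M24, a • bset 340831 = d ∧ a • gp 0 = p ∧ a • gp 12 = q ∧ a • gp 16 = r := by
  obtain ⟨a, a1, a2, a3, a4⟩ := m12_map3 hd hp hq hr hpq hpr hqr
  obtain ⟨b, b1, b2, b3, b4⟩ := m12_map3 d0_mem (p := gp 0) (q := gp 12) (r := gp 16) m0 (by decide +kernel) (by decide +kernel)
    (by decide) (by decide) (by decide)
  exact ⟨a * b⁻¹, by rw [mul_smul, inv_smul_eq_iff.2 b1.symm, a1], by rw [mul_smul, inv_smul_eq_iff.2 b2.symm, a2],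
    by rw [mul_smul, ← b3, inv_smul_smul, a3], by rw [mul_smul, ← b4, inv_smul_smul, a4]⟩

abbrev M9 : Subgroup M24 :=
  stabilizer M24 (bset 340831) ⊓ stabilizer M24 (gp 0) ⊓ stabilizer M24 (gp 12) ⊓ stabilizer M24 (gp 16)

def L9 : List (ℕ × ℕ) := [(340831, 340831), (2 ^ 0, 2 ^ 0), (2 ^ 12, 2 ^ 12), (2 ^ 16, 2 ^ 16)]

theorem mem_M9 (g : M24) : g ∈ M9 ↔ ∀ x ∈ L9, g • bset x.1 = bset x.2 := by
  simp only [L9, List.forall_mem_cons, smul_single (i := 0) (j := 0) (by norm_num) (by norm_num),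
    smul_single (i := 12) (j := 12) (by norm_num) (by norm_num), smul_single (i := 16) (j := 16) (by norm_num) (by norm_num)]
  simp [and_assoc]

theorem card_M9 : Nat.card M9 = 72 := (card_sub mem_M9).trans (full1.cardS _ (by decide) (by decide +kernel))

theorem Is.mem_M9 {g : M24} {c : ℕ} (a : Is g c) : g ∈ M9 ↔ ∀ x ∈ L9, img c x.1 = x.2 :=
  (Spor.mem_M9 g).trans (a.S_iff (by decide))

theorem conj_M9 (a g : M24) : a * g * a⁻¹ ∈ stabilizer M24 (a • bset 340831) ⊓ stabilizer M24 (a • gp 0) ⊓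
    stabilizer M24 (a • gp 12) ⊓ stabilizer M24 (a • gp 16) ↔ g ∈ M9 := by
  simp only [Subgroup.mem_inf, conj_mem_stab]

end Cfsg.Agent.Spor
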