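import Cfsg.Agent.Lib.Spor.Key

/-! Glue lemmas for reductions to base configurations. -/

set_option autoImplicit false

namespace Cfsg.Agent.Spor

open Cfsg.Agent.PC Finset MulAction
open scoped Pointwise symmDiff

theorem ncard_pre {G X : Type*} [Group G] [MulAction G X] (a : G) (S : Set X) : S.ncard = {y | a • y ∈ S}.ncard :=
  ncard_transport a fun _ => Iff.rfl

theorem cj_set {Y : Type*} [MulAction (Equiv.Perm GolayPt) Y] (a : M24) {g : M24} {s t : Y} (h : g • s = t) :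
    ((a * g * a⁻¹ : M24) : Equiv.Perm GolayPt) • a • s = a • t := by
  rw [← Subgroup.smul_def, conj_smul_smul, h]

theorem cj_pt (a : M24) {g : M24} {s t : GolayPt} (h : g • s = t) :
    ((a * g * a⁻¹ : M24) : Equiv.Perm GolayPt) (a • s) = a • t := cj_set a h

theorem inter_eq_iff {s : Finset GolayPt} {J I : ℕ} :
    s ∩ bset J = bset I ↔ ∀ i < 24, (gp i ∈ s ∧ J.testBit i = true ↔ I.testBit i = true) := by
  rw [Finset.ext_iff]
  constructor
  · intro h i hi
    rw [← gp_mem_bset hi, ← gp_mem_bset hi, ← h, mem_inter]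
  · intro h p
    obtain ⟨i, hi, rfl⟩ := exists_gp p
    rw [mem_inter, gp_mem_bset hi, gp_mem_bset hi, h i hi]

theorem b230 : bset 8388609 = {gp 23, gp 0} := by decide

theorem J11 {s : Finset GolayPt} : s ∩ bset 8388609 = bset 8388609 ↔ gp 23 ∈ s ∧ gp 0 ∈ s := by
  rw [Finset.inter_eq_right, b230]; simp [Finset.insert_subset_iff]
theorem J10 {s : Finset GolayPt} : s ∩ bset 8388609 = bset 8388608 ↔ gp 23 ∈ s ∧ gp 0 ∉ s := by
  rw [b230, b23]
  have : gp 0 ≠ gp 23 := by decide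
  constructor
  · intro h
    have h1 := Finset.ext_iff.mp h (gp 23)
    have h2 := Finset.ext_iff.mp h (gp 0)
    simp only [mem_inter, mem_insert, mem_singleton, this, true_or, or_true, and_true, iff_true, iff_false] at h1 h2
    exact ⟨h1, h2⟩
  · rintro ⟨h1, h2⟩
    rw [Finset.inter_insert_of_mem h1, Finset.inter_singleton_of_notMem h2]; rfl
theorem J1 {s : Finset GolayPt} : s ∩ bset 8388608 = bset 8388608 ↔ gp 23 ∈ s := by
  rw [Finset.inter_eq_right, b23]; simp
theorem J0 {s : Finset GolayPt} : s ∩ bset 8388608 = bset 0 ↔ gp 23 ∉ s := by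
  rw [b23, bset_zero, ← Finset.disjoint_iff_inter_eq_empty]; simp

theorem gen_le_stabP {C : ℕ → ℕ} {m : ℕ} (hC : FamOK C m) (i : ℕ) (hi : i < 24)
    (h : Nat.beq (fixesE (TP C) m i) (nat_lit 0) = true) : gen (fam C) m ≤ stabilizer M24 (gp i) :=
  gen_le_stab hC.repsP hi h

theorem msmul_compl (g : M24) (s : Finset GolayPt) : g • sᶜ = (g • s)ᶜ := by
  rw [Finset.compl_eq_univ_sdiff, Finset.compl_eq_univ_sdiff, Finset.smul_finset_sdiff, Finset.smul_finset_univ]

theorem smul_ex_oct (a : M24) (P : Finset GolayPt → Prop) : (∃ o ∈ octads, P o) ↔ ∃ o ∈ octads, P (a • o) :=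
  ⟨fun ⟨o, h1, h2⟩ => ⟨a⁻¹ • o, (smul_mem_octads _).mpr h1, by simpa using h2⟩,
    fun ⟨o, h1, h2⟩ => ⟨a • o, (smul_mem_octads _).mpr h1, h2⟩⟩

/-- a family whose chain certificate reaches the order of `H` generates `H` -/
theorem gen_eq_of_chain {C : ℕ → ℕ} {m : ℕ} (hC : FamOK C m) {H : Subgroup M24} (hH : gen (fam C) m ≤ H)
    {k : ℕ} (hk : Nat.card H = k) (t : List Lev) (M : ℕ)
    (h : Nat.beq (Nat.add (chainE (TP C) 24 M t m) (Nat.xor (chainN t) k)) (nat_lit 0) = true) :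
    gen (fam C) m = H := by
  obtain ⟨h1, h2⟩ := add_eq_zero' (Nat.eq_of_beq_eq_true h)
  exact (chain_gen_eq gp_inj hC.repsP h1 hH (cardLE_of_card (by rw [hk, xor_eq_zero' h2]))).1

end Cfsg.Agent.Spor
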