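import Cfsg.Agent.Lib.Spor.Iso2

/-! Induced actions on invariant systems of sets. -/

set_option autoImplicit false
set_option linter.unusedVariables false

namespace Cfsg.Agent.Spor

open Cfsg.Agent.PC Finset MulAction
open scoped Pointwise symmDiff

section
variable {X : Type*} [MulAction M24 X] [DecidableEq X]

def resS (E : Finset X) : stabilizer M24 E →* Equiv.Perm E where
  toFun g := (MulAction.toPerm g.1).subtypePerm fun x =>
    (iff_of_eq (congrArg (_ ∈ ·) (mem_stabilizer_iff.1 g.2).symm)).trans (smul_mem_smul_finset_iff g.1)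
  map_one' := Equiv.ext fun x => Subtype.ext (one_smul M24 x.1)
  map_mul' a b := Equiv.ext fun x => Subtype.ext (mul_smul a.1 b.1 x.1)

theorem resS_apply (E : Finset X) (g : stabilizer M24 E) (x : E) : (resS E g x).1 = g.1 • x.1 := rfl

theorem resS_eq_one {E : Finset X} (g : stabilizer M24 E) : resS E g = 1 ↔ ∀ p ∈ E, g.1 • p = p :=
  ⟨fun e p hp => congrArg Subtype.val (DFunLike.congr_fun e (⟨p, hp⟩ : E)), fun e => Equiv.ext fun p => Subtype.ext (e p p.2)⟩

theorem fixS_conj (a g : M24) (s : Finset X) : (∀ p ∈ a • s, (a * g * a⁻¹) • p = p) ↔ ∀ p ∈ s, g • p = p := by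
  refine ⟨fun h p hp => smul_left_cancel a ((conj_smul_smul _ _ _).symm.trans (h _ (smul_mem_smul_finset hp))), fun h p hp => ?_⟩
  obtain ⟨q, hq, rfl⟩ := mem_smul_finset.1 hp
  rw [conj_smul_smul, h q hq]

theorem stab_of_fix {g : M24} {s : Finset X} (h : ∀ p ∈ s, g • p = p) : g • s = s :=
  (image_congr (g := id) h).trans image_id

theorem card_fixS (E : Finset X) (P : M24 → Prop) : Nat.card {g : stabilizer M24 E // (∀ p ∈ E, g.1 • p = p) ∧ P g.1} =
    Nat.card {g : M24 // (∀ p ∈ E, g • p = p) ∧ P g} :=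
  Nat.card_congr (Equiv.subtypeSubtypeEquivSubtype (q := fun g : M24 => (∀ p ∈ E, g • p = p) ∧ P g) fun h => stab_of_fix h.1)

end

theorem tet_eq_iff {s i j : ℕ} (hs : s < 4096) (h : pop (rep s) = 4) (hi : i < 24) (hj : j < 24) :
    tet s i = tet s j ↔ ∃ t ∈ cos s, gp i ∈ t ∧ gp j ∈ t :=
  ⟨fun e => ⟨_, (tet_spec hs h hi).2.1, (tet_spec hs h hi).2.2, e ▸ (tet_spec hs h hj).2.2⟩, fun ⟨t, a, b, c⟩ =>
    bset_inj (tet_spec hs h hi).1 (tet_spec hs h hj).1 ((eq_tet hs h hi a b).symm.trans (eq_tet hs h hj a c))⟩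

theorem prT_ok (s : ℕ) (k : ℕ → ℕ) (h : s < 4096 ∧ pop (rep s) = 4 ∧ ∀ i < 24, ∀ j < 24, k i = k j ↔ tet s i = tet s j) :
    PrOK (fun g => g • cos s = cos s) (prC (fun i j => eqI (k i) (k j)) fun i j => eqI (k i) (k j)) :=
  (prC_ok _ _).mono fun g e i hi j hj i' hi' j' hj' p q => by
    simp only [eqI_eq, h.2.2 i hi j hj, h.2.2 i' hi' j' hj', tet_eq_iff h.1 h.2.1, hi, hj, hi', hj', ← p, ← q]
    refine if_congr ⟨fun ⟨t, a, b, c⟩ => ⟨g • t, e ▸ smul_mem_smul_finset a, smul_mem_smul_finset b, smul_mem_smul_finset c⟩,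
      fun ⟨t, a, b, c⟩ => ?_⟩ rfl rfl
    obtain ⟨t, rfl⟩ := exists_smul g t
    rw [← e, smul_mem_smul_finset_iff] at a
    exact ⟨t, a, (smul_mem_smul_finset_iff g).1 b, (smul_mem_smul_finset_iff g).1 c⟩

end Cfsg.Agent.Spor
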