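import Cfsg.Agent.Lib.Spor.Cls

/-! Small helpers for searches in the group of the length-24 code. -/

set_option autoImplicit false
set_option linter.unusedVariables false

namespace Cfsg.Agent.Spor

open Cfsg.Agent.PC Finset MulAction
open scoped Pointwise symmDiff

def prM (p q : List ℕ → ℕ → ℕ → ℕ → ℕ) (D : List ℕ) (b c x : ℕ) : ℕ := Nat.mul (p D b c x) (q D b c x)

theorem PrOK.or {P Q : M24 → Prop} {p q : List ℕ → ℕ → ℕ → ℕ → ℕ} (h : PrOK P p) (h' : PrOK Q q) :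
    PrOK (fun g => P g ∨ Q g) (prM p q) := fun g D b c x a a1 a2 a3 a4 =>
  Nat.mul_eq_zero.2 (a.imp (fun a => h g D b c x a a1 a2 a3 a4) fun a => h' g D b c x a a1 a2 a3 a4)

theorem exists_zpowers {G : Type*} [Group G] {X : Subgroup G} {p : ℕ} (hp : p.Prime) (h : Nat.card X = p) :
    ∃ x, orderOf x = p ∧ X = Subgroup.zpowers x := by
  have := Fact.mk hp
  have : Finite X := Nat.finite_of_card_ne_zero (h ▸ hp.ne_zero)
  obtain ⟨x, hx⟩ := exists_prime_orderOf_dvd_card' (G := X) p h.symm.dvd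
  have e : orderOf x.1 = p := (Subgroup.orderOf_coe x).trans hx
  exact ⟨x, e, (Subgroup.eq_of_le_of_card_ge (by simp) (by rw [Nat.card_zpowers, e, h])).symm⟩

theorem conj_zpowers {G : Type*} [Group G] (a x : G) : MulAut.conj a • Subgroup.zpowers x = Subgroup.zpowers (a * x * a⁻¹) :=
  MonoidHom.map_zpowers _ _

theorem zp_conj {G : Type*} [Group G] (a x y : G) :
    a * y * a⁻¹ ∈ Subgroup.zpowers (a * x * a⁻¹) ↔ y ∈ Subgroup.zpowers x := by
  rw [← conj_zpowers]; exact Subgroup.smul_mem_pointwise_smul_iff (a := MulAut.conj a)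

theorem mem_norm_zp {G : Type*} [Group G] [Finite G] (x g : G) :
    g ∈ Subgroup.normalizer (Subgroup.zpowers x : Set G) ↔ g * x * g⁻¹ ∈ Subgroup.zpowers x :=
  ⟨fun h => (Subgroup.mem_normalizer_iff.1 h x).1 (Subgroup.mem_zpowers x), fun h =>
    Subgroup.mem_normalizer_fintype fun n hn => (Subgroup.zpowers_le.2 h) ((zp_conj g x n).2 hn)⟩

theorem mem_cent_zp {G : Type*} [Group G] (x g : G) :
    g ∈ Subgroup.centralizer (Subgroup.zpowers x : Set G) ↔ g * x = x * g := by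
  rw [Subgroup.zpowers_eq_closure, Subgroup.centralizer_closure, Subgroup.mem_centralizer_singleton_iff]

theorem comm_conj {G : Type*} [Group G] (a x y : G) :
    a * y * a⁻¹ * (a * x * a⁻¹) = a * x * a⁻¹ * (a * y * a⁻¹) ↔ y * x = x * y := by
  rw [conj_mul, conj_mul, mul_left_inj, mul_right_inj]

theorem Is.comm_iff {g h : M24} {c d : ℕ} (a : Is g c) (b : Is h d) : g * h = h * g ↔ cmp c d = cmp d c :=
  (a.mul b).eq_iff (b.mul a)

theorem card_M24_sub (P : Equiv.Perm GolayPt → Prop) :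
    Nat.card {c : Equiv.Perm GolayPt // c ∈ M24 ∧ P c} = Nat.card {g : M24 // P g.1} :=
  Nat.card_congr (Equiv.subtypeSubtypeEquivSubtypeInter _ _).symm

theorem card_conj (a : M24) {P Q : M24 → Prop} (h : ∀ g, Q (a * g * a⁻¹) ↔ P g) : Nat.card {g // Q g} = Nat.card {g // P g} :=
  (Nat.card_congr ((MulAut.conj a).toEquiv.subtypeEquiv fun g => (h g).symm)).symm

/-- an explicit list of elements moving the point `b` everywhere -/
def Cov (b : ℕ) (L : List ℕ) (n : ℕ) : Prop := ∀ i < 24, n.testBit i = true → ∃ c ∈ L, pf c b = i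

noncomputable instance (b : ℕ) (L : List ℕ) (n : ℕ) : Decidable (Cov b L n) := by unfold Cov; infer_instance

def AllOK (L : List ℕ) : Prop := ∀ c ∈ L, okE c = 0 ∧ c < 32 ^ 24

noncomputable instance (L : List ℕ) : Decidable (AllOK L) := by unfold AllOK; infer_instance

theorem AllOK.is {L : List ℕ} (h : AllOK L) {c : ℕ} (hc : c ∈ L) : Is (m24 c) c := is_m24 (h c hc).1 (h c hc).2

theorem Cov.ex {b n : ℕ} {L : List ℕ} (h : Cov b L n) (hb : b < 24) (hL : AllOK L) {p : GolayPt} (hp : p ∈ bset n) :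
    ∃ c ∈ L, m24 c • gp b = p := by
  obtain ⟨c, hc, e⟩ := h (gi p) (gi_lt p) (mem_bset.1 hp)
  exact ⟨c, hc, by rw [(hL.is hc).gp hb, e, gp_gi]⟩

theorem Cov.trans {b n : ℕ} {L : List ℕ} (h : Cov b L n) (hb : b < 24) (hL : AllOK L) {H : Subgroup M24}
    (hH : ∀ c ∈ L, m24 c ∈ H) {p q : GolayPt} (hp : p ∈ bset n) (hq : q ∈ bset n) : ∃ g ∈ H, g • p = q := by
  obtain ⟨c, hc, rfl⟩ := h.ex hb hL hp
  obtain ⟨d, hd, rfl⟩ := h.ex hb hL hq
  exact ⟨m24 d * (m24 c)⁻¹, H.mul_mem (hH d hd) (H.inv_mem (hH c hc)), by rw [mul_smul, inv_smul_smul]⟩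

end Cfsg.Agent.Spor
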