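import Cfsg.Agent.Lib.Spor.Tree

/-! Classes of elements of order 2 and 3, and counts of invariant structures. -/

set_option autoImplicit false
set_option linter.unusedVariables false

namespace Cfsg.Agent.Spor

open Cfsg.Agent.PC Finset MulAction
open scoped Pointwise symmDiff

variable {g h : M24} {c d : ℕ}

def Fx (g : M24) : Finset GolayPt := univ.filter fun p => g.1 p = p

theorem mem_Fx {p : GolayPt} : p ∈ Fx g ↔ g • p = p := by rw [Fx, mem_filter]; exact ⟨fun h => h.2, fun h => ⟨mem_univ _, h⟩⟩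

theorem Fx_conj (a g : M24) : Fx (a * g * a⁻¹) = a • Fx g := by
  ext p
  obtain ⟨p, rfl⟩ := exists_smul a p
  rw [smul_mem_smul_finset_iff, mem_Fx, mem_Fx, conj_smul_smul, smul_left_cancel_iff]

theorem card_Fx_of_conj (e : IsConj g h) : (Fx g).card = (Fx h).card := by
  obtain ⟨a, rfl⟩ := isConj_iff.1 e
  rw [Fx_conj, card_smul_finset]

theorem Is.card_Fx (a : Is g c) : (Fx g).card = nfx c := a.card_fix

theorem Is.eq_one (a : Is g c) : g = 1 ↔ c = idc := a.eq_iff is_one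

theorem conj_eq_one' {G : Type*} [Group G] (a g : G) : a * g * a⁻¹ = 1 ↔ g = 1 := by
  rw [mul_inv_eq_one, mul_eq_left]

theorem fix5 (h : 5 ≤ (Fx g).card) : g = 1 ∨ (Fx g).card = 8 ∧ g * g = 1 ∨ (Fx g).card = 6 ∧ g * (g * g) = 1 := by
  obtain ⟨s, hs, h5⟩ := exists_subset_card_eq h
  obtain ⟨a, e⟩ := mapSet (t := bset 8474625) (h5.trans (by rw [card_bset]; decide +kernel)) h5.le
  obtain ⟨c, b⟩ := exists_is (a * g * a⁻¹)
  have := full1.all (fun c => c = idc ∨ nfx c = 8 ∧ cmp c c = idc ∨ nfx c = 6 ∧ cmp c (cmp c c) = idc) (prF_ok 8474625)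
    (by decide +kernel) b fun p hp => mem_Fx.1 (by rw [Fx_conj]; exact smul_finset_subset_smul_finset hs (e ▸ hp))
  rwa [← b.eq_one, ← (b.mul b).eq_one, ← (b.mul (b.mul b)).eq_one, ← b.card_Fx, conj_mul, conj_mul, conj_eq_one',
    conj_eq_one', conj_eq_one', Fx_conj, card_smul_finset] at this

theorem fix_le (h : g ≠ 1) : (Fx g).card ≤ 8 := by
  by_contra n
  rcases fix5 (g := g) (by omega) with e | e | e
  · exact h e
  all_goals omega

theorem exists_not_fix (h : g ≠ 1) (s : Finset GolayPt) (hs : s.card ≤ 15) : ∃ p, g • p ≠ p ∧ p ∉ s := by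
  obtain ⟨p, -, hp⟩ := exists_mem_notMem_of_card_lt_card (s := Fx g ∪ s) (t := univ) (by
    have := card_union_le (Fx g) s
    have := fix_le h
    rw [card_univ, card_golayPt]; omega)
  rw [mem_union, not_or, mem_Fx] at hp
  exact ⟨p, hp⟩

def CjL (a b : ℕ) (L : List (ℕ × ℕ)) : Prop :=
  ∀ x ∈ L, okE x.2 = 0 ∧ x.2 < 32 ^ 24 ∧ (cmp x.2 x.1 = cmp a x.2 ∨ cmp x.2 x.1 = cmp b x.2)

noncomputable instance (a b : ℕ) (L : List (ℕ × ℕ)) : Decidable (CjL a b L) := by unfold CjL; infer_instance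

theorem conj_of_list {A B : M24} {a b : ℕ} (hA : Is A a) (hB : Is B b) {L : List (ℕ × ℕ)} (hL : CjL a b L) (hg : Is g c)
    (h : c ∈ L.map Prod.fst) : IsConj g A ∨ IsConj g B := by
  obtain ⟨x, hx, rfl⟩ := List.mem_map.1 h
  obtain ⟨p, q, r⟩ := hL x hx
  have k := is_m24 p q
  exact r.imp (fun e => isConj_iff.2 ⟨_, mul_inv_eq_of_eq_mul (((k.mul hg).eq_iff (hA.mul k)).2 e)⟩)
    (fun e => isConj_iff.2 ⟨_, mul_inv_eq_of_eq_mul (((k.mul hg).eq_iff (hB.mul k)).2 e)⟩)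

def tA : ℕ := nat_lit 0x5aa124a30130ee1a548698b35be97
def tB : ℕ := nat_lit 0x509631da12b22e52c6294df54a217
def uA : ℕ := nat_lit 0x59ea349d11c277590e82b534a882c
def uB : ℕ := nat_lit 0x15113cd41ac2d71506f925ab311cc
theorem is_tA : Is (m24 tA) tA := is_of (by decide +kernel)
theorem is_tB : Is (m24 tB) tB := is_of (by decide +kernel)
theorem is_uA : Is (m24 uA) uA := is_of (by decide +kernel)
theorem is_uB : Is (m24 uB) uB := is_of (by decide +kernel)
theorem fx_tA : (Fx (m24 tA)).card = 8 := is_tA.card_Fx.trans (by decide +kernel)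
theorem fx_tB : (Fx (m24 tB)).card = 0 := is_tB.card_Fx.trans (by decide +kernel)
theorem fx_uA : (Fx (m24 uA)).card = 6 := is_uA.card_Fx.trans (by decide +kernel)
theorem fx_uB : (Fx (m24 uB)).card = 0 := is_uB.card_Fx.trans (by decide +kernel)

theorem Is.ord2 (a : Is g c) : orderOf g = 2 ↔ cmp c c = idc ∧ c ≠ idc := by
  rw [orderOf_eq_prime_iff, sq, (a.mul a).eq_one, Ne, a.eq_one]

theorem Is.ord3 (a : Is g c) : orderOf g = 3 ↔ cmp c (cmp c c) = idc ∧ c ≠ idc := by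
  rw [orderOf_eq_prime_iff, pow_three, (a.mul (a.mul a)).eq_one, Ne, a.eq_one]

theorem ord_tA : orderOf (m24 tA) = 2 := is_tA.ord2.2 (by decide +kernel)
theorem ord_tB : orderOf (m24 tB) = 2 := is_tB.ord2.2 (by decide +kernel)
theorem ord_uA : orderOf (m24 uA) = 3 := is_uA.ord3.2 (by decide +kernel)
theorem ord_uB : orderOf (m24 uB) = 3 := is_uB.ord3.2 (by decide +kernel)

theorem ord_conj {G : Type*} [Group G] (a g : G) : orderOf (a * g * a⁻¹) = orderOf g :=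
  (MulAut.conj a).orderOf_eq g

def cl2 : List (ℕ × ℕ) := [(nat_lit 0x2cd3a29230b04eb4a2525507835f7, nat_lit 0xbc9657c6d0138cc3b683aa9240cd00), (nat_lit 0x284d325634328e8da4f0cc85854f7, nat_lit 0xbd9ea34a30ab96c6d0e44cc4809460), (nat_lit 0x269512d43230ce946c74342f84cb7, nat_lit 0xbc4d35da504b9eca1da8116a30a880), (nat_lit 0x2241554a61b0ee14c966c2297ae97, nat_lit 0xbc68a25a507b92c3550d184e22cd60), (nat_lit 0x162b222a61312ea1db2542d30bc77, nat_lit 0xbd9a51ca305baac78887406899a8c0), (nat_lit 0x56cf69506a326e1a5512424758457, nat_lit 0xbc8f3446d03384c5a474205b5515e0), (nat_lit 0x3cab94c44b306ea04e64a2b06c557, nat_lit 0xbd94f3ca30a384c2d4c39a56143480), (nat_lit 0x4e95b09e48b10e48d6d284f0548d7, nat_lit 0xbc6666da503baac52564289e11d100), (nat_lit 0x9278be649302e2a2aaa0d70359b7, nat_lit 0xbc8aba46d06b92c989e8554c121c60), (nat_lit 0x102683c53930ae48d67451b6546b7, nat_lit 0xbc5f50da50a38cc4a8624126d59ca0), (nat_lit 0x3d4780893b302e35509a2c712c9b7,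 nat_lit 0xbc8c90c6d03b96c14c951a0b47b540), (nat_lit 0x8a9811f38b14e3b6865a2b20d877, nat_lit 0xbd9620ca306b9eca950920d4735260), (nat_lit 0x4caab3c829312e0d1a61a2b13c177, nat_lit 0xbd933a4a303b88c41aab7a86d28440), (nat_lit 0x3da889262b32ae48d7431c32540b7, nat_lit 0xbc4453da506b90c1ad2f34c94506a0), (nat_lit 0x116794de28b02ea98a3a2936441b7, nat_lit 0xbcaaa6c6d0a386c23c465950798520), (nat_lit 0x51567b4279b24e454ab80d2231237, nat_lit 0xbca671c6d04b9ac2990f0904aaae80), (nat_lit 0x5121d1a74b22e111f5814ca9aed7, nat_lit 0xbc55445a50ab8ec9bc8b08d25119a0), (nat_lit 0x345128687332ce52c6483e684d657, nat_lit 0xbd8ad24a3013a8c52c660a2b34bce0), (nat_lit 0x1a023a0b50b08e1a5529da2d5d1f7, nat_lit 0xbc824346d0439ec50d2d99e855d440), (nat_lit 0x2209214d51316e686961c6533bd57, nat_lit 0xbd8285ca301b8cc990542b4ea7a6a0), (nat_lit 0x1601599154b0ee989f16cac322a97, nat_lit 0xbc4237da502396c2a2a7551b330920), (nat_lit 0x509631da12b22e52c6294df54a217,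 nat_lit 0xbdab49ca307b9ac5a928398a418820), (nat_lit 0x1d115b6815324e9bc95b14c910e17, nat_lit 0xbc5272da5033a8c7cc436ad4825420), (nat_lit 0x34727d0e19b2ce299098a962a9217, nat_lit 0xbc84d546d05b8ec316a4a3e6342420), (nat_lit 0x351051c345b2ce7cc55914c322637, nat_lit 0xbc461ada50439ac111e9a2966994e0), (nat_lit 0x1d70785b49b22eaa0cab246229257, nat_lit 0xbc8814c6d01ba8caa0c23cdeb2a9a0), (nat_lit 0x670ab4f44324e52c6f89046496d7, nat_lit 0xbd90114a30238ec48d75694cf54e80), (nat_lit 0x1df24502dab20e52c73b088549a37, nat_lit 0xbd8c77ca309b82c1a545a5502591a0), (nat_lit 0x5116484ed1b20e20a75894cb7aa57, nat_lit 0xbc56d35a502b82c20a6a3a4757a280), (nat_lit 0x53179e8d9b20e316a392d42412d7, nat_lit 0xbc9f45c6d05382c454b36888930ce0), (nat_lit 0x56c3218a81314e0b4f04ca33a3d77, nat_lit 0xbda954ca30538ac13e6131da322d00), (nat_lit 0x16440d4c83b04e1a5507c6d45b677, nat_lit 0xbc9a2ac6d02ba6c4ad417d0e819880), (nat_lit 0x1a21196a8530ee23c506da4b9a697,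 nat_lit 0xbc4e915a509b94ca98a15b68443c60), (nat_lit 0x5aa124a30130ee1a548698b35be97, nat_lit 0xbdab49ca307b9ac5a928398a418820), (nat_lit 0x58a79ca307b02e48d66a22a4509b7, nat_lit 0xbc5272da5033a8c7cc436ad4825420), (nat_lit 0x59147ca309b1ae52c75394c249037, nat_lit 0xbc9657c6d0138cc3b683aa9240cd00), (nat_lit 0x58cd14a302328e5a9250d50f1ccf7, nat_lit 0xbc84d546d05b8ec316a4a3e6342420), (nat_lit 0x56c14a0c55b0ee792726c60a10e97, nat_lit 0xbc5ab9da501386c414d449c2fa9140), (nat_lit 0x1a4a255051306e3d0315da136bd37, nat_lit 0xbd8e654a304b90c24dedad02b10ca0), (nat_lit 0x2233a1aa56b1ee1a55614a0159c97, nat_lit 0xbca8f2c6d0ab88c1a967134264a260), (nat_lit 0x48e61da115b10e7888dad0299a8b7, nat_lit 0xba436a8d6a33a4c989e7851a522220), (nat_lit 0x48c725a111302e52c65a55134bdb7, nat_lit 0xbd4b47110258e293ca13b3ccc0a9a0), (nat_lit 0x4a955da111b0ae9904131daa7a517, nat_lit 0xba9e58ac6993aac68693408903d8c0), (nat_lit 0x4ab415a11231ae48d68398af54c37,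 nat_lit 0xbbcd0a08933ba2c5a468b16ad50640), (nat_lit 0x48284da11530ce13e742b4e322eb7, nat_lit 0xba83242c692bacc23c478d1a69d600), (nat_lit 0x49a555a114b2ae24de74068b10cd7, nat_lit 0xba44680d6ab390c68684abe713c8a0), (nat_lit 0x49019da117b0ee5a935694c418a97, nat_lit 0xbbd27b08938382ca98aaa0d72445a0), (nat_lit 0x48ad7da119b28e1a5460a2a2590f7, nat_lit 0xbd5727910228ce98d2cc8395369820), (nat_lit 0x4c67b104f8302e414cba2552ac5b7, nat_lit 0xbc9033c6d00b94c7926549aad15160), (nat_lit 0x8e594c8f830ce48d61ab69155917, nat_lit 0xbc488a5a500b8ac58d53abc474b4c0), (nat_lit 0x10a388a6f8316e69c26522b6a4937, nat_lit 0xbd8646ca300ba6c320aa12d34a9de0), (nat_lit 0x44892c2d24306e09e8f50a7569977, nat_lit 0xb8e480ad2a6baac7cc5135a07250a0), (nat_lit 0x4507142d22302e1a555a14cf5cdb7, nat_lit 0xb90c7a22a288e0972973915ed65820), (nat_lit 0x4663ac2d23312e385a25bc85a2157, nat_lit 0xb8d1212d2a9ba0ca3425b1aa43be20), (nat_lit 0x44c17c2d29b0ee48d656d50251297,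 nat_lit 0xb9151922a238ec9798aca2dc19c1a0), (nat_lit 0x45eb342d2ab14ea34241cc4839537, nat_lit 0xbaeb678d4923a2ca34269151338a00), (nat_lit 0x444a442d22b16e6d0f3491e60d477, nat_lit 0xbaed508d496b90c111f02ca279d0c0), (nat_lit 0x46ad9c2d27b28e52c68098a4488f7, nat_lit 0xb8a21311f3aba8c1ad323c2c8515a0), (nat_lit 0x44b4242d2131ae5a9263a2b31bc37, nat_lit 0xb8831491f35bacc2d4cd81e8a40e40), (nat_lit 0x41646c6560b26ea950910d5431df7, nat_lit 0xbae959a46a7b8ccb424743424888a0), (nat_lit 0x40a114656230ee52c666a2af4ce97, nat_lit 0xba2d05548270e492bccd3c68c9ac20), (nat_lit 0x4153a46563b08e2d4c37a56d40457, nat_lit 0xb8c516a969a3a4c2a2b3b11e730600), (nat_lit 0x42a77c6569b02e5a928a18a2191b7, nat_lit 0xb90b45bc531b8ec85a280d4ca925a0), (nat_lit 0x412f3c656a304e41aab9a8612b497, nat_lit 0xb8e8822969138ac946c7ab43383cc0), (nat_lit 0x40620c6566b1ee320aa22d27ad277, nat_lit 0xbadf06a46aa3acc3550494c4728620), (nat_lit 0x40d49c6567b1ae1a5453d50458837,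 nat_lit 0xb9076abc532ba0c3d02a8ad2869a40), (nat_lit 0x410d246561328e48d75094d353cf7, nat_lit 0xba2163548278e895b94189e53615a0), (nat_lit 0xcc26a54b3b26e846457d501b5097, nat_lit 0xbc955146d07b90c0d1a92ac73390c0), (nat_lit 0x282510d2b2310e85a2d31e8f94eb7, nat_lit 0xbc4a24da505b88c0b4f59990aa0de0), (nat_lit 0x25ed2a86bab28e84ac2092668a0f7, nat_lit 0xbda69aca303386c09e8253c856a160), (nat_lit 0x2e6da8d492b28eb4604089e8918f7, nat_lit 0xbd84b44a302b94ca3433191e63d520), (nat_lit 0x28cf0ac69a308e95a051550d89e77, nat_lit 0xbc926246d09b8ac69c2a40d6fa0aa0), (nat_lit 0xce812969230ae8ca14a85afb4cd7, nat_lit 0xbc6af1da5053a6c3d025220cb6a440), (nat_lit 0xc8d42d2a3328e942330bc55b14f7, nat_lit 0xbd8832ca304392c385af58a75a1940), (nat_lit 0x24c438d6a6b1ee8c2c59d51490457, nat_lit 0xbc8689c6d023aaca04eb325426bca0), (nat_lit 0x2da61246a232aeb42412d0ef8cd17, nat_lit 0xbc50455a501b84c686867d4a93ae60)]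
def cl3 : List (ℕ × ℕ) := [(nat_lit 0x9ea39a83240b7b464d0a51572e6c, nat_lit 0xbd9ea34a30ab96c6d0e44cc4809460), (nat_lit 0x50e9288c30c1f78cad542c93729ac, nat_lit 0xb99495b8a83d66cb0471a34447c240), (nat_lit 0x18ab7d043440f795a332282d726ac, nat_lit 0xba5e4708e58594c59a61a0eb16c900), (nat_lit 0x59b43ba325c0572a8281a5e49d4cc, nat_lit 0xbc8aba46d06b92c989e8554c121c60), (nat_lit 0x594b1ba32a42b77b533384a64088c, nat_lit 0xbca8f2c6d0ab88c1a967134264a260), (nat_lit 0x5aa543a327c157a08c7991691b42c, nat_lit 0xbc84d546d05b8ec316a4a3e6342420), (nat_lit 0x584f9ba322c1b75d48341a813a92c, nat_lit 0xbc9f45c6d05382c454b36888930ce0), (nat_lit 0x215233d2da41d7aace18966220ecc, nat_lit 0xbc9f45c6d05382c454b36888930ce0), (nat_lit 0x2496521ed0c1d718a8792ea534e2c, nat_lit 0xbb941994c84d5ec21e0db0a345c860), (nat_lit 0x3cd12250d3c1d799434b086b5564c, nat_lit 0xb9d4b72445959ac0d4649d1107c4c0), (nat_lit 0x20e1a35e91c157b49cb292a289a6c, nat_lit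 0xb8a8e09d251da4c5cda48a14f35600), (nat_lit 0x366223d095c077945caa1435b1ccc, nat_lit 0xb9853238a88552c0d9ed9454b19e80), (nat_lit 0x3cd52a1a9541778d9c32504194cec, nat_lit 0xbd84b44a302b94ca3433191e63d520), (nat_lit 0x26c30bda82c0d722eaea464a3cc4c, nat_lit 0xb9e74aa4451d88c83a4d52cc18bd00), (nat_lit 0x3621225e8ac0b71d0ce9cac712d4c, nat_lit 0xbc4e915a509b94ca98a15b68443c60), (nat_lit 0x3e441b528342b70ccae5da22550ec, nat_lit 0xb9474119c86d52c3ae0f9d83122a40), (nat_lit 0x5666b2ce4940777a1a51054e4c68c, nat_lit 0xbba13094c8b568c6894449d6f88e40), (nat_lit 0x1c4d8d564b41179855478cce2c92c, nat_lit 0xb8a4a31d255da8c1d5f1241cd0cd00), (nat_lit 0x2dea91ea48c03710cc99a1aea58ac, nat_lit 0xbc8aba46d06b92c989e8554c121c60), (nat_lit 0x103242ea74c2d7a0c4572a6d33e2c, nat_lit 0xb887341d25a596c93a2f686a4828c0), (nat_lit 0x2db115487342570954f7213498ecc, nat_lit 0xb9a168b8a81542c4ce4b790eda2860), (nat_lit 0x5696511679c2376bd03708c14964c,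 nat_lit 0xbd8ad24a3013a8c52c660a2b34bce0), (nat_lit 0x1dc34ac956c0572cd5135a480be8c, nat_lit 0xbc4237da502396c2a2a7551b330920), (nat_lit 0x11cd09d759c13730e92446c5129ec, nat_lit 0xb95f2519c88d66c810e3486cd58a80), (nat_lit 0x2dd3110f51c037435f62ca264d14c, nat_lit 0xba5b1508e5459cc186a692e647d200), (nat_lit 0x1c65692ab4403775a42550c98be6c, nat_lit 0xbb927114c85548c786d484e4d1c560), (nat_lit 0x552229c8b9c0d7746cd1a1ea9068c, nat_lit 0xb9e55a24455582c6ae701ba24321e0), (nat_lit 0x114d154eba41f774a254cc23b190c, nat_lit 0xbc955146d07b90c0d1a92ac73390c0), (nat_lit 0x3a744ca367c07759ea1328ad2204c, nat_lit 0xbc461ada50439ac111e9a2966994e0), (nat_lit 0x3a93aca363c0b743d22518646ac2c, nat_lit 0xbc5272da5033a8c7cc436ad4825420), (nat_lit 0x3aa9a4a36341b70aa6b79c832890c, nat_lit 0xbc50455a501b84c686867d4a93ae60), (nat_lit 0x39359ca365409711a883bda51856c, nat_lit 0xbc4e915a509b94ca98a15b68443c60), (nat_lit 0x14485866a3c1f78ba466d075b112c,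 nat_lit 0xba428908e58da8c9b56f5547033880), (nat_lit 0x5071ccaa142b7b3a2d23d349196c, nat_lit 0xb9491499c89544cb3c2b51e141cda0), (nat_lit 0x4ce24942a4429793ac43556f8b46c, nat_lit 0xbc50455a501b84c686867d4a93ae60), (nat_lit 0x59ea349d11c277590e82b534a882c, nat_lit 0xbdab49ca307b9ac5a928398a418820), (nat_lit 0x58646c9d17c1779a8b4398480a6ac, nat_lit 0xbd8ad24a3013a8c52c660a2b34bce0), (nat_lit 0x5ab49c9d10c0d76a12412cea7946c, nat_lit 0xbd9620ca306b9eca950920d4735260), (nat_lit 0x58285c9d1ac1b73504a4cca419dec, nat_lit 0xbd9ea34a30ab96c6d0e44cc4809460), (nat_lit 0x5067155394297392a91b5f15d84c, nat_lit 0xb89d469d259d94ca8c30446467ac80), (nat_lit 0x1569728338c117308676d496a49ec, nat_lit 0xb9a627b8a8b554c3c0948c923585a0), (nat_lit 0x2a87704b3b41774bda6a8c524448c, nat_lit 0xbd9620ca306b9eca950920d4735260), (nat_lit 0x342b9212f7409719853a9556a44ec, nat_lit 0xba501588e56d86c74644aaa8684de0), (nat_lit 0x2566b350f7405728664a1eb15486c,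 nat_lit 0xbc488a5a500b8ac58d53abc474b4c0), (nat_lit 0x20c18a5af742773ac8250e92ad8ac, nat_lit 0xb9624099c87d60c9c92d3a843a5960), (nat_lit 0x15113cd41ac2d71506f925ab311cc, nat_lit 0xbdab49ca307b9ac5a928398a418820), (nat_lit 0x4c96a28a1142574b50b8d4e678dcc, nat_lit 0xba606188e57d96c512919ba41455a0), (nat_lit 0x2872696614c237a9c86b0a8f5a1cc, nat_lit 0xb98e16b8a8556cc9a6841ae11909e0), (nat_lit 0x2a2744c256c097a18725d9cf126ac, nat_lit 0xb9d6a1a445ad90c8c9c6a4daf80480), (nat_lit 0x64f32a6514137254f66c5c35d10c, nat_lit 0xbca8f2c6d0ab88c1a967134264a260), (nat_lit 0x4ec3a85455c2974a1f1149c7690cc, nat_lit 0xbb82a814c83d62c92663159eba11a0), (nat_lit 0xe4858a862413754c317bac72d5ac, nat_lit 0xb8a6389d2575aac551060b570249e0), (nat_lit 0xa257d0666c27721d760ba49aa14c, nat_lit 0xb9ad0938a89d4ec50a2323c346a560), (nat_lit 0x52d508c46540f76a5f25ba334148c, nat_lit 0xbd9a51ca305baac78887406899a8c0), (nat_lit 0xcaf8d0c2941173d5614cd56239ac,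 nat_lit 0xbcaaa6c6d0a386c23c465950798520), (nat_lit 0x5173b18628c157425b5090f27b8ac, nat_lit 0xb9eb29a4455da2c42a8f70c2623600), (nat_lit 0x19a490e82b40f7504a9abd119b96c, nat_lit 0xbb8e9b14c80d64c8a84b9c0836be80), (nat_lit 0xcaea9854242d77a50a8866b69e4c, nat_lit 0xb964f399c8256cc145540a66b6c060), (nat_lit 0x188e788744c25751675b1d680b62c, nat_lit 0xbc461ada50439ac111e9a2966994e0), (nat_lit 0x92e50cd42c237a916f93513386cc, nat_lit 0xba62da88e50da6ca21505c9cf20cc0)]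

theorem cls2 (h : orderOf g = 2) : IsConj g (m24 tA) ∨ IsConj g (m24 tB) := by
  obtain ⟨h2, h1⟩ := orderOf_eq_prime_iff.1 h
  have i : ∀ p : GolayPt, g • g • p = p := fun p => by rw [← mul_smul, ← sq, h2, one_smul]
  obtain ⟨p, hp, -⟩ := exists_not_fix h1 ∅ (by simp)
  obtain ⟨r, hr, n⟩ := exists_not_fix h1 {p, g • p} (card_le_two.trans (by norm_num))
  simp only [mem_insert, mem_singleton, not_or] at n
  have n1 : g • r ≠ p := fun e => n.2 (by rw [← e, i])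
  have n2 : g • r ≠ g • p := fun e => n.1 (smul_left_cancel g e)
  obtain ⟨a, e⟩ := exists_tuple (by norm_num) ![p, g • p, r, g • r] ![gp 23, gp 0, gp 12, gp 14] (by
    intro x y; fin_cases x <;> fin_cases y <;> simp [hp, hr, n.1, n.2, n1, n2, hp.symm, hr.symm, Ne.symm n.1, Ne.symm n.2,
      n1.symm, n2.symm]) (by decide)
  obtain ⟨c, b⟩ := exists_is (a * g * a⁻¹)
  have e0 : a • p = gp 23 := e 0
  have e1 : a • g • p = gp 0 := e 1
  have e2 : a • r = gp 12 := e 2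
  have e3 : a • g • r = gp 14 := e 3
  have := full1.all (fun c => cmp c c = idc → c ∈ cl2.map Prod.fst)
    (prP_ok [(23, 0), (0, 23), (12, 14), (14, 12)] (by decide)) (by decide +kernel) b (by
      simp only [List.forall_mem_cons, ← e0, ← e1, ← e2, ← e3, conj_smul_smul, i, List.not_mem_nil, false_imp_iff,
        implies_true, and_self]) (b.ord2.1 (by rw [ord_conj, h])).1
  have k : IsConj g (a * g * a⁻¹) := isConj_iff.2 ⟨a, rfl⟩
  exact (conj_of_list is_tA is_tB (by decide +kernel) b this).imp k.trans k.trans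

theorem cls3 (h : orderOf g = 3) : IsConj g (m24 uA) ∨ IsConj g (m24 uB) := by
  obtain ⟨h2, h1⟩ := orderOf_eq_prime_iff.1 h
  have i : ∀ p : GolayPt, g • g • g • p = p := fun p => by rw [← mul_smul, ← mul_smul, ← pow_three', h2, one_smul]
  obtain ⟨p, hp, -⟩ := exists_not_fix h1 ∅ (by simp)
  obtain ⟨r, hr, n⟩ := exists_not_fix h1 {p, g • p, g • g • p} (card_le_three.trans (by norm_num))
  simp only [mem_insert, mem_singleton, not_or] at n
  have n0 : g • g • p ≠ p := fun e => hp ((congrArg (g • ·) e).symm.trans (i p))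
  have n1 : g • r ≠ p := fun e => n.2.2 (by rw [← e, i])
  have n2 : g • r ≠ g • g • p := fun e => n.2.1 (smul_left_cancel g e)
  obtain ⟨a, e⟩ := exists_tuple (by norm_num) ![p, g • p, g • g • p, r, g • r] ![gp 23, gp 0, gp 12, gp 14, gp 16] (by
    intro x y; fin_cases x <;> fin_cases y <;> simp [hp, hr, n.1, n.2.1, n.2.2, n0, n1, n2, hp.symm, hr.symm, Ne.symm n.1,
      Ne.symm n.2.1, Ne.symm n.2.2, n0.symm, n1.symm, n2.symm]) (by decide)
  obtain ⟨c, b⟩ := exists_is (a * g * a⁻¹)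
  have e0 : a • p = gp 23 := e 0
  have e1 : a • g • p = gp 0 := e 1
  have e2 : a • g • g • p = gp 12 := e 2
  have e3 : a • r = gp 14 := e 3
  have e4 : a • g • r = gp 16 := e 4
  have := full1.all (fun c => cmp c (cmp c c) = idc → c ∈ cl3.map Prod.fst)
    (prP_ok [(23, 0), (0, 12), (12, 23), (14, 16)] (by decide)) (by decide +kernel) b (by
      simp only [List.forall_mem_cons, ← e0, ← e1, ← e2, ← e3, ← e4, conj_smul_smul, i, List.not_mem_nil, false_imp_iff,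
        implies_true, and_self]) (b.ord3.1 (by rw [ord_conj, h])).1
  have k : IsConj g (a * g * a⁻¹) := isConj_iff.2 ⟨a, rfl⟩
  exact (conj_of_list is_uA is_uB (by decide +kernel) b this).imp k.trans k.trans

theorem cls2A (h : orderOf g = 2) (e : (Fx g).card ≠ 0) : IsConj g (m24 tA) :=
  (cls2 h).resolve_right fun k => e ((card_Fx_of_conj k).trans fx_tB)
theorem cls2B (h : orderOf g = 2) (e : (Fx g).card = 0) : IsConj g (m24 tB) :=
  (cls2 h).resolve_left fun k => by have := (card_Fx_of_conj k).trans fx_tA; omega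
theorem cls3A (h : orderOf g = 3) (e : (Fx g).card ≠ 0) : IsConj g (m24 uA) :=
  (cls3 h).resolve_right fun k => e ((card_Fx_of_conj k).trans fx_uB)
theorem cls3B (h : orderOf g = 3) (e : (Fx g).card = 0) : IsConj g (m24 uB) :=
  (cls3 h).resolve_left fun k => by have := (card_Fx_of_conj k).trans fx_uA; omega

theorem card_Fx_zero : (Fx g).card = 0 ↔ ∀ p, g.1 p ≠ p := by
  rw [card_eq_zero, Fx, filter_eq_empty_iff]; simp

/-- number of members of a family fixed by `g` -/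
noncomputable def FxS {Y : Type*} [MulAction M24 Y] (F : Set Y) (g : M24) : ℕ := {y | y ∈ F ∧ g • y = y}.ncard

theorem FxS_conj {Y : Type*} [MulAction M24 Y] {F : Set Y} (hF : ∀ a : M24, ∀ y, a • y ∈ F ↔ y ∈ F) (e : IsConj g h) :
    FxS F g = FxS F h := by
  obtain ⟨a, rfl⟩ := isConj_iff.1 e
  exact (ncard_transport a fun y => by simp only [Set.mem_setOf_eq, hF, conj_smul_smul, smul_left_cancel_iff]).symm

noncomputable def cnd (P E : ℕ → ℕ) (d : ℕ) : ℕ := Nat.rec (E d) (fun _ _ => nat_lit 1) (Nat.xor (P d) (nat_lit 1))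

theorem cnd_zero {P E : ℕ → ℕ} {d : ℕ} : cnd P E d = 0 ↔ P d = 1 ∧ E d = 0 := by
  unfold cnd
  cases e : Nat.xor (P d) 1 with
  | zero => simp [xor_eq_zero' e]
  | succ n => exact ⟨fun h => absurd h one_ne_zero, fun h => by rw [h.1] at e; exact absurd e (by simp)⟩

theorem ncard_lab {Y : Type*} {pt : ℕ → Y} {N : ℕ} (hi : Inj pt N) {P : ℕ → ℕ} {F : Set Y}
    (hF : F = pt '' {d | d < N ∧ P d = 1}) {Q : Y → Prop} (E : ℕ → ℕ) (h : ∀ d < N, P d = 1 → (Q (pt d) ↔ E d = 0)) {n : ℕ}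
    (e : Nat.beq (cnt (cnd P E) (nat_lit 0) N) n = true) : {y | y ∈ F ∧ Q y}.ncard = n := by
  rw [← Nat.eq_of_beq_eq_true e, ← hi.ncard_class, hF]
  congr 1; ext y
  constructor
  · rintro ⟨⟨d, ⟨p, q⟩, rfl⟩, r⟩
    exact ⟨d, ⟨p, cnd_zero.2 ⟨q, (h d p q).1 r⟩⟩, rfl⟩
  · rintro ⟨d, ⟨p, q⟩, rfl⟩
    exact ⟨⟨d, ⟨p, (cnd_zero.1 q).1⟩, rfl⟩, (h d p (cnd_zero.1 q).1).2 (cnd_zero.1 q).2⟩

theorem xor_zero_iff {a b : ℕ} : Nat.xor a b = 0 ↔ a = b := ⟨xor_eq_zero', fun e => e ▸ Nat.xor_self _⟩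

theorem dodecads_eq : dodecads = cwd '' {d | d < 4096 ∧ (fun k => eqI (pop (cw k)) 12) d = 1} := by
  ext S
  constructor
  · intro h
    obtain ⟨s, hs, rfl⟩ := exists_cwd h.1
    exact ⟨s, ⟨hs, eqI_one ((cwd_dod hs).mp h)⟩, rfl⟩
  · rintro ⟨s, ⟨hs, h⟩, rfl⟩
    simp only [eqI_eq] at h
    rw [cwd_dod hs]
    by_contra h1
    rw [if_neg h1] at h; exact zero_ne_one h

theorem memE_iff {k x n : ℕ} (hn : n < 2 ^ 24) : memE k x n = 0 ↔ bset n ∈ sys k x := by
  refine ⟨memE_zero, fun h => ?_⟩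
  obtain ⟨t, ht, e⟩ := mem_sys.1 h
  rw [memE, frc_eq, ← bset_inj (fld_lt _ _) hn e]
  clear h e
  induction k with
  | zero => omega
  | succ k ih =>
    refine Nat.mul_eq_zero.2 ?_
    rcases Nat.lt_succ_iff_lt_or_eq.1 ht with p | rfl
    · exact .inl (ih p)
    · exact .inr (Nat.xor_self _)

theorem Is.sys_iff (a : Is g c) {k x y : ℕ} (hx : sortE k x = 0) : g • sys k x = sys k y ↔ actE k c x y = 0 := by
  have e : actE k c x y = 0 ↔ ∀ t < k, g • Spor.bset (fld x t) ∈ sys k y := by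
    simp only [actE, frc_eq, lin_eq, sum_eq_zero_iff, mem_range, a.bset, ← memE_iff (a.img_lt _)]
    simp
  rw [e]
  refine ⟨fun h t ht => h ▸ smul_mem_smul_finset (mem_sys.2 ⟨t, ht, rfl⟩), fun h =>
    eq_of_subset_of_card_le (fun s hs => ?_) ?_⟩
  · obtain ⟨s, hs', rfl⟩ := Finset.mem_smul_finset.mp hs
    obtain ⟨t, ht, rfl⟩ := mem_sys.mp hs'
    exact h t ht
  · rw [Finset.card_smul_finset, card_sys hx]
    exact Finset.card_image_le.trans (card_range k).le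

theorem Is.cos (a : Is g c) (s : ℕ) : g • Spor.cos s = Spor.cos (syn (img c (Spor.rep s))) := by
  rw [Spor.cos, smul_sext, a.bset, sext_bset (a.img_lt _)]

theorem Is.cos_iff (a : Is g c) (s : ℕ) {t : ℕ} (ht : t < 4096) : g • Spor.cos s = Spor.cos t ↔ syn (img c (Spor.rep s)) = t := by
  rw [a.cos]; exact ⟨cos_inj _ (syn_lt (a.img_lt _)) _ ht, fun e => e ▸ rfl⟩

theorem Is.fxO (a : Is g c) {n : ℕ} (e : Nat.beq (cnt (cnd (fun k => eqI (pop (cw k)) 8) fun k =>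
    frc (cw k) fun w => Nat.xor (img c w) w) (nat_lit 0) 4096) n = true) : FxS octads g = n :=
  ncard_lab cwd_inj octads_eq _ (fun d hd _ => by rw [frc_eq, xor_zero_iff]; exact a.bset_iff _ (cw_lt hd)) e

theorem Is.fxD (a : Is g c) {n : ℕ} (e : Nat.beq (cnt (cnd (fun k => eqI (pop (cw k)) 12) fun k =>
    frc (cw k) fun w => Nat.xor (img c w) w) (nat_lit 0) 4096) n = true) : FxS dodecads g = n :=
  ncard_lab cwd_inj dodecads_eq _ (fun d hd _ => by rw [frc_eq, xor_zero_iff]; exact a.bset_iff _ (cw_lt hd)) e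

theorem Is.fxS (a : Is g c) {n : ℕ} (e : Nat.beq (cnt (cnd (fun s => eqI (pop (Spor.rep s)) 4) fun s =>
    Nat.xor (syn (img c (Spor.rep s))) s) (nat_lit 0) 4096) n = true) : FxS sextets g = n :=
  ncard_lab cos_inj sextets_eq' _ (fun d hd _ => by rw [xor_zero_iff]; exact a.cos_iff _ hd) e

theorem Is.fxT (a : Is g c) {n : ℕ} (e : Nat.beq (cnt (cnd (fun _ => 1) fun i =>
    frc (trioL i) fun x => actE 3 c x x) (nat_lit 0) 3795) n = true) : FxS trios g = n :=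
  ncard_lab trioL_ok.2 trios_eq _ (fun d hd _ => by rw [frc_eq]; exact a.sys_iff (trioL_ok.1 d hd)) e

theorem cjO (e : IsConj g h) : FxS octads g = FxS octads h := FxS_conj (fun a _ => smul_mem_octads a) e
theorem cjD (e : IsConj g h) : FxS dodecads g = FxS dodecads h := FxS_conj (fun a _ => smul_mem_dodecads a) e
theorem cjS (e : IsConj g h) : FxS sextets g = FxS sextets h := FxS_conj (fun a _ => smul_mem_sextets a) e
theorem cjT (e : IsConj g h) : FxS trios g = FxS trios h := FxS_conj (fun a _ => smul_mem_trios a) e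

end Cfsg.Agent.Spor
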