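import Cfsg.Prelude.Def_SporadicCombinatorics
import Cfsg.Prelude.Def_Spor_Mathieu
import Cfsg.Agent.Lib.PermCert.Model

/-! Bitmask model of the 24 points, the Golay code and the elements of `M24`. -/

set_option autoImplicit false

namespace Cfsg.Agent.Spor

open Cfsg.Agent.PC Finset
open scoped Pointwise symmDiff

/-- evaluate `x` once, then continue -/
noncomputable def frc (x : ℕ) (f : ℕ → ℕ) : ℕ := Nat.rec (nat_lit 0) (fun m _ => f m) (Nat.add x (nat_lit 1))

theorem frc_eq (x : ℕ) (f : ℕ → ℕ) : frc x f = f x := rfl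

def gp (i : ℕ) : GolayPt := if i < 23 then some (i : ZMod 23) else none

def gi : GolayPt → ℕ
  | none => 23
  | some x => x.val

theorem gi_lt (p : GolayPt) : gi p < 24 := by revert p; decide
theorem gp_gi (p : GolayPt) : gp (gi p) = p := by revert p; decide
theorem gi_gp {i : ℕ} (h : i < 24) : gi (gp i) = i := by revert i; decide

def gLab : Lab GolayPt 24 := ⟨gp, gi, gi_lt, gp_gi, fun _ h => gi_gp h⟩

theorem gp_inj : Inj gp 24 := gLab.inj
theorem gi_inj {p q : GolayPt} (h : gi p = gi q) : p = q := by rw [← gp_gi p, h, gp_gi]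
theorem exists_gp (p : GolayPt) : ∃ i < 24, gp i = p := ⟨gi p, gi_lt p, gp_gi p⟩
theorem card_golayPt : Fintype.card GolayPt = 24 := rfl

/-- the set of points with bitmask `n` -/
def bset (n : ℕ) : Finset GolayPt := univ.filter fun p => n.testBit (gi p)

theorem mem_bset {n : ℕ} {p : GolayPt} : p ∈ bset n ↔ n.testBit (gi p) = true := by simp [bset]

theorem gp_mem_bset {n i : ℕ} (h : i < 24) : gp i ∈ bset n ↔ n.testBit i = true := by rw [mem_bset, gi_gp h]

theorem bset_and (a b : ℕ) : bset (a &&& b) = bset a ∩ bset b := by ext; simp [mem_bset]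
theorem bset_or (a b : ℕ) : bset (a ||| b) = bset a ∪ bset b := by ext; simp [mem_bset]
theorem bset_xor (a b : ℕ) : bset (a ^^^ b) = bset a ∆ bset b := by
  ext p; simp only [mem_bset, Finset.mem_symmDiff, Nat.testBit_xor]
  cases a.testBit (gi p) <;> cases b.testBit (gi p) <;> simp
theorem bset_zero : bset 0 = ∅ := by ext; simp [mem_bset]
theorem bset_all : bset 16777215 = univ := by decide
theorem bset_compl (a : ℕ) : bset (a ^^^ 16777215) = (bset a)ᶜ := by
  rw [bset_xor, bset_all]; ext; simp [Finset.mem_symmDiff]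
theorem bset_pow (p : GolayPt) : bset (2 ^ gi p) = {p} := by
  ext q; simp only [mem_bset, Nat.testBit_two_pow, decide_eq_true_eq, mem_singleton]
  exact ⟨fun h => (gi_inj h).symm, fun h => h ▸ rfl⟩
theorem bset_pow' {i : ℕ} (h : i < 24) : bset (2 ^ i) = {gp i} := by rw [← bset_pow, gi_gp h]

theorem exists_bset (s : Finset GolayPt) : ∃ n < 2 ^ 24, bset n = s := by
  induction s using Finset.induction_on with
  | empty => exact ⟨0, by norm_num, bset_zero⟩
  | insert p s _ ih =>
    obtain ⟨n, hn, rfl⟩ := ih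
    refine ⟨2 ^ gi p ||| n, Nat.or_lt_two_pow (Nat.pow_lt_pow_right (by norm_num) (gi_lt p)) hn, ?_⟩
    rw [bset_or, bset_pow]; rfl

theorem bset_inj {a b : ℕ} (ha : a < 2 ^ 24) (hb : b < 2 ^ 24) (h : bset a = bset b) : a = b := by
  apply Nat.eq_of_testBit_eq
  intro i
  by_cases hi : i < 24
  · have := congrArg (gp i ∈ ·) h
    simp only [gp_mem_bset hi, eq_iff_iff] at this
    exact Bool.eq_iff_iff.mpr this
  · have : 2 ^ 24 ≤ 2 ^ i := Nat.pow_le_pow_right (by norm_num) (by omega)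
    rw [Nat.testBit_lt_two_pow (by omega), Nat.testBit_lt_two_pow (by omega)]

theorem bset_subset_iff {a b : ℕ} (ha : a < 2 ^ 24) : bset a ⊆ bset b ↔ a &&& b = a := by
  rw [← Finset.inter_eq_left, ← bset_and]
  exact ⟨bset_inj (lt_of_le_of_lt Nat.and_le_left ha) ha, fun h => by rw [h]⟩

theorem bset_disjoint_iff {a b : ℕ} (ha : a < 2 ^ 24) : Disjoint (bset a) (bset b) ↔ a &&& b = 0 := by
  rw [Finset.disjoint_iff_inter_eq_empty, ← bset_and, ← bset_zero]
  exact ⟨bset_inj (lt_of_le_of_lt Nat.and_le_left ha) (by norm_num), fun h => by rw [h]⟩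

/-! ### population count -/

def pop8 (b : ℕ) : ℕ := Nat.land (Nat.shiftRight (nat_lit 0x8776766576656554766565546554544376656554655454436554544354434332766565546554544365545443544343326554544354434332544343324332322176656554655454436554544354434332655454435443433254434332433232216554544354434332544343324332322154434332433232214332322132212110) (Nat.mul (nat_lit 4) b)) (nat_lit 15)

/-- number of points of a bitmask -/
noncomputable def pop (n : ℕ) : ℕ := frc n fun n =>
  Nat.add (pop8 (Nat.land n (nat_lit 255))) (Nat.add (pop8 (Nat.land (Nat.shiftRight n (nat_lit 8)) (nat_lit 255)))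
    (pop8 (Nat.land (Nat.shiftRight n (nat_lit 16)) (nat_lit 255))))

theorem pop8_eq : ∀ b < 256, pop8 b = ∑ i ∈ range 8, (b.testBit i).toNat := by decide +kernel

theorem pop8_land (n : ℕ) : pop8 (n &&& 255) = ∑ i ∈ range 8, (n.testBit i).toNat := by
  rw [pop8_eq _ (lt_of_le_of_lt Nat.and_le_right (by norm_num))]
  refine Finset.sum_congr rfl fun i hi => ?_
  have : Nat.testBit 255 i = true := by
    have := Finset.mem_range.mp hi
    revert i; decide
  rw [Nat.testBit_and, this, Bool.and_true]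

theorem card_bset (n : ℕ) : (bset n).card = pop n := by
  have h1 : (bset n).card = ∑ i ∈ range 24, (n.testBit i).toNat := by
    rw [bset, Finset.card_filter]
    symm
    refine Finset.sum_bij' (fun i _ => gp i) (fun p _ => gi p) (by simp) (fun p _ => by simpa using gi_lt p)
      (fun i hi => gi_gp (by simpa using hi)) (fun p _ => gp_gi p) ?_
    intro i hi
    rw [gi_gp (by simpa using hi)]
    cases n.testBit i <;> rfl
  have h2 : pop n = pop8 (n &&& 255) + (pop8 ((n >>> 8) &&& 255) + pop8 ((n >>> 16) &&& 255)) := rfl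
  rw [h1, h2, pop8_land, pop8_land, pop8_land, show 24 = 8 + (8 + 8) from rfl, Finset.sum_range_add,
    Finset.sum_range_add]
  simp only [Nat.testBit_shiftRight, ← add_assoc]

/-! ### the code -/

/-- the word with support `bset n` -/
def wd (n : ℕ) : GolayPt → ZMod 2 := fun p => if n.testBit (gi p) then 1 else 0

theorem wd_xor (a b : ℕ) : wd (a ^^^ b) = wd a + wd b := by
  funext p
  simp only [wd, Nat.testBit_xor, Pi.add_apply]
  cases a.testBit (gi p) <;> cases b.testBit (gi p) <;> rfl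

theorem wd_zero : wd 0 = 0 := by funext p; simp [wd]

theorem support_wd (n : ℕ) : support₂ (wd n) = bset n := by
  ext p; simp [support₂, wd, mem_bset]

theorem zmod2_eq (x : ZMod 2) : x = if x ≠ 0 then 1 else 0 := by revert x; decide

theorem support_inj {α : Type*} [Fintype α] {v w : α → ZMod 2} (h : support₂ v = support₂ w) : v = w := by
  funext p
  have := congrArg (p ∈ ·) h
  simp only [support₂, mem_filter, mem_univ, true_and, eq_iff_iff] at this
  rw [zmod2_eq (v p), zmod2_eq (w p)]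
  simp only [this]

theorem exists_wd (w : GolayPt → ZMod 2) : ∃ n < 2 ^ 24, wd n = w := by
  obtain ⟨n, hn, h⟩ := exists_bset (support₂ w)
  exact ⟨n, hn, support_inj (by rw [support_wd, h])⟩

theorem hammingNorm_eq {α : Type*} [Fintype α] (w : α → ZMod 2) : hammingNorm w = (support₂ w).card := by
  simp [hammingNorm, support₂]

theorem hammingNorm_wd (n : ℕ) : hammingNorm (wd n) = pop n := by rw [hammingNorm_eq, support_wd, card_bset]

/-- xor of the members of `l` selected by the bits of `k` -/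
noncomputable def sel (l : List ℕ) : ℕ → ℕ :=
  List.rec (motive := fun _ => ℕ → ℕ) (fun _ => nat_lit 0)
    (fun b _ ih k => Nat.xor (Nat.mul (Nat.land k (nat_lit 1)) b) (ih (Nat.shiftRight k (nat_lit 1)))) l

theorem sel_cons (b : ℕ) (l : List ℕ) (k : ℕ) : sel (b :: l) k = ((k &&& 1) * b) ^^^ sel l (k >>> 1) := rfl

theorem sel_xor (l : List ℕ) (a b : ℕ) : sel l (a ^^^ b) = sel l a ^^^ sel l b := by
  induction l generalizing a b with
  | nil => exact (Nat.xor_self 0).symm
  | cons c l ih =>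
    rw [sel_cons, sel_cons, sel_cons, Nat.shiftRight_xor_distrib, ih, Nat.and_xor_distrib_right]
    have : ((a &&& 1) ^^^ (b &&& 1)) * c = ((a &&& 1) * c) ^^^ ((b &&& 1) * c) := by
      rw [Nat.and_one_is_mod, Nat.and_one_is_mod]
      rcases Nat.mod_two_eq_zero_or_one a with h | h <;> rcases Nat.mod_two_eq_zero_or_one b with h' | h' <;>
        simp [h, h']
    rw [this]
    ac_rfl

theorem sel_induction {P : ℕ → Prop} (h0 : P 0) (hx : ∀ a b, P a → P b → P (a ^^^ b)) (l : List ℕ)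
    (hl : ∀ b ∈ l, P b) (k : ℕ) : P (sel l k) := by
  induction l generalizing k with
  | nil => exact h0
  | cons c l ih =>
    rw [sel_cons]
    refine hx _ _ ?_ (ih (fun b hb => hl b (List.mem_cons_of_mem _ hb)) _)
    rw [Nat.and_one_is_mod]
    rcases Nat.mod_two_eq_zero_or_one k with h | h
    · simpa [h] using h0
    · simpa [h] using hl c List.mem_cons_self

def gGens : List ℕ := [340831, 681662, 1363324, 2726648, 5453296, 2517985, 5035970, 1683333, 3366666, 6733332, 5078057, 1767507, 3535014, 7070028, 5751449, 3114291, 6228582, 4068557, 8137114, 7885621, 7382635, 6376663, 4364719, 16777215]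
def gBasis : List ℕ := [13062145, 4845570, 13938692, 7221256, 10170384, 11952160, 15515712, 2019456, 4038912, 8077824, 11654144, 14919680]
def gSels : List ℕ := [8390313, 280, 8389785, 1400, 8390330, 8390551, 8390093, 2000, 1347, 101, 8390243, 8390181]

/-- parity bits of the information word `k < 4096` -/
noncomputable def par (k : ℕ) : ℕ := frc k fun k =>
  Nat.xor (Nat.land (Nat.shiftRight (nat_lit 0x197de250897dcdc0a9843436774b013ebf9ea3f64aea02d5824451cbb0ce56f91a1f0d85ec72b2a5862d38cff9713b66af1684e6e21b7babcf325f50c1206788d4f8159d2c5c69b3342f377ddba8e0927ca966e35a19d413ed4b8ea49fc75000) (Nat.mul (nat_lit 12) (Nat.land k (nat_lit 63)))) (nat_lit 4095))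
    (Nat.land (Nat.shiftRight (nat_lit 0xe680a4f85149db237ec5f2939dc7108316fda064cabeb527575bb9498a546af86374298e2c1c0d32cde011bfd70f6e3a052e9e1bff73388d44265ca97e692a60b8c743caf05d1b1db4f583aa246e8956599787b4cfb237d163daf211edecc000) (Nat.mul (nat_lit 12) (Nat.shiftRight k (nat_lit 6)))) (nat_lit 4095))

/-- the code word with information word `k < 4096` -/
noncomputable def cw (k : ℕ) : ℕ := frc k fun k => Nat.lor k (Nat.shiftLeft (par k) (nat_lit 12))

/-- syndrome of a bitmask -/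
noncomputable def syn (n : ℕ) : ℕ := frc n fun n =>
  Nat.xor (Nat.shiftRight n (nat_lit 12)) (par (Nat.land n (nat_lit 4095)))

theorem syn_def (n : ℕ) : syn n = (n >>> 12) ^^^ par (n &&& 4095) := rfl

theorem cw_chk : ∀ k < 4096, Nat.add (Nat.add (Nat.xor (cw k) (sel gBasis k)) (Nat.xor (Nat.land (cw k) (nat_lit 4095)) k))
    (Nat.add (Nat.xor (Nat.shiftRight (cw k) (nat_lit 12)) (par k)) (ltE (par k) (nat_lit 4096))) = 0 :=
  upTo_beq (by decide +kernel)

theorem cw_eq_sel {k : ℕ} (h : k < 4096) : cw k = sel gBasis k :=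
  xor_eq_zero' (add_eq_zero' (add_eq_zero' (cw_chk k h)).1).1
theorem cw_and {k : ℕ} (h : k < 4096) : cw k &&& 4095 = k :=
  xor_eq_zero' (add_eq_zero' (add_eq_zero' (cw_chk k h)).1).2
theorem cw_shift {k : ℕ} (h : k < 4096) : cw k >>> 12 = par k :=
  xor_eq_zero' (add_eq_zero' (add_eq_zero' (cw_chk k h)).2).1
theorem par_lt {k : ℕ} (h : k < 4096) : par k < 4096 :=
  ltE_zero (add_eq_zero' (add_eq_zero' (cw_chk k h)).2).2

theorem and_lt (n : ℕ) : n &&& 4095 < 4096 := lt_of_le_of_lt Nat.and_le_right (by norm_num)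

theorem split12 {a b : ℕ} (h1 : a &&& 4095 = b &&& 4095) (h2 : a >>> 12 = b >>> 12) : a = b := by
  have e : ∀ x : ℕ, x &&& 4095 = x % 4096 := fun x => Nat.and_two_pow_sub_one_eq_mod x 12
  rw [e, e] at h1
  rw [Nat.shiftRight_eq_div_pow, Nat.shiftRight_eq_div_pow] at h2
  omega

theorem cw_lt {k : ℕ} (h : k < 4096) : cw k < 2 ^ 24 := by
  have h1 := cw_shift h
  have h2 := par_lt h
  rw [Nat.shiftRight_eq_div_pow] at h1
  omega

theorem cw_xor {a b : ℕ} (ha : a < 4096) (hb : b < 4096) : cw (a ^^^ b) = cw a ^^^ cw b := by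
  rw [cw_eq_sel ha, cw_eq_sel hb, cw_eq_sel (Nat.xor_lt_two_pow (n := 12) ha hb), sel_xor]

theorem par_xor {a b : ℕ} (ha : a < 4096) (hb : b < 4096) : par (a ^^^ b) = par a ^^^ par b := by
  rw [← cw_shift ha, ← cw_shift hb, ← cw_shift (Nat.xor_lt_two_pow (n := 12) ha hb), cw_xor ha hb,
    Nat.shiftRight_xor_distrib]

theorem syn_xor (a b : ℕ) : syn (a ^^^ b) = syn a ^^^ syn b := by
  rw [syn_def, syn_def, syn_def, Nat.shiftRight_xor_distrib, Nat.and_xor_distrib_right,
    par_xor (and_lt a) (and_lt b)]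
  ac_rfl

theorem syn_cw {k : ℕ} (h : k < 4096) : syn (cw k) = 0 := by
  rw [syn_def, cw_shift h, cw_and h, Nat.xor_self]

theorem eq_cw_of_syn {n : ℕ} (h : syn n = 0) : n = cw (n &&& 4095) := by
  have h' : n >>> 12 = par (n &&& 4095) := xor_eq_zero' h
  exact split12 (cw_and (and_lt n)).symm (by rw [cw_shift (and_lt n), h'])

theorem syn_lt {n : ℕ} (h : n < 2 ^ 24) : syn n < 4096 := by
  rw [syn_def]
  refine Nat.xor_lt_two_pow (n := 12) ?_ (par_lt (and_lt n))
  rw [Nat.shiftRight_eq_div_pow]; omega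

theorem syn_eq_iff {a b : ℕ} : syn a = syn b ↔ syn (a ^^^ b) = 0 := by
  rw [syn_xor]; exact ⟨fun h => by rw [h, Nat.xor_self], xor_eq_zero'⟩

theorem cw_zero : cw 0 = 0 := by decide +kernel

theorem qrWord_eq : ∀ t : ZMod 23, ∀ p, qrWord t p = wd (get1 (nat_lit 0x4299af614cd770a66b7853357c299a3e14cd5f0a662f853357c2996be14c35f0a61af8534d7c2966be14335f0a19af854cd7c2266be15335f0299af814cd7c0a66be05335f) 24 16777215 t.val) p := by
  decide +kernel

theorem wd_all : wd 16777215 = 1 := by funext p; revert p; decide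

theorem wd_gens : ∀ b ∈ gGens, wd b ∈ golayCode := by
  have h : ∀ b ∈ gGens, b = 16777215 ∨ ∃ t : ZMod 23, b = get1 (nat_lit 0x4299af614cd770a66b7853357c299a3e14cd5f0a662f853357c2996be14c35f0a61af8534d7c2966be14335f0a19af854cd7c2266be15335f0299af814cd7c0a66be05335f) 24 16777215 t.val := by
    decide +kernel
  intro b hb
  rcases h b hb with rfl | ⟨t, rfl⟩
  · rw [wd_all]; exact Submodule.subset_span (Or.inr rfl)
  · rw [← funext (qrWord_eq t)]; exact Submodule.subset_span (Or.inl ⟨t, rfl⟩)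

theorem wd_sel {C : Submodule (ZMod 2) (GolayPt → ZMod 2)} {l : List ℕ} (h : ∀ b ∈ l, wd b ∈ C) (k : ℕ) :
    wd (sel l k) ∈ C :=
  sel_induction (P := fun n => wd n ∈ C) (by rw [wd_zero]; exact C.zero_mem)
    (fun a b ha hb => by rw [wd_xor]; exact C.add_mem ha hb) l h k

theorem wd_basis : ∀ b ∈ gBasis, wd b ∈ golayCode := by
  have h : gBasis = gSels.map (sel gGens) := by decide +kernel
  intro b hb
  rw [h, List.mem_map] at hb
  obtain ⟨s, -, rfl⟩ := hb
  exact wd_sel wd_gens s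

theorem wd_cw {k : ℕ} (h : k < 4096) : wd (cw k) ∈ golayCode := by
  rw [cw_eq_sel h]; exact wd_sel wd_basis k

theorem exists_cw_of_mem {w : GolayPt → ZMod 2} (hw : w ∈ golayCode) : ∃ k < 4096, wd (cw k) = w := by
  induction hw using Submodule.span_induction with
  | mem x hx =>
    rcases hx with ⟨t, rfl⟩ | rfl
    · have h : ∀ t : ZMod 23, syn (get1 (nat_lit 0x4299af614cd770a66b7853357c299a3e14cd5f0a662f853357c2996be14c35f0a61af8534d7c2966be14335f0a19af854cd7c2266be15335f0299af814cd7c0a66be05335f) 24 16777215 t.val) = 0 := by decide +kernel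
      exact ⟨_, and_lt _, by rw [← eq_cw_of_syn (h t), funext (qrWord_eq t)]⟩
    · exact ⟨4095, by norm_num, by rw [show cw 4095 = 16777215 by decide +kernel, wd_all]⟩
  | zero => exact ⟨0, by norm_num, by rw [cw_zero, wd_zero]⟩
  | add x y _ _ hx hy =>
    obtain ⟨a, ha, rfl⟩ := hx
    obtain ⟨b, hb, rfl⟩ := hy
    exact ⟨a ^^^ b, Nat.xor_lt_two_pow (n := 12) ha hb, by rw [cw_xor ha hb, wd_xor]⟩
  | smul c x _ hx =>
    obtain ⟨a, ha, rfl⟩ := hx
    have : c = 0 ∨ c = 1 := by revert c; decide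
    rcases this with rfl | rfl
    · exact ⟨0, by norm_num, by rw [cw_zero, wd_zero, zero_smul]⟩
    · exact ⟨a, ha, by rw [one_smul]⟩

/-- supports of code words -/
abbrev gC : Set (Finset GolayPt) := supports (golayCode : Set (GolayPt → ZMod 2))

/-- the support of the code word number `k` -/
noncomputable def cwd (k : ℕ) : Finset GolayPt := bset (cw k)

theorem cwd_mem {k : ℕ} (h : k < 4096) : cwd k ∈ gC := ⟨_, wd_cw h, support_wd _⟩

theorem exists_cwd {s : Finset GolayPt} (hs : s ∈ gC) : ∃ k < 4096, cwd k = s := by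
  obtain ⟨w, hw, rfl⟩ := hs
  obtain ⟨k, hk, rfl⟩ := exists_cw_of_mem hw
  exact ⟨k, hk, (support_wd _).symm⟩

theorem cwd_inj : Inj cwd 4096 := fun i hi j hj h => by
  rw [← cw_and hi, ← cw_and hj, bset_inj (cw_lt hi) (cw_lt hj) h]

theorem bset_mem_gC {n : ℕ} (hn : n < 2 ^ 24) : bset n ∈ gC ↔ syn n = 0 := by
  constructor
  · intro h
    obtain ⟨k, hk, e⟩ := exists_cwd h
    rw [← bset_inj (cw_lt hk) hn e, syn_cw hk]
  · intro h
    rw [eq_cw_of_syn h]; exact cwd_mem (and_lt n)

theorem support_mem_gC {w : GolayPt → ZMod 2} : support₂ w ∈ gC ↔ w ∈ golayCode :=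
  ⟨fun ⟨_, hv, e⟩ => support_inj e ▸ hv, fun h => ⟨w, h, rfl⟩⟩

theorem wd_mem_iff {n : ℕ} (hn : n < 2 ^ 24) : wd n ∈ golayCode ↔ syn n = 0 := by
  rw [← support_mem_gC, support_wd, bset_mem_gC hn]

theorem card_cwd (k : ℕ) : (cwd k).card = pop (cw k) := card_bset _

theorem symmDiff_mem_gC {s t : Finset GolayPt} (hs : s ∈ gC) (ht : t ∈ gC) : s ∆ t ∈ gC := by
  obtain ⟨a, ha, rfl⟩ := exists_cwd hs
  obtain ⟨b, hb, rfl⟩ := exists_cwd ht
  rw [cwd, cwd, ← bset_xor, ← cw_xor ha hb]
  exact cwd_mem (Nat.xor_lt_two_pow (n := 12) ha hb)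

theorem univ_mem_gC : (univ : Finset GolayPt) ∈ gC := by
  rw [← bset_all, bset_mem_gC (by norm_num)]; decide +kernel

theorem empty_mem_gC : (∅ : Finset GolayPt) ∈ gC := by
  rw [← bset_zero, bset_mem_gC (by norm_num)]; decide +kernel

theorem compl_mem_gC {s : Finset GolayPt} (hs : s ∈ gC) : sᶜ ∈ gC := by
  have : sᶜ = s ∆ univ := by ext; simp [Finset.mem_symmDiff]
  rw [this]; exact symmDiff_mem_gC hs univ_mem_gC

theorem weight_chk : ∀ k < 4096, (frc (pop (cw k)) fun w => Nat.mul (Nat.mul w (Nat.xor w (nat_lit 8)))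
    (Nat.mul (Nat.xor w (nat_lit 12)) (Nat.mul (Nat.xor w (nat_lit 16)) (Nat.xor w (nat_lit 24))))) = 0 :=
  upTo_beq (by decide +kernel)

theorem card_of_mem_gC {s : Finset GolayPt} (hs : s ∈ gC) :
    s.card = 0 ∨ s.card = 8 ∨ s.card = 12 ∨ s.card = 16 ∨ s.card = 24 := by
  obtain ⟨k, hk, rfl⟩ := exists_cwd hs
  have h := weight_chk k hk
  rw [frc_eq, ← card_cwd] at h
  rcases mul_eq_zero' h with h | h
  · rcases mul_eq_zero' h with h | h
    · exact Or.inl h
    · exact Or.inr (Or.inl (xor_eq_zero' h))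
  · rcases mul_eq_zero' h with h | h
    · exact Or.inr (Or.inr (Or.inl (xor_eq_zero' h)))
    · rcases mul_eq_zero' h with h | h
      · exact Or.inr (Or.inr (Or.inr (Or.inl (xor_eq_zero' h))))
      · exact Or.inr (Or.inr (Or.inr (Or.inr (xor_eq_zero' h))))

theorem mem_octads {s : Finset GolayPt} : s ∈ octads ↔ s ∈ gC ∧ s.card = 8 := Iff.rfl
theorem mem_dodecads {s : Finset GolayPt} : s ∈ dodecads ↔ s ∈ gC ∧ s.card = 12 := Iff.rfl

theorem card_symmDiff (s t : Finset GolayPt) : (s ∆ t).card + 2 * (s ∩ t).card = s.card + t.card := by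
  have h1 := Finset.card_sdiff_add_card_inter s t
  have h2 := Finset.card_sdiff_add_card_inter t s
  have h3 : (s ∆ t).card = (s \ t).card + (t \ s).card := by
    rw [symmDiff_def, Finset.sup_eq_union, Finset.card_union_of_disjoint disjoint_sdiff_sdiff]
  rw [Finset.inter_comm] at h2
  omega

/-- two code words that are close are equal -/
theorem eq_of_close {s t : Finset GolayPt} (hs : s ∈ gC) (ht : t ∈ gC)
    (h : s.card + t.card < 8 + 2 * (s ∩ t).card) : s = t := by
  have h1 := card_symmDiff s t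
  have h2 := card_of_mem_gC (symmDiff_mem_gC hs ht)
  have h3 : (s ∆ t).card = 0 := by omega
  rwa [Finset.card_eq_zero, ← Finset.bot_eq_empty, symmDiff_eq_bot] at h3

/-- count the code words in a class -/
theorem ncard_cw {S : Set (Finset GolayPt)} (hS : S ⊆ gC) (O : ℕ → ℕ) (v : ℕ)
    (h : ∀ k < 4096, cwd k ∈ S ↔ O k = v) : S.ncard = cnt O v 4096 := by
  rw [← cwd_inj.ncard_class]
  congr 1
  ext s
  constructor
  · intro hs
    obtain ⟨k, hk, rfl⟩ := exists_cwd (hS hs)
    exact ⟨k, ⟨hk, (h k hk).mp hs⟩, rfl⟩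
  · rintro ⟨k, ⟨hk, hO⟩, rfl⟩
    exact (h k hk).mpr hO

/-! ### permutations from packed codes -/

/-- image of the point `i` under the code `c` -/
def pf (c i : ℕ) : ℕ := Nat.land (Nat.shiftRight c (Nat.mul (nat_lit 5) i)) (nat_lit 31)

def img0 (c n : ℕ) : ℕ :=
  (Nat.lor (Nat.shiftLeft (Nat.land (Nat.shiftRight n (nat_lit 0)) (nat_lit 1)) (Nat.land (Nat.shiftRight c (nat_lit 0)) (nat_lit 31)))
    (Nat.lor (Nat.shiftLeft (Nat.land (Nat.shiftRight n (nat_lit 1)) (nat_lit 1)) (Nat.land (Nat.shiftRight c (nat_lit 5)) (nat_lit 31)))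
    (Nat.lor (Nat.shiftLeft (Nat.land (Nat.shiftRight n (nat_lit 2)) (nat_lit 1)) (Nat.land (Nat.shiftRight c (nat_lit 10)) (nat_lit 31)))
    (Nat.lor (Nat.shiftLeft (Nat.land (Nat.shiftRight n (nat_lit 3)) (nat_lit 1)) (Nat.land (Nat.shiftRight c (nat_lit 15)) (nat_lit 31)))
    (Nat.lor (Nat.shiftLeft (Nat.land (Nat.shiftRight n (nat_lit 4)) (nat_lit 1)) (Nat.land (Nat.shiftRight c (nat_lit 20)) (nat_lit 31)))
    (Nat.lor (Nat.shiftLeft (Nat.land (Nat.shiftRight n (nat_lit 5)) (nat_lit 1)) (Nat.land (Nat.shiftRight c (nat_lit 25)) (nat_lit 31)))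
    (Nat.lor (Nat.shiftLeft (Nat.land (Nat.shiftRight n (nat_lit 6)) (nat_lit 1)) (Nat.land (Nat.shiftRight c (nat_lit 30)) (nat_lit 31)))
    (Nat.lor (Nat.shiftLeft (Nat.land (Nat.shiftRight n (nat_lit 7)) (nat_lit 1)) (Nat.land (Nat.shiftRight c (nat_lit 35)) (nat_lit 31)))
    (Nat.lor (Nat.shiftLeft (Nat.land (Nat.shiftRight n (nat_lit 8)) (nat_lit 1)) (Nat.land (Nat.shiftRight c (nat_lit 40)) (nat_lit 31)))
    (Nat.lor (Nat.shiftLeft (Nat.land (Nat.shiftRight n (nat_lit 9)) (nat_lit 1)) (Nat.land (Nat.shiftRight c (nat_lit 45)) (nat_lit 31)))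
    (Nat.lor (Nat.shiftLeft (Nat.land (Nat.shiftRight n (nat_lit 10)) (nat_lit 1)) (Nat.land (Nat.shiftRight c (nat_lit 50)) (nat_lit 31)))
    (Nat.lor (Nat.shiftLeft (Nat.land (Nat.shiftRight n (nat_lit 11)) (nat_lit 1)) (Nat.land (Nat.shiftRight c (nat_lit 55)) (nat_lit 31)))
    (Nat.lor (Nat.shiftLeft (Nat.land (Nat.shiftRight n (nat_lit 12)) (nat_lit 1)) (Nat.land (Nat.shiftRight c (nat_lit 60)) (nat_lit 31)))
    (Nat.lor (Nat.shiftLeft (Nat.land (Nat.shiftRight n (nat_lit 13)) (nat_lit 1)) (Nat.land (Nat.shiftRight c (nat_lit 65)) (nat_lit 31)))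
    (Nat.lor (Nat.shiftLeft (Nat.land (Nat.shiftRight n (nat_lit 14)) (nat_lit 1)) (Nat.land (Nat.shiftRight c (nat_lit 70)) (nat_lit 31)))
    (Nat.lor (Nat.shiftLeft (Nat.land (Nat.shiftRight n (nat_lit 15)) (nat_lit 1)) (Nat.land (Nat.shiftRight c (nat_lit 75)) (nat_lit 31)))
    (Nat.lor (Nat.shiftLeft (Nat.land (Nat.shiftRight n (nat_lit 16)) (nat_lit 1)) (Nat.land (Nat.shiftRight c (nat_lit 80)) (nat_lit 31)))
    (Nat.lor (Nat.shiftLeft (Nat.land (Nat.shiftRight n (nat_lit 17)) (nat_lit 1)) (Nat.land (Nat.shiftRight c (nat_lit 85)) (nat_lit 31)))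
    (Nat.lor (Nat.shiftLeft (Nat.land (Nat.shiftRight n (nat_lit 18)) (nat_lit 1)) (Nat.land (Nat.shiftRight c (nat_lit 90)) (nat_lit 31)))
    (Nat.lor (Nat.shiftLeft (Nat.land (Nat.shiftRight n (nat_lit 19)) (nat_lit 1)) (Nat.land (Nat.shiftRight c (nat_lit 95)) (nat_lit 31)))
    (Nat.lor (Nat.shiftLeft (Nat.land (Nat.shiftRight n (nat_lit 20)) (nat_lit 1)) (Nat.land (Nat.shiftRight c (nat_lit 100)) (nat_lit 31)))
    (Nat.lor (Nat.shiftLeft (Nat.land (Nat.shiftRight n (nat_lit 21)) (nat_lit 1)) (Nat.land (Nat.shiftRight c (nat_lit 105)) (nat_lit 31)))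
    (Nat.lor (Nat.shiftLeft (Nat.land (Nat.shiftRight n (nat_lit 22)) (nat_lit 1)) (Nat.land (Nat.shiftRight c (nat_lit 110)) (nat_lit 31)))
    (Nat.lor (Nat.shiftLeft (Nat.land (Nat.shiftRight n (nat_lit 23)) (nat_lit 1)) (Nat.land (Nat.shiftRight c (nat_lit 115)) (nat_lit 31)))
    (nat_lit 0)))))))))))))))))))))))))

/-- image of a bitmask under the code `c` -/
noncomputable def img (c n : ℕ) : ℕ := frc c fun c => frc n fun n => img0 c n

theorem testBit_img (c n j : ℕ) : (img c n).testBit j = true ↔ ∃ i < 24, n.testBit i = true ∧ pf c i = j := by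
  have h : img c n = (List.range 24).foldr (fun i r => (((n >>> i) &&& 1) <<< pf c i) ||| r) 0 := rfl
  have h2 : ∀ l : List ℕ, (l.foldr (fun i r => (((n >>> i) &&& 1) <<< pf c i) ||| r) 0).testBit j = true ↔
      ∃ i ∈ l, n.testBit i = true ∧ pf c i = j := by
    intro l
    induction l with
    | nil => simp
    | cons a l ih =>
      simp only [List.foldr_cons, Nat.testBit_or, Bool.or_eq_true, ih, List.mem_cons, exists_eq_or_imp]
      refine or_congr ?_ Iff.rfl
      simp only [Nat.testBit_shiftLeft, Nat.testBit_and, Nat.testBit_shiftRight, Bool.and_eq_true,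
        decide_eq_true_eq, Nat.testBit_one_eq_true_iff_self_eq_zero]
      constructor
      · rintro ⟨h1, h2, h3⟩
        rw [h3, add_zero] at h2
        exact ⟨h2, by omega⟩
      · rintro ⟨h1, rfl⟩
        simpa using h1
  rw [h, h2]
  simp

open Classical in
/-- the permutation of the 24 points with code `c` -/
noncomputable def pm (c : ℕ) : Equiv.Perm GolayPt :=
  if h : Function.Bijective (fun p => gp (pf c (gi p))) then Equiv.ofBijective _ h else 1

/-- `c` is the code of a permutation -/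
def Valid (c : ℕ) : Prop := img c 16777215 = 16777215

theorem Valid.pf_lt {c : ℕ} (h : Valid c) {i : ℕ} (hi : i < 24) : pf c i < 24 := by
  have h1 : (img c 16777215).testBit (pf c i) = true := by
    rw [testBit_img]
    refine ⟨i, hi, ?_, rfl⟩
    revert i; decide
  rw [h] at h1
  by_contra h2
  have : 2 ^ 24 ≤ 2 ^ pf c i := Nat.pow_le_pow_right (by norm_num) (by omega)
  rw [Nat.testBit_lt_two_pow (by omega)] at h1
  exact absurd h1 (by simp)

theorem Valid.pm_apply {c : ℕ} (h : Valid c) (p : GolayPt) : pm c p = gp (pf c (gi p)) := by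
  have hb : Function.Bijective (fun p => gp (pf c (gi p))) := by
    rw [← Finite.surjective_iff_bijective]
    intro q
    have h1 : (img c 16777215).testBit (gi q) = true := by
      rw [h]; revert q; decide
    rw [testBit_img] at h1
    obtain ⟨i, hi, -, e⟩ := h1
    exact ⟨gp i, by simp only [gi_gp hi, e, gp_gi]⟩
  rw [pm, dif_pos hb]; rfl

theorem Valid.pm_gp {c : ℕ} (h : Valid c) {i : ℕ} (hi : i < 24) : pm c (gp i) = gp (pf c i) := by
  rw [h.pm_apply, gi_gp hi]

theorem Valid.img_lt {c : ℕ} (h : Valid c) (n : ℕ) : img c n < 2 ^ 24 := by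
  apply Nat.lt_pow_two_of_testBit
  intro j hj
  by_contra h1
  rw [Bool.not_eq_false, testBit_img] at h1
  obtain ⟨i, hi, -, e⟩ := h1
  have := h.pf_lt hi
  omega

theorem Valid.smul_bset {c : ℕ} (h : Valid c) (n : ℕ) : pm c • bset n = bset (img c n) := by
  ext q
  simp only [Finset.mem_smul_finset, mem_bset, testBit_img, Equiv.Perm.smul_def, h.pm_apply]
  constructor
  · rintro ⟨p, hp, rfl⟩
    exact ⟨gi p, gi_lt p, hp, (gi_gp (h.pf_lt (gi_lt p))).symm⟩
  · rintro ⟨i, hi, hn, e⟩
    exact ⟨gp i, by rwa [gi_gp hi], by rw [gi_gp hi, e, gp_gi]⟩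

theorem smul_symmDiff (g : Equiv.Perm GolayPt) (s t : Finset GolayPt) : g • (s ∆ t) = (g • s) ∆ (g • t) := by
  simp only [Finset.smul_finset_def]
  exact Finset.image_symmDiff s t (MulAction.injective g)

theorem mem_M24_of {g : Equiv.Perm GolayPt} (h : ∀ s ∈ gC, g • s ∈ gC) : g ∈ M24 := by
  rw [MulAction.mem_stabilizer_iff]
  refine Set.eq_of_subset_of_ncard_le ?_ ?_ (Set.toFinite _)
  · rintro _ ⟨s, hs, rfl⟩; exact h s hs
  · rw [Set.ncard_smul_set]

theorem smul_mem_gC {g : Equiv.Perm GolayPt} (hg : g ∈ M24) {s : Finset GolayPt} (hs : s ∈ gC) : g • s ∈ gC := by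
  have := MulAction.mem_stabilizer_iff.mp hg
  show g • s ∈ supports _
  rw [← this]; exact Set.smul_mem_smul_set hs

theorem mem_M24_of_basis {g : Equiv.Perm GolayPt} (h : ∀ b ∈ gBasis, g • bset b ∈ gC) : g ∈ M24 := by
  apply mem_M24_of
  intro s hs
  obtain ⟨k, hk, rfl⟩ := exists_cwd hs
  rw [cwd, cw_eq_sel hk]
  exact sel_induction (P := fun n => g • bset n ∈ gC) (by rw [bset_zero]; simpa using empty_mem_gC)
    (fun a b ha hb => by rw [bset_xor, smul_symmDiff]; exact symmDiff_mem_gC ha hb) _ h k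

/-- error term: `c` codes an element of `M24` -/
noncomputable def okE (c : ℕ) : ℕ := frc c fun c =>
  Nat.add (Nat.xor (img c (nat_lit 16777215)) (nat_lit 16777215))
    (List.rec (nat_lit 0) (fun b _ ih => Nat.add (syn (img c b)) ih) gBasis)

theorem valid_of_okE {c : ℕ} (h : okE c = 0) : Valid c := xor_eq_zero' (add_eq_zero' h).1

theorem mem_of_okE {c : ℕ} (h : okE c = 0) : pm c ∈ M24 := by
  have hv := valid_of_okE h
  have h2 := (add_eq_zero' h).2
  have key : ∀ l : List ℕ, (List.rec (nat_lit 0) (fun b _ ih => Nat.add (syn (img c b)) ih) l : ℕ) = 0 →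
      ∀ b ∈ l, syn (img c b) = 0 := by
    intro l
    induction l with
    | nil => simp
    | cons a l ih =>
      intro h b hb
      obtain ⟨h1, h2⟩ := add_eq_zero' h
      rcases List.mem_cons.mp hb with rfl | hb
      · exact h1
      · exact ih h2 b hb
  apply mem_M24_of_basis
  intro b hb
  rw [hv.smul_bset, bset_mem_gC (hv.img_lt b)]
  exact key _ h2 b hb

open Classical in
/-- the element of `M24` with code `c` -/
noncomputable def m24 (c : ℕ) : M24 := if h : okE c = 0 then ⟨pm c, mem_of_okE h⟩ else 1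

theorem coe_m24 {c : ℕ} (h : okE c = 0) : (m24 c : Equiv.Perm GolayPt) = pm c := by rw [m24, dif_pos h]

theorem m24_smul_gp {c : ℕ} (h : okE c = 0) {i : ℕ} (hi : i < 24) : m24 c • gp i = gp (pf c i) := by
  rw [Subgroup.smul_def, coe_m24 h, Equiv.Perm.smul_def, (valid_of_okE h).pm_gp hi]

theorem m24_smul_bset {c : ℕ} (h : okE c = 0) (n : ℕ) : m24 c • bset n = bset (img c n) := by
  rw [Subgroup.smul_def, coe_m24 h, (valid_of_okE h).smul_bset]

end Cfsg.Agent.Spor
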