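import Cfsg.Agent.Lib.Spor.Golay
import Cfsg.Agent.Lib.PermCert.More

/-! Families of elements of `M24` given by codes; the order of `M24` and its point stabilizer chain. -/

set_option autoImplicit false

namespace Cfsg.Agent.Spor

open Cfsg.Agent.PC Finset MulAction
open scoped Pointwise symmDiff

/-- the `j`-th code in a packed list of codes -/
def cds (big j : ℕ) : ℕ :=
  Nat.land (Nat.shiftRight big (Nat.mul (nat_lit 120) j)) (nat_lit 0xffffffffffffffffffffffffffffff)

/-- family of elements of `M24` -/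
noncomputable def fam (C : ℕ → ℕ) (j : ℕ) : M24 := m24 (C j)

/-- the codes below `m` are codes of elements of `M24` -/
def FamOK (C : ℕ → ℕ) (m : ℕ) : Prop := ∀ j < m, okE (C j) = 0

theorem famOK_of {C : ℕ → ℕ} {m : ℕ} (h : Nat.beq (upTo (fun j => okE (C j)) m) (nat_lit 0) = true) : FamOK C m :=
  upTo_beq h

theorem FamOK.mono {C : ℕ → ℕ} {m m' : ℕ} (h : FamOK C m) (hm : m' ≤ m) : FamOK C m' :=
  fun j hj => h j (lt_of_lt_of_le hj hm)

/-- action tables on points -/
def TP (C : ℕ → ℕ) (j c : ℕ) : ℕ := pf (C j) c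

/-- action tables on code words -/
noncomputable def TC (C : ℕ → ℕ) (j k : ℕ) : ℕ := Nat.land (img (C j) (cw k)) (nat_lit 4095)

theorem FamOK.repsP {C : ℕ → ℕ} {m : ℕ} (h : FamOK C m) : Reps gp 24 (fam C) (TP C) m :=
  fun j hj _ hi => ⟨(valid_of_okE (h j hj)).pf_lt hi, m24_smul_gp (h j hj) hi⟩

theorem msmul_mem_gC (g : M24) {s : Finset GolayPt} (hs : s ∈ gC) : g • s ∈ gC := smul_mem_gC g.2 hs

theorem msmul_mem_gC_iff (g : M24) {s : Finset GolayPt} : g • s ∈ gC ↔ s ∈ gC :=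
  ⟨fun h => by simpa using msmul_mem_gC g⁻¹ h, msmul_mem_gC g⟩

theorem smul_mem_octads (g : M24) {s : Finset GolayPt} : g • s ∈ octads ↔ s ∈ octads := by
  rw [mem_octads, mem_octads, msmul_mem_gC_iff, Finset.card_smul_finset]

theorem smul_mem_dodecads (g : M24) {s : Finset GolayPt} : g • s ∈ dodecads ↔ s ∈ dodecads := by
  rw [mem_dodecads, mem_dodecads, msmul_mem_gC_iff, Finset.card_smul_finset]

theorem m24_smul_cwd {c : ℕ} (h : okE c = 0) {k : ℕ} (hk : k < 4096) :
    m24 c • cwd k = cwd (img c (cw k) &&& 4095) := by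
  have h1 := msmul_mem_gC (m24 c) (cwd_mem hk)
  rw [cwd, m24_smul_bset h] at h1 ⊢
  rw [bset_mem_gC ((valid_of_okE h).img_lt _)] at h1
  rw [cwd, ← eq_cw_of_syn h1]

theorem FamOK.repsC {C : ℕ → ℕ} {m : ℕ} (h : FamOK C m) : Reps cwd 4096 (fam C) (TC C) m :=
  fun j hj _ hi => ⟨and_lt _, m24_smul_cwd (h j hj) hi⟩

theorem gp_surj : ∀ x : GolayPt, ∃ i < 24, gp i = x := exists_gp

instance faithfulM24 : FaithfulSMul M24 GolayPt := inferInstance

/-- an element fixing enough points of a code word fixes the code word -/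
theorem smul_eq_of_fix {g : M24} {S A : Finset GolayPt} (hS : ∀ p ∈ S, g • p = p) (hA : A ∈ gC)
    (h : A.card < 4 + (A ∩ S).card) : g • A = A := by
  apply eq_of_close (msmul_mem_gC g hA) hA
  have : (A ∩ S).card ≤ (g • A ∩ A).card := by
    apply Finset.card_le_card
    intro p hp
    rw [Finset.mem_inter] at hp ⊢
    exact ⟨hS p hp.2 ▸ Finset.smul_mem_smul_finset hp.1, hp.1⟩
  rw [Finset.card_smul_finset]
  omega

theorem smul_mem_sdiff {g : M24} {S A : Finset GolayPt} (hS : ∀ p ∈ S, g • p = p) (hA : g • A = A)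
    {p : GolayPt} (hp : p ∈ A \ S) : g • p ∈ A \ S := by
  rw [Finset.mem_sdiff] at hp ⊢
  refine ⟨hA ▸ Finset.smul_mem_smul_finset hp.1, fun h => hp.2 ?_⟩
  have := hS _ h
  rw [smul_left_cancel_iff] at this
  rwa [this] at h

/-- one propagation step `A + 2^24 B + 2^48 p`: the code words `A`, `B` are fixed and meet outside `S` in `p` only -/
noncomputable def propE (l : List ℕ) : ℕ → ℕ :=
  List.rec (motive := fun _ => ℕ → ℕ) (fun S => Nat.xor S (nat_lit 16777215))
    (fun x _ ih S => frc (Nat.land x (nat_lit 16777215)) fun A =>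
      frc (Nat.land (Nat.shiftRight x (nat_lit 24)) (nat_lit 16777215)) fun B =>
      frc (Nat.shiftRight x (nat_lit 48)) fun p =>
      Nat.add (Nat.add (Nat.add (Nat.add (syn A) (syn B)) (ltE p (nat_lit 24)))
        (Nat.add (Nat.add (ltE (pop A) (Nat.add (nat_lit 4) (pop (Nat.land A S))))
          (ltE (pop B) (Nat.add (nat_lit 4) (pop (Nat.land B S)))))
          (Nat.xor (Nat.land (Nat.land A B) (Nat.xor S (nat_lit 16777215))) (Nat.pow (nat_lit 2) p))))
        (frc (Nat.lor S (Nat.pow (nat_lit 2) p)) ih)) l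

theorem eq_one_of_prop {g : M24} (l : List ℕ) : ∀ S, propE l S = 0 → (∀ p ∈ bset S, g • p = p) → g = 1 := by
  induction l with
  | nil =>
    intro S h hS
    have : S = 16777215 := xor_eq_zero' h
    rw [this, bset_all] at hS
    exact eq_of_smul_eq_smul (α := GolayPt) fun p => by rw [hS p (mem_univ p), one_smul]
  | cons x l ih =>
    intro S h hS
    have hl : ∀ y : ℕ, y &&& 16777215 < 2 ^ 24 := fun y => lt_of_le_of_lt Nat.and_le_right (by norm_num)
    generalize hA : x &&& 16777215 = A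
    generalize hB : (x >>> 24) &&& 16777215 = B
    generalize hp : x >>> 48 = p
    have h' : Nat.add (Nat.add (Nat.add (Nat.add (syn A) (syn B)) (ltE p 24))
        (Nat.add (Nat.add (ltE (pop A) (4 + pop (A &&& S))) (ltE (pop B) (4 + pop (B &&& S))))
          (Nat.xor ((A &&& B) &&& (S ^^^ 16777215)) (2 ^ p)))) (propE l (S ||| 2 ^ p)) = 0 := by
      rw [← hA, ← hB, ← hp]; exact h
    obtain ⟨h1, h2⟩ := add_eq_zero' h'
    obtain ⟨h3, h4⟩ := add_eq_zero' h1
    obtain ⟨h5, h6⟩ := add_eq_zero' h3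
    obtain ⟨h7, h8⟩ := add_eq_zero' h5
    obtain ⟨h9, h10⟩ := add_eq_zero' h4
    obtain ⟨h11, h12⟩ := add_eq_zero' h9
    have hp24 := ltE_zero h6
    have fA : g • bset A = bset A := smul_eq_of_fix hS ((bset_mem_gC (hA ▸ hl _)).mpr h7)
      (by rw [← bset_and, card_bset, card_bset]; exact ltE_zero h11)
    have fB : g • bset B = bset B := smul_eq_of_fix hS ((bset_mem_gC (hB ▸ hl _)).mpr h8)
      (by rw [← bset_and, card_bset, card_bset]; exact ltE_zero h12)
    have e : (bset A ∩ bset B) \ bset S = {gp p} := by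
      rw [← bset_pow' hp24, ← xor_eq_zero' h10, bset_and, bset_and, bset_compl]
      ext; simp [and_assoc]
    have := smul_mem_sdiff hS (A := bset A ∩ bset B) (by rw [Finset.smul_finset_inter, fA, fB]) (p := gp p)
      (by rw [e]; exact mem_singleton_self _)
    rw [e, mem_singleton] at this
    refine ih _ h2 fun q hq => ?_
    rw [bset_or, bset_pow' hp24, mem_union, mem_singleton] at hq
    rcases hq with hq | rfl
    · exact hS q hq
    · exact this

def c24 (j : ℕ) : ℕ := cds (nat_lit 0x516b693c5371ee04b2860a08383571b8aa0719a78128c4acb2545e198ec8b948f958701226b3d131ab9ac30540b928d0ba62b3d2c348e58456355500ba09149aa553a0c69c3393c43a2ec0bc9f45c6d05382c454b36888930ce0bd9ea34a30ab96c6d0e44cc4809460bc84d546d05b8ec316a4a3e6342420) j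
def ch24V0 (i : ℕ) : ℕ := Nat.land (Nat.shiftRight (nat_lit 0x5e61069859c75f3dd45869c49a5616d769f) (Nat.mul (nat_lit 6) i)) (nat_lit 63)
def ch24V1 (i : ℕ) : ℕ := Nat.land (Nat.shiftRight (nat_lit 0x2650e62075e6a65a57516604227584da641) (Nat.mul (nat_lit 6) i)) (nat_lit 63)
def ch24V2 (i : ℕ) : ℕ := Nat.land (Nat.shiftRight (nat_lit 0x144e18dd6db65d90169869076248d619700) (Nat.mul (nat_lit 6) i)) (nat_lit 63)
def ch24V3 (i : ℕ) : ℕ := Nat.land (Nat.shiftRight (nat_lit 0x1085960c62c6816008546624e0822720680) (Nat.mul (nat_lit 6) i)) (nat_lit 63)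
def ch24V4 (i : ℕ) : ℕ := Nat.land (Nat.shiftRight (nat_lit 0x2b8106abac16002c045b6624a28626db680) (Nat.mul (nat_lit 6) i)) (nat_lit 63)
def ch24V5 (i : ℕ) : ℕ := Nat.land (Nat.shiftRight (nat_lit 0x310d0000c01408e73896b304c820) (Nat.mul (nat_lit 5) i)) (nat_lit 31)
def ch24V6 (i : ℕ) : ℕ := Nat.land (Nat.shiftRight (nat_lit 0x40000202000000000000000000000) (Nat.mul (nat_lit 5) i)) (nat_lit 31)
noncomputable def ch24 : List Lev := [⟨(nat_lit 23), (nat_lit 24), (nat_lit 7), ch24V0⟩, ⟨(nat_lit 0), (nat_lit 23), (nat_lit 6), ch24V1⟩, ⟨(nat_lit 12), (nat_lit 22), (nat_lit 5), ch24V2⟩, ⟨(nat_lit 14), (nat_lit 21), (nat_lit 4), ch24V3⟩, ⟨(nat_lit 16), (nat_lit 20), (nat_lit 3), ch24V4⟩, ⟨(nat_lit 1), (nat_lit 16), (nat_lit 1), ch24V5⟩, ⟨(nat_lit 17), (nat_lit 3), (nat_lit 0), ch24V6⟩]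
def prop24 : List ℕ := [nat_lit 1428610854567983, nat_lit 6440117212762113, nat_lit 5285696021942273, nat_lit 5520922866479106, nat_lit 3780327273787394, nat_lit 4303419830038530, nat_lit 5800130277322756, nat_lit 796802413801476, nat_lit 6111498488131592, nat_lit 965577509056520, nat_lit 1296530646183952, nat_lit 1949160327397440, nat_lit 2004205688508544, nat_lit 2319561516753152, nat_lit 2668798196531712, nat_lit 3010273869943808, nat_lit 3346535452747776]
def cgen (j : ℕ) : ℕ := cds (nat_lit 0x516b693c5371ee04b2860a08383571b8aa0719a78128c4acb2545e198ec8b948f958701226b3d131ab9ac30540b928d0ba62b3d2c348e58456355500ba09149aa553a0c69c3393c43a2ec0bc9f45c6d05382c454b36888930ce0bd9ea34a30ab96c6d0e44cc4809460bc84d546d05b8ec316a4a3e6342420bc5272da5033a8c7cc436ad4825420bc4d35da504b9eca1da8116a30a880bca671c6d04b9ac2990f0904aaae80ba4338286b8b9ec454b4134f235880bcd287c0aaa844c71db1590c3a5a40ba050352c4928ac7246d9d62f59c20bba8ab116d7c52899d90286a219a40005883388a1c8f5140b46cd317aed7b82d5a4e5183dcd62d4941cc520c41)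 j
def wgen_t : TL := (TL.node (TL.node (TL.node (TL.node (TL.node (TL.leaf []) (TL.leaf [nat_lit 4, nat_lit 4, nat_lit 0, nat_lit 1, nat_lit 3, nat_lit 2, nat_lit 0, nat_lit 8, nat_lit 2, nat_lit 2, nat_lit 8, nat_lit 3, nat_lit 6, nat_lit 8, nat_lit 5, nat_lit 8, nat_lit 7, nat_lit 6, nat_lit 8, nat_lit 8])) (TL.leaf [nat_lit 1, nat_lit 7, nat_lit 3, nat_lit 2, nat_lit 0, nat_lit 1, nat_lit 0, nat_lit 1, nat_lit 0, nat_lit 3, nat_lit 2, nat_lit 2, nat_lit 4, nat_lit 5, nat_lit 3, nat_lit 3, nat_lit 6, nat_lit 7, nat_lit 5, nat_lit 5])) (TL.node (TL.leaf [nat_lit 3, nat_lit 1, nat_lit 0, nat_lit 2, nat_lit 2, nat_lit 1, nat_lit 3, nat_lit 0, nat_lit 1, nat_lit 0, nat_lit 3, nat_lit 3, nat_lit 3, nat_lit 2]) (TL.leaf [nat_lit 8, nat_lit 5, nat_lit 5, nat_lit 6, nat_lit 8, nat_lit 7]))) (TL.node (TL.node (TL.leaf []) (TL.leaf [nat_lit 7, nat_lit 8, nat_lit 8])) (TL.node (TL.leaf [nat_lit 1, nat_lit 0, nat_lit 5, nat_lit 5, nat_lit 0, nat_lit 2,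 nat_lit 0, nat_lit 1, nat_lit 5, nat_lit 3, nat_lit 2, nat_lit 2]) (TL.leaf [nat_lit 6, nat_lit 3, nat_lit 2, nat_lit 8, nat_lit 8, nat_lit 3, nat_lit 6, nat_lit 6, nat_lit 5, nat_lit 8, nat_lit 7, nat_lit 6])))) (TL.node (TL.node (TL.node (TL.leaf []) (TL.leaf [nat_lit 8, nat_lit 8])) (TL.node (TL.leaf [nat_lit 1, nat_lit 3, nat_lit 1, nat_lit 2, nat_lit 3, nat_lit 3, nat_lit 4, nat_lit 2, nat_lit 3, nat_lit 3, nat_lit 4, nat_lit 3, nat_lit 3]) (TL.leaf [nat_lit 4, nat_lit 5, nat_lit 3, nat_lit 8, nat_lit 5, nat_lit 5, nat_lit 6, nat_lit 7, nat_lit 7]))) (TL.node (TL.node (TL.leaf [nat_lit 2, nat_lit 1, nat_lit 2, nat_lit 2, nat_lit 0, nat_lit 0, nat_lit 2, nat_lit 2, nat_lit 1, nat_lit 0, nat_lit 1, nat_lit 0, nat_lit 2, nat_lit 2]) (TL.leaf [nat_lit 8, nat_lit 6, nat_lit 6])) (TL.node (TL.leaf [nat_lit 3, nat_lit 4, nat_lit 6, nat_lit 5, nat_lit 4, nat_lit 3, nat_lit 3]) (TL.leaf [nat_lit 0, nat_lit 0, nat_lit 0, nat_lit 6, nat_lit 2, nat_lit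 4, nat_lit 3, nat_lit 3, nat_lit 6, nat_lit 5, nat_lit 5, nat_lit 5, nat_lit 7, nat_lit 7, nat_lit 6, nat_lit 8])))))
noncomputable def wgen (i : ℕ) : List ℕ := TL.get wgen_t i

theorem c24_ok : FamOK c24 8 := famOK_of (by decide +kernel)

theorem ch24_ok : chainE (TP c24) 24 8 ch24 8 = 0 := Nat.eq_of_beq_eq_true (by decide +kernel)

/-- pointwise stabilizer of the points of a list -/
def fixL : List ℕ → Subgroup M24
  | [] => ⊤
  | i :: l => fixL l ⊓ stabilizer M24 (gp i)

theorem fixL_fix {l : List ℕ} {g : M24} (hg : g ∈ fixL l) : ∀ i ∈ l, g • gp i = gp i := by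
  induction l with
  | nil => simp
  | cons a l ih =>
    intro i hi
    rcases List.mem_cons.mp hi with rfl | hi
    · exact hg.2
    · exact ih hg.1 i hi

theorem fixL_fix' {l : List ℕ} {g : M24} (hg : g ∈ fixL l) {S : ℕ} (h : ∀ i < 24, S.testBit i = true → i ∈ l) :
    ∀ p ∈ bset S, g • p = p := by
  intro p hp
  obtain ⟨i, hi, rfl⟩ := exists_gp p
  exact fixL_fix hg i (h i hi ((gp_mem_bset hi).mp hp))

theorem fixL_step {l : List ℕ} (i S A : ℕ) (h : ∀ i < 24, S.testBit i = true → i ∈ l) (hA : ∀ g ∈ fixL l, g • bset A = bset A)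
    (hi : gp i ∈ bset A \ bset S) {n k : ℕ} (hn : (bset A \ bset S).card = n) (hk : CardLE (fixL (i :: l)) k) :
    CardLE (fixL l) (n * k) :=
  hn ▸ cardLE_step (gp i) _ (fun _ hg => smul_mem_sdiff (fixL_fix' hg h) (hA _ hg) hi) hk

theorem M24_cardLE : CardLE (⊤ : Subgroup M24) 244823040 := by
  have ha : ∀ l, ∀ g ∈ fixL l, g • bset 16777215 = bset 16777215 := fun l g _ => by
    rw [bset_all, Finset.smul_finset_univ]
  have h7 : CardLE (fixL [17, 1, 16, 14, 12, 0, 23]) 1 := cardLE_of_eq_one fun g hg =>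
    eq_one_of_prop prop24 8605699 (Nat.eq_of_beq_eq_true (by decide +kernel)) (fixL_fix' hg (by decide))
  have ho : ∀ l, (∀ i < 24, Nat.testBit 8474625 i = true → i ∈ l) → ∀ g ∈ fixL l, g • bset 13062145 = bset 13062145 :=
    fun l hl g hg => smul_eq_of_fix (fixL_fix' hg hl) ((bset_mem_gC (by norm_num)).mpr (by decide +kernel)) (by decide)
  have h6 := fixL_step 17 8474627 13062145 (by decide) (ho _ (by decide)) (by decide) (n := 3) (by decide) h7
  have h5 := fixL_step 1 0 (13062145 ^^^ 16777215) (by decide) (fun g hg => by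
    rw [bset_compl, Finset.compl_eq_univ_sdiff, Finset.smul_finset_sdiff, Finset.smul_finset_univ,
      ho _ (by decide) g hg]) (by decide) (n := 16) (by decide) h6
  have h4 := fixL_step 16 8409089 _ (by decide) (ha _) (by decide) (n := 20) (by decide) h5
  have h3 := fixL_step 14 8392705 _ (by decide) (ha _) (by decide) (n := 21) (by decide) h4
  have h2 := fixL_step 12 8388609 _ (by decide) (ha _) (by decide) (n := 22) (by decide) h3
  have h1 := fixL_step 0 8388608 _ (by decide) (ha _) (by decide) (n := 23) (by decide) h2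
  exact fixL_step 23 0 _ (by decide) (ha _) (by decide) (n := 24) (by decide) h1

theorem gen_c24 : gen (fam c24) 8 = ⊤ :=
  (chain_gen_eq gp_inj c24_ok.repsP ch24_ok le_top M24_cardLE).1

theorem card_M24 : Nat.card M24 = 244823040 := by
  rw [← Subgroup.card_top]
  exact (chain_gen_eq gp_inj c24_ok.repsP ch24_ok le_top M24_cardLE).2

theorem pm_alpha : pm 0xb82d5a4e5183dcd62d4941cc520c41 = Equiv.optionCongr (Equiv.addRight (1 : ZMod 23)) := by
  have h : Valid 0xb82d5a4e5183dcd62d4941cc520c41 := by unfold Valid; decide +kernel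
  ext1 p; rw [h.pm_apply]; revert p; decide +kernel

theorem pm_gamma : pm 0x5883388a1c8f5140b46cd317aed7 = projInv := by
  have h : Valid 0x5883388a1c8f5140b46cd317aed7 := by unfold Valid; decide +kernel
  ext1 p; rw [h.pm_apply]; revert p; decide +kernel

theorem pm_delta : pm 0xbba8ab116d7c52899d90286a219a40 = cubeTwist := by
  have h : Valid 0xbba8ab116d7c52899d90286a219a40 := by unfold Valid; decide +kernel
  ext1 p; rw [h.pm_apply]
  show _ = cubeTwistFun p
  revert p; decide +kernel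

theorem cgen_ok : FamOK cgen 17 := famOK_of (by decide +kernel)

theorem alpha_mem : Equiv.optionCongr (Equiv.addRight (1 : ZMod 23)) ∈ M24 :=
  pm_alpha ▸ mem_of_okE (cgen_ok 0 (by norm_num))
theorem gamma_mem : projInv ∈ M24 := pm_gamma ▸ mem_of_okE (cgen_ok 1 (by norm_num))
theorem delta_mem : cubeTwist ∈ M24 := pm_delta ▸ mem_of_okE (cgen_ok 2 (by norm_num))

theorem eq_top_of_gens {H : Subgroup M24} (h0 : ⟨_, alpha_mem⟩ ∈ H) (h1 : ⟨_, gamma_mem⟩ ∈ H)
    (h2 : ⟨_, delta_mem⟩ ∈ H) : H = ⊤ := by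
  have h := mem_of_slpE gp_surj cgen_ok.repsP (W := wgen) (m0 := 3) (H := H) (by
    intro j hj
    interval_cases j
    · convert h0 using 1; exact Subtype.ext ((coe_m24 (cgen_ok 0 (by norm_num))).trans pm_alpha)
    · convert h1 using 1; exact Subtype.ext ((coe_m24 (cgen_ok 1 (by norm_num))).trans pm_gamma)
    · convert h2 using 1; exact Subtype.ext ((coe_m24 (cgen_ok 2 (by norm_num))).trans pm_delta))
    (fun j h1 h2 => rng_zero (f := slpE (TP cgen) wgen 24) (s := 3) (n := 17 - 3)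
      (Nat.eq_of_beq_eq_true (by decide +kernel)) j h1 (by omega))
  rw [eq_top_iff, ← gen_c24]
  refine gen_le fun j hj => ?_
  have e : ∀ j < 8, c24 j = cgen (9 + j) := by decide +kernel
  rw [fam, e j hj]
  exact h _ (by omega)

end Cfsg.Agent.Spor
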