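import Cfsg.Agent.Lib.Spor.Small

/-! Complementary pairs of dodecads. -/

set_option autoImplicit false
set_option linter.unusedVariables false

namespace Cfsg.Agent.Spor

open Cfsg.Agent.PC Cfsg.Agent.Leech Finset MulAction
open scoped Pointwise symmDiff

def prC2 (d : Finset GolayPt) : Finset (Finset GolayPt) := {d, dᶜ}

theorem smul_prC2 (g : M24) (d : Finset GolayPt) : g • prC2 d = prC2 (g • d) := by
  rw [prC2, smul_finset_insert, smul_finset_singleton, msmul_compl]; rfl

theorem prC2_compl (d : Finset GolayPt) : prC2 dᶜ = prC2 d := by rw [prC2, compl_compl, pair_comm]; rfl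

theorem prC2_eq {d e : Finset GolayPt} : prC2 d = prC2 e ↔ d = e ∨ d = eᶜ :=
  ⟨fun h => by simpa [prC2] using (h ▸ mem_insert_self _ _ : d ∈ prC2 e), fun h => h.elim (congrArg _) fun h => h ▸ prC2_compl e⟩

def gP (j : ℕ) : ℕ := cds (nat_lit 0x90d0d2158a826a701a370bc54b2dd39d235b99647284d2bd30382d20b06871ee550ec87cd905c4c2a868968092) j
theorem gP_ok : FamOK gP 3 := famOK_of (by decide +kernel)

theorem gP_gen : gen (fam gP) 3 = stabilizer M24 (prC2 (bset 340831)) := by
  have c : ∀ j < 3, Is (fam gP j) (gP j) := fun j hj => is_m24 (gP_ok j hj) (by revert j; decide +kernel)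
  have w : fam gP 2 • bset 340831 = (bset 340831)ᶜ := by
    rw [← bset_compl]; exact ((c 2 (by norm_num)).bset_iff _ (by decide)).2 (by decide +kernel)
  have l : stabilizer M24 (bset 340831) ≤ gen (fam gP) 3 := gD_gen ▸ gen_le_codes 0 (by norm_num) (by decide +kernel)
  refine le_antisymm (gen_le fun j hj => ?_) fun g hg => ?_
  · rw [mem_stabilizer_iff, smul_prC2, prC2_eq, ← bset_compl, (c j hj).bset_iff _ (by decide), (c j hj).bset_iff _ (by decide)]
    revert j; decide +kernel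
  · rw [mem_stabilizer_iff, smul_prC2, prC2_eq] at hg
    rcases hg with h | h
    · exact l h
    · rw [← mul_inv_cancel_left (fam gP 2) g]
      exact mul_mem (mem_gen _ (by norm_num)) (l (by rw [mem_stabilizer_iff, mul_smul, h, ← w, inv_smul_smul]))

theorem cwd_xor {k : ℕ} (hk : k < 4096) : cwd (k ^^^ 4095) = (cwd k)ᶜ := by
  rw [cwd, cw_xor hk (by norm_num), show cw 4095 = 16777215 by decide +kernel, bset_compl]; rfl

noncomputable def pp (k : ℕ) : Finset (Finset GolayPt) := prC2 (cwd k)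

def nm (k : ℕ) : ℕ := Nat.xor k (Nat.mul (nat_lit 4095) (Nat.shiftRight k (nat_lit 11)))

theorem nm_chk : ∀ k < 4096, nm k < 2048 ∧ (nm k = k ∨ nm k = k ^^^ 4095) ∧ (k < 2048 → 2048 ≤ k ^^^ 4095) := fun k hk => by
  have := upTo_beq (f := fun k => if nm k < 2048 ∧ (nm k = k ∨ nm k = k ^^^ 4095) ∧ (k < 2048 → 2048 ≤ k ^^^ 4095) then 0 else 1)
    (n := 4096) (by decide +kernel) k hk
  by_contra n
  simp only [n, if_false] at this
  exact one_ne_zero this

theorem pp_nm {k : ℕ} (hk : k < 4096) : pp (nm k) = pp k := by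
  rcases (nm_chk k hk).2.1 with h | h
  · rw [h]
  · rw [h, pp, cwd_xor hk, prC2_compl]; rfl

theorem pp_inj : Inj pp 2048 := fun i hi j hj e => by
  rcases prC2_eq.1 e with h | h
  · exact cwd_inj i (by omega) j (by omega) h
  · rw [← cwd_xor (by omega)] at h
    have := cwd_inj i (by omega) _ (Nat.xor_lt_two_pow (n := 12) (by omega) (by norm_num)) h
    have := (nm_chk j (by omega)).2.2 hj
    omega

noncomputable def TPP (C : ℕ → ℕ) (j k : ℕ) : ℕ := frc (TC C j k) nm

theorem FamOK.repsPP {C : ℕ → ℕ} {m : ℕ} (h : FamOK C m) : Reps pp 2048 (fam C) (TPP C) m := fun j hj k hk => by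
  obtain ⟨a, b⟩ := h.repsC j hj k (by omega)
  rw [TPP, frc_eq, pp_nm a, pp, smul_prC2, b]
  exact ⟨(nm_chk _ a).1, rfl⟩

theorem pp_orbit : orbit M24 (pp 863) = pp '' {d | d < 2048 ∧ (fun k => eqI (pop (cw k)) 12) d = 1} := by
  ext y
  constructor
  · rintro ⟨g, rfl⟩
    have m := (smul_mem_dodecads g).2 dod0
    obtain ⟨k, hk, e⟩ := exists_cwd m.1
    refine ⟨nm k, ⟨(nm_chk k hk).1, eqI_one ?_⟩, by rw [pp_nm hk, pp, e]; exact (smul_prC2 _ _).symm⟩
    have c := (mem_dodecads.1 (e ▸ m)).2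
    rw [← card_cwd]
    rcases (nm_chk k hk).2.1 with h | h
    · rwa [h]
    · rw [h, cwd_xor hk, card_compl, c, card_golayPt]
  · rintro ⟨k, ⟨hk, p⟩, rfl⟩
    obtain ⟨g, e⟩ := dod_trans dod0 ((cwd_dod (by omega)).2 (eqI_one_iff.1 p))
    exact ⟨g, (smul_prC2 _ _).trans (congrArg prC2 e)⟩

end Cfsg.Agent.Spor
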