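import Cfsg.Agent.Lib.Spor.Aux1
import Cfsg.Agent.Lib.Leech.Pts

/-! Six-point transitivity; induced permutation groups on invariant sets. -/

set_option autoImplicit false
set_option linter.unusedVariables false

namespace Cfsg.Agent.Spor

open Cfsg.Agent.PC Cfsg.Agent.Leech Finset MulAction
open scoped Pointwise symmDiff

def InO (s : Finset GolayPt) : Prop := ∃ o ∈ octads, s ⊆ o

theorem InO_smul (a : M24) {s : Finset GolayPt} : InO (a • s) ↔ InO s :=
  (smul_ex_oct a _).trans (by simp only [smul_finset_subset_smul_finset_iff]; rfl)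

theorem O1_mem : bset 13062145 ∈ octads := bset_oct (by decide +kernel)

def L17 : List ℕ := [nat_lit 0xbdab49ca307b9ac5a928398a418820, nat_lit 0xbc84d546d05b8ec316a4a3e6342420, nat_lit 0xbc5272da5033a8c7cc436ad4825420]
def L1 : List ℕ := [nat_lit 0xbdab49ca307b9ac5a928398a418820, nat_lit 0xbd9ea34a30ab96c6d0e44cc4809460, nat_lit 0xbc9657c6d0138cc3b683aa9240cd00, nat_lit 0xbc4d35da504b9eca1da8116a30a880, nat_lit 0xbc9f45c6d05382c454b36888930ce0, nat_lit 0xbc955146d07b90c0d1a92ac73390c0, nat_lit 0xbc50455a501b84c686867d4a93ae60, nat_lit 0xbd84b44a302b94ca3433191e63d520, nat_lit 0xbc56d35a502b82c20a6a3a4757a280, nat_lit 0xbc55445a50ab8ec9bc8b08d25119a0, nat_lit 0xbc4a24da505b88c0b4f59990aa0de0, nat_lit 0xbc6af1da5053a6c3d025220cb6a440, nat_lit 0xbd8832ca304392c385af58a75a1940, nat_lit 0xbda69aca303386c09e8253c856a160, nat_lit 0xbc926246d09b8ac69c2a40d6fa0aa0, nat_lit 0xbc8689c6d023aaca04eb325426bca0]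

theorem L_fix {L : List ℕ} (h : AllOK L) (e : ∀ c ∈ L, img c 8474625 = 8474625 ∧ ∀ i ∈ [23, 0, 12, 14, 16], pf c i = i) :
    ∀ c ∈ L, m24 c ∈ fixingSubgroup M24 (bset 8474625 : Set GolayPt) := fun c hc => (mem_fixingSubgroup_iff _).2 fun p hp => by
  obtain ⟨i, hi, rfl⟩ := exists_gp p
  rw [mem_coe, gp_mem_bset hi] at hp
  exact ((h.is hc).gp_iff hi hi).2 ((e c hc).2 i (by revert i; decide +kernel))

theorem six_base {p q : GolayPt} (hp : p ∉ bset 8474625) (hq : q ∉ bset 8474625) (h : p ∈ bset 13062145 ↔ q ∈ bset 13062145) :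
    ∃ g ∈ fixingSubgroup M24 (bset 8474625 : Set GolayPt), g • p = q := by
  have a : ∀ p ∉ bset 8474625, p ∈ bset 13062145 → p ∈ bset 4587520 := by decide +kernel
  have b : ∀ p ∉ bset 13062145, p ∈ bset 3715070 := by decide +kernel
  by_cases m : p ∈ bset 13062145
  · exact Cov.trans (b := 17) (L := L17) (by decide +kernel) (by norm_num) (by decide +kernel)
      (L_fix (by decide +kernel) (by decide +kernel)) (a p hp m) (a q hq (h.1 m))
  · exact Cov.trans (b := 1) (L := L1) (by decide +kernel) (by norm_num) (by decide +kernel)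
      (L_fix (by decide +kernel) (by decide +kernel)) (b p m) (b q (mt h.2 m))

theorem InO_base {p : GolayPt} : InO (insert p (bset 8474625)) ↔ p ∈ bset 13062145 := by
  have s : bset 8474625 ⊆ bset 13062145 := (bset_subset_iff (by norm_num)).2 (by decide +kernel)
  refine ⟨fun ⟨o, ho, h⟩ => ?_, fun h => ⟨_, O1_mem, insert_subset h s⟩⟩
  rw [← oct_eq ho O1_mem (le_trans (by rw [card_bset]; decide +kernel)
    (card_le_card (subset_inter ((subset_insert _ _).trans h) s)))]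
  exact h (mem_insert_self _ _)

theorem msmul_eq_of_agree {g : M24} {π : Equiv.Perm GolayPt} {s : Finset GolayPt} (h : ∀ i ∈ s, g • i = π i) : g • s = π • s :=
  image_congr h

theorem agree6 (π : Equiv.Perm GolayPt) {S : Finset GolayPt} (h : S.card ≤ 6) (e : InO S ↔ InO (π • S)) :
    ∃ g : M24, ∀ i ∈ S, g • i = π i := by
  rcases h.lt_or_eq with h | h
  · exact agree5 π (by omega)
  obtain ⟨p, s, hp, rfl, hs⟩ := card_eq_succ.1 h
  obtain ⟨a, ha⟩ := agree5 π hs.le
  obtain ⟨b, hb⟩ := mapSet (s := π • s) (t := bset 8474625) (by rw [card_smul_finset, hs, card_bset]; decide +kernel)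
    (by rw [card_smul_finset, hs])
  have e1 := msmul_eq_of_agree ha
  obtain ⟨k, hk, m⟩ := six_base (p := b • a • p) (q := b • π p)
    (by rwa [← hb, ← e1, smul_mem_smul_finset_iff, smul_mem_smul_finset_iff])
    (by rw [← hb, smul_mem_smul_finset_iff]; exact mt (smul_mem_smul_finset_iff π).1 hp) (by
      rw [← InO_base, ← InO_base, ← hb, ← smul_finset_insert, ← smul_finset_insert, InO_smul, InO_smul, ← e1,
        ← smul_finset_insert, InO_smul, e, smul_finset_insert, e1]; rfl)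
  refine ⟨b⁻¹ * k * b * a, fun i hi => ?_⟩
  simp only [mul_smul, inv_smul_eq_iff]
  rcases mem_insert.1 hi with rfl | hi
  · exact m
  · rw [ha i hi]; exact (mem_fixingSubgroup_iff _).1 hk _ (by rw [← hb]; exact smul_mem_smul_finset (smul_mem_smul_finset hi))

theorem perm_J {J s t : Finset GolayPt} (hc : s.card = t.card) (h : ∀ j ∈ J, j ∈ s ↔ j ∈ t) :
    ∃ π : Equiv.Perm GolayPt, (∀ j ∈ J, π j = j) ∧ π • s = t := by
  have e : s ∩ J = t ∩ J := by ext j; simp only [mem_inter]; exact and_congr_left (h j)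
  have c : (s \ J).card = (t \ J).card := by
    have a := card_sdiff_add_card_inter s J
    have b := card_sdiff_add_card_inter t J
    rw [e] at a; omega
  let f : ↥(s \ J) ≃ ↥(t \ J) := Finset.equivOfCardEq c
  have i : ∀ u : Finset GolayPt, Function.Injective (Sum.elim Subtype.val Subtype.val : J ⊕ ↥(u \ J) → GolayPt) :=
    fun u => Subtype.val_injective.sumElim Subtype.val_injective fun a b e => (mem_sdiff.1 b.2).2 (e ▸ a.2)
  obtain ⟨g, hg⟩ := Equiv.Perm.exists_extending_pair _ _ (i s) ((i t).comp (Equiv.sumCongr (Equiv.refl _) f).injective)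
  refine ⟨g, fun j hj => hg (Sum.inl ⟨j, hj⟩), eq_of_subset_of_card_le (fun x hx => ?_) (by rw [card_smul_finset, hc])⟩
  obtain ⟨y, hy, rfl⟩ := mem_smul_finset.1 hx
  by_cases n : y ∈ J
  · exact (show g • y = y from hg (Sum.inl ⟨y, n⟩)).symm ▸ (h y n).1 hy
  · exact (show g • y = _ from hg (Sum.inr ⟨y, mem_sdiff.2 ⟨hy, n⟩⟩)).symm ▸ (mem_sdiff.1 (f _).2).1

theorem mapJ6 {J s t : Finset GolayPt} (h6 : (J ∪ s).card ≤ 6) (hc : s.card = t.card) (h : ∀ j ∈ J, j ∈ s ↔ j ∈ t)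
    (e : InO (J ∪ s) ↔ InO (J ∪ t)) : ∃ g : M24, (∀ j ∈ J, g • j = j) ∧ g • s = t := by
  obtain ⟨π, p, q⟩ := perm_J hc h
  have r : π • J = J := (msmul_eq_of_agree (g := 1) fun i hi => (p i hi).symm).symm.trans (one_smul _ _)
  obtain ⟨g, hg⟩ := agree6 π h6 (by rw [smul_finset_union, q, r, e])
  exact ⟨g, fun j hj => (hg j (mem_union_left _ hj)).trans (p j hj),
    (msmul_eq_of_agree fun i hi => hg i (mem_union_right _ hi)).trans q⟩

theorem mapSet6 {s t : Finset GolayPt} (h6 : s.card ≤ 6) (hc : s.card = t.card) (e : InO s ↔ InO t) : ∃ g : M24, g • s = t :=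
  (mapJ6 (J := ∅) (by simpa) hc (by simp) (by simpa)).imp fun _ h => h.2

theorem fix_conj (a g : M24) (s : Finset GolayPt) : (∀ p ∈ a • s, (a * g * a⁻¹) • p = p) ↔ ∀ p ∈ s, g • p = p := by
  refine ⟨fun h p hp => smul_left_cancel a ((conj_smul_smul _ _ _).symm.trans (h _ (smul_mem_smul_finset hp))), fun h p hp => ?_⟩
  obtain ⟨q, hq, rfl⟩ := mem_smul_finset.1 hp
  rw [conj_smul_smul, h q hq]

noncomputable def fxE (c n : ℕ) : ℕ := frc c fun c => lin (fun i => Nat.mul (Nat.land (Nat.shiftRight n i) (nat_lit 1))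
  (Nat.xor (pf c i) i)) (nat_lit 0) (nat_lit 24)

theorem Is.fix_iff {g : M24} {c : ℕ} (a : Is g c) (n : ℕ) : (∀ p ∈ Spor.bset n, g • p = p) ↔ fxE c n = 0 := by
  have e : ∀ i, Nat.land (Nat.shiftRight n i) 1 = 0 ↔ ¬ n.testBit i = true := fun i => by
    change (n >>> i) &&& 1 = 0 ↔ _
    rw [Nat.testBit, Nat.and_comm]; simp
  simp only [fxE, frc_eq, lin_eq, sum_eq_zero_iff, mem_range, Nat.mul_eq, Nat.mul_eq_zero, xor_zero_iff, zero_add, e,
    ← imp_iff_not_or]
  refine ⟨fun h i hi t => (a.gp_iff hi hi).1 (h _ ((gp_mem_bset hi).2 t)), fun h p hp => ?_⟩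
  obtain ⟨i, hi, rfl⟩ := exists_gp p
  exact (a.gp_iff hi hi).2 (h i hi ((gp_mem_bset hi).1 hp))

theorem card_fix_oct {o : Finset GolayPt} (ho : o ∈ octads) : Nat.card {g : M24 // ∀ p ∈ o, g • p = p} = 16 := by
  obtain ⟨a, rfl⟩ := oct_trans O1_mem ho
  exact (card_conj a fun g => fix_conj a g _).trans (full2.card _ (prF_ok _) (fun _ _ a => a.fix_iff _) (by decide +kernel))

theorem Is.S_iff {g : M24} {c : ℕ} (a : Is g c) {L : List (ℕ × ℕ)} (h : ∀ x ∈ L, x.2 < 2 ^ 24) :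
    (∀ x ∈ L, g • Spor.bset x.1 = Spor.bset x.2) ↔ ∀ x ∈ L, img c x.1 = x.2 :=
  forall₂_congr fun x hx => a.bset_iff _ (h x hx)

theorem Full.cardS {t : List (ℕ × List ℕ)} (h : Full t) (L : List (ℕ × ℕ)) (hL : ∀ x ∈ L, x.2 < 2 ^ 24) {n : ℕ}
    (e : Nat.beq (tree (prS L) (fun c => if (∀ x ∈ L, img c x.1 = x.2) then 1 else 0) t [] idc) n = true) :
    Nat.card {g : M24 // ∀ x ∈ L, g • bset x.1 = bset x.2} = n := h.card _ (prS_ok L) (fun _ _ a => a.S_iff hL) e

theorem Full.allS {t : List (ℕ × List ℕ)} (h : Full t) (L : List (ℕ × ℕ)) (hL : ∀ x ∈ L, x.2 < 2 ^ 24) (Q : ℕ → Prop)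
    [DecidablePred Q] (e : Nat.beq (tree (prS L) (fun c => if ((∀ x ∈ L, img c x.1 = x.2) → Q c) then 0 else 1) t [] idc)
      (nat_lit 0) = true) {g : M24} {c : ℕ} (a : Is g c) (hg : ∀ x ∈ L, g • bset x.1 = bset x.2) : Q c :=
  h.all (fun c => (∀ x ∈ L, img c x.1 = x.2) → Q c) (prS_ok L) e a hg ((a.S_iff hL).1 hg)

theorem card_sub {H : Subgroup M24} {P : M24 → Prop} (h : ∀ g, g ∈ H ↔ P g) : Nat.card H = Nat.card {g // P g} :=
  Nat.card_congr (Equiv.subtypeEquivRight h)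

theorem smul_single {g : M24} {i j : ℕ} (hi : i < 24) (hj : j < 24) : g • bset (2 ^ i) = bset (2 ^ j) ↔ g • gp i = gp j := by
  rw [bset_pow' hi, bset_pow' hj, smul_finset_singleton, singleton_inj]

theorem cst {X : Type*} [MulAction M24 X] {a g : M24} {x y : X} (h : a • x = y) :
    a * g * a⁻¹ ∈ stabilizer M24 y ↔ g ∈ stabilizer M24 x := h ▸ conj_mem_stab a g x

/-- the permutation induced on an invariant set -/
def resHom (H : Subgroup M24) (E : Finset GolayPt) (h : ∀ g ∈ H, g • E = E) : H →* Equiv.Perm E where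
  toFun g := g.1.1.subtypePerm fun x => by
    conv_lhs => rw [← h g.1 g.2]
    exact smul_mem_smul_finset_iff g.1
  map_one' := rfl
  map_mul' _ _ := rfl

theorem resHom_eq_one {H : Subgroup M24} {E : Finset GolayPt} (h : ∀ g ∈ H, g • E = E) (g : H) :
    resHom H E h g = 1 ↔ ∀ p ∈ E, g.1 • p = p :=
  ⟨fun e p hp => congrArg Subtype.val (DFunLike.congr_fun e (⟨p, hp⟩ : E)), fun e => Equiv.ext fun p => Subtype.ext (e p p.2)⟩

theorem iso_perm {H : Subgroup M24} {E : Finset GolayPt} {n : ℕ} (hn : E.card = n) (h : ∀ g ∈ H, g • E = E)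
    (f : ∀ g ∈ H, (∀ p ∈ E, g • p = p) → g = 1) (c : Nat.card H = n.factorial) : Nonempty (H ≃* Equiv.Perm (Fin n)) :=
  have i : Function.Injective (resHom H E h) := (injective_iff_map_eq_one (resHom H E h)).2
    fun g e => Subtype.ext (f g.1 g.2 ((resHom_eq_one h g).1 e))
  ⟨(MulEquiv.ofBijective (resHom H E h) ((Nat.bijective_iff_injective_and_card _).2 ⟨i, by
    rw [c, Nat.card_perm, Nat.card_eq_fintype_card, Fintype.card_coe, hn]⟩)).trans (Finset.equivFinOfCardEq hn).permCongrHom⟩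

theorem m12_five {d s : Finset GolayPt} (hd : d ∈ dodecads) (hs : s ⊆ d) (h5 : 5 ≤ s.card) {g : M24} (hg : g • d = d)
    (h : ∀ p ∈ s, g • p = p) : g = 1 := by
  obtain ⟨x, hx, -⟩ := extend_emb (k := 0) (n := 5) (by norm_num) h5 Fin.elim0 (Function.injective_of_subsingleton _)
    (fun i => i.elim0)
  exact m12_sharp hd x (fun i => hs (hx i)) hg fun i => h _ (hx i)

theorem m11_map2 {q q' r r' : GolayPt} (h : q ≠ q') (h' : r ≠ r') (hq : q ∉ bset 340831) (hq' : q' ∉ bset 340831)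
    (hr : r ∉ bset 340831) (hr' : r' ∉ bset 340831) :
    ∃ a : M24, a • bset 340831 = bset 340831 ∧ a • gp 0 = gp 0 ∧ a • q = r ∧ a • q' = r' := by
  have c : 3 ≤ (bset 340831)ᶜ.card := by rw [← bset_compl, card_bset]; decide +kernel
  obtain ⟨x, hx, ex⟩ := extend_emb (k := 2) (by norm_num) c ![q, q'] (inj2 h) (by
    intro i; fin_cases i <;> simp [hq, hq'])
  obtain ⟨y, hy, ey⟩ := extend_emb (k := 2) (by norm_num) c ![r, r'] (inj2 h') (by
    intro i; fin_cases i <;> simp [hr, hr'])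
  obtain ⟨a, ha, e⟩ := m11_trans3 x y (fun i => mem_compl.1 (hx i)) fun i => mem_compl.1 (hy i)
  exact ⟨a, ha.1, ha.2, ((congrArg _ (ex 0).symm).trans (e _)).trans (ey 0), ((congrArg _ (ex 1).symm).trans (e _)).trans (ey 1)⟩

end Cfsg.Agent.Spor
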