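import Cfsg.Agent.Lib.Spor.Six

/-! Labels for small subsets of the 24 points. -/

set_option autoImplicit false
set_option linter.unusedVariables false

namespace Cfsg.Agent.Spor

open Cfsg.Agent.PC Cfsg.Agent.Leech Finset MulAction
open scoped Pointwise symmDiff

theorem rep_inj : Inj (fun s => bset (rep s)) 4096 := fun i hi j hj e => by
  rw [← syn_rep hi, bset_inj (rep_lt hi) (rep_lt hj) e, syn_rep hj]

theorem eqI_one_iff {a b : ℕ} : eqI a b = 1 ↔ a = b := by rw [eqI_eq]; split_ifs with h <;> simp [h]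

theorem small_eq {k : ℕ} (hk : k ≤ 3) : {U : Finset GolayPt | U.card = k} =
    (fun s => bset (rep s)) '' {d | d < 4096 ∧ (fun s => eqI (pop (rep s)) k) d = 1} := by
  ext U
  constructor
  · intro h
    obtain ⟨s, hs, rfl, -⟩ := exists_rep (h.le.trans hk)
    exact ⟨s, ⟨hs, eqI_one ((card_bset _).symm.trans h)⟩, rfl⟩
  · rintro ⟨s, ⟨hs, h⟩, rfl⟩
    exact (card_bset _).trans (eqI_one_iff.1 h)

theorem ncard_small {k : ℕ} (hk : k ≤ 3) {Q : Finset GolayPt → Prop} (E : ℕ → ℕ)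
    (h : ∀ m < 2 ^ 24, (bset m).card = k → (Q (bset m) ↔ E m = 0)) {n : ℕ}
    (e : Nat.beq (cnt (cnd (fun s => eqI (pop (rep s)) k) fun s => frc (rep s) E) (nat_lit 0) 4096) n = true) :
    {U | U.card = k ∧ Q U}.ncard = n :=
  ncard_lab rep_inj (small_eq hk) _ (fun d hd p => by
    rw [frc_eq]; exact h _ (rep_lt hd) ((card_bset _).trans (eqI_one_iff.1 p))) e

theorem small_orbit {k c : ℕ} (hk : k ≤ 3) (hc : c < 4096) (h : pop (rep c) = k) :
    orbit M24 (cos c) = cos '' {d | d < 4096 ∧ (fun s => eqI (pop (rep s)) k) d = 1} := by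
  have e : (bset (rep c)).card = k := (card_bset _).trans h
  ext y
  constructor
  · rintro ⟨g, rfl⟩
    have c : (g • bset (rep c)).card = k := (card_smul_finset _ _).trans e
    obtain ⟨s, hs, p, q⟩ := exists_rep (c.le.trans hk)
    exact ⟨s, ⟨hs, eqI_one ((card_bset _).symm.trans (p ▸ c))⟩, by rw [cos, p]; exact (smul_sext _ _).symm⟩
  · rintro ⟨s, ⟨hs, p⟩, rfl⟩
    obtain ⟨g, q⟩ := mapSet (e.trans ((card_bset _).trans (eqI_one_iff.1 p)).symm) (by omega)
    exact ⟨g, (smul_sext _ _).trans (congrArg sext q)⟩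

theorem stab_small {c : ℕ} (h : pop (rep c) ≤ 3) : stabilizer M24 (cos c) = stabilizer M24 (bset (rep c)) := by
  ext g
  rw [cos, sext_small ((card_bset _).trans_le h), mem_stabilizer_iff, smul_finset_singleton, singleton_inj]; rfl

theorem InO_six {n : ℕ} (hn : n < 2 ^ 24) (h : (bset n).card = 6) : InO (bset n) ↔ mw n = 2 := (mw_six hn h).1

/-- the tetrad of the sextet `s` through the point `a` -/
noncomputable def tet (s a : ℕ) : ℕ := Nat.lor (rep (Nat.xor s (syn (Nat.shiftLeft (nat_lit 1) a)))) (Nat.shiftLeft (nat_lit 1) a)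

theorem tet_chk : ∀ s < 4096, cnd (fun s => eqI (eqI (pop (rep s)) 4) 0) (fun _ => 0) s * (lin (fun a => frc (tet s a) fun t =>
    Nat.add (Nat.add (Nat.xor (syn t) s) (ltE t (nat_lit 16777216))) (Nat.xor (pop t) (nat_lit 4))) (nat_lit 0) 24) = 0 :=
  upTo_beq (by decide +kernel)

theorem tet_spec {s a : ℕ} (hs : s < 4096) (h : pop (rep s) = 4) (ha : a < 24) :
    tet s a < 2 ^ 24 ∧ bset (tet s a) ∈ cos s ∧ gp a ∈ bset (tet s a) := by
  have := (Nat.mul_eq_zero.1 (tet_chk s hs)).resolve_left (by rw [cnd_zero, h]; simp [eqI_eq])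
  have := lin_zero this a ha
  rw [frc_eq] at this
  obtain ⟨p, r⟩ := add_eq_zero' this
  obtain ⟨p, q⟩ := add_eq_zero' p
  refine ⟨ltE_zero q, mem_sext.2 ⟨((card_bset _).trans (xor_eq_zero' r)).le, (symmDiff_mem_iff (ltE_zero q) (rep_lt hs)).2
    ((xor_eq_zero' p).trans (syn_rep hs).symm)⟩, (gp_mem_bset ha).2 ?_⟩
  change (_ ||| 1 <<< a).testBit a = true
  simp [Nat.testBit_or, Nat.one_shiftLeft]

theorem sext_disj {S : Finset (Finset GolayPt)} (hS : S ∈ sextets) {t u : Finset GolayPt} (ht : t ∈ S) (hu : u ∈ S) {p : GolayPt}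
    (h : p ∈ t) (h' : p ∈ u) : t = u := by
  rw [eq_sext hS hu] at ht
  exact ((mem_sext4 (hS.2.1 u hu) ht).2).resolve_right fun e => disjoint_left.1 e.1 h h'

theorem eq_tet {s a : ℕ} (hs : s < 4096) (h : pop (rep s) = 4) (ha : a < 24) {t : Finset GolayPt} (ht : t ∈ cos s)
    (e : gp a ∈ t) : t = bset (tet s a) :=
  sext_disj ((cos_sextet hs).2 h) ht (tet_spec hs h ha).2.1 e (tet_spec hs h ha).2.2

end Cfsg.Agent.Spor
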