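import Cfsg.Agent.Lib.Spor.M24
import Cfsg.Agent.Lib.PermCert.Simple

/-! Transitivity properties of `M24`; the octad Steiner system; simplicity of `M24`, `M23`, `M22`. -/

set_option autoImplicit false

namespace Cfsg.Agent.PC

open MulAction

variable {G : Type*} [Group G] {X : Type*} [MulAction G X]

theorem chain_next {pt : ℕ → X} {N : ℕ} {g : ℕ → G} {T : ℕ → ℕ → ℕ} {M m : ℕ} {l : Lev} {t : List Lev}
    (hinj : Inj pt N) (hr : Reps pt N g T m) (h : chainE T N M (l :: t) m = 0)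
    (hc : CardLE (gen g m) (chainN (l :: t))) :
    gen g l.m' = gen g m ⊓ stabilizer G (pt l.β) ∧ Reps pt N g T l.m' ∧ chainE T N M t l.m' = 0 ∧
      CardLE (gen g l.m') (chainN t) := by
  obtain ⟨h1, h2, -⟩ := chain_stab hinj hr h le_rfl hc
  obtain ⟨-, -, h3, -, h4⟩ := chain_cons hr h
  refine ⟨h1, hr.mono h3, h4, ?_⟩
  rw [h1]
  exact ⟨(hc.of_le inf_le_left).1, h2.le⟩

theorem simple_cert [Finite G] [FaithfulSMul G X] {pt : ℕ → X} {N : ℕ} {g : ℕ → G} {T : ℕ → ℕ → ℕ} {m : ℕ}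
    (hs : ∀ x, ∃ i < N, pt i = x) (hr : Reps pt N g T m) (hg : gen g m = ⊤) {H : Subgroup G} (hH : IsCoatom H)
    (hcore : H.normalCore = ⊥) {k p : ℕ} (hk : Nat.card H = k) (hp : p.Coprime k) {W : ℕ → List ℕ} (hm : 2 ≤ m)
    (h : Nat.beq (Nat.add (Nat.add (upTo (fixE T (List.replicate p 0)) N) (cnjE T W N m 1))
      (rng (slpE T W N) 2 (m - 2))) (nat_lit 0) = true) : IsSimpleGroup G := by
  obtain ⟨h1, h2⟩ := add_eq_zero' (Nat.eq_of_beq_eq_true h)
  obtain ⟨h3, h4⟩ := add_eq_zero' h1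
  have h5 := orderOf_dvd_of_fix hs hr (j := 0) (by omega) (upTo_zero h3)
  refine simple_of_coprime hH hcore (g 0) (hk ▸ Nat.Coprime.coprime_dvd_left h5 hp) ?_
  rw [eq_top_iff, ← hg]
  have h6 : g 0 ∈ Subgroup.normalClosure {g 0} := Subgroup.subset_normalClosure rfl
  refine gen_le (mem_of_slpE hs hr (W := W) (m0 := 2) ?_ fun j h1 h2' => rng_zero h2 j h1 (by omega))
  intro j hj
  interval_cases j
  · exact h6
  · rw [isConj_of_cnjE hs hr (by omega) h4]
    exact Subgroup.normalClosure_normal.conj_mem _ h6 _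

end Cfsg.Agent.PC

namespace Cfsg.Agent.Spor

open Cfsg.Agent.PC Finset MulAction
open scoped Pointwise symmDiff

theorem gen_le_codes {C C' : ℕ → ℕ} {m m' : ℕ} (K : ℕ) (hK : K + m ≤ m') (h : ∀ j < m, C j = C' (K + j)) :
    gen (fam C) m ≤ gen (fam C') m' := gen_le fun j hj => by
  rw [fam, h j hj]; exact mem_gen (fam C') (by omega)

theorem chain24 :
    (gen (fam c24) 7 = stabilizer M24 (gp 23) ∧ Nat.card (gen (fam c24) 7) = 10200960) ∧
    (gen (fam c24) 6 = gen (fam c24) 7 ⊓ stabilizer M24 (gp 0) ∧ Nat.card (gen (fam c24) 6) = 443520) ∧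
    (gen (fam c24) 5 = gen (fam c24) 6 ⊓ stabilizer M24 (gp 12) ∧ Nat.card (gen (fam c24) 5) = 20160) ∧
    (gen (fam c24) 4 = gen (fam c24) 5 ⊓ stabilizer M24 (gp 14) ∧ Nat.card (gen (fam c24) 4) = 960) ∧
    (gen (fam c24) 3 = gen (fam c24) 4 ⊓ stabilizer M24 (gp 16) ∧ Nat.card (gen (fam c24) 3) = 48) := by
  obtain ⟨a1, r1, c1, b1⟩ := chain_next gp_inj c24_ok.repsP ch24_ok (by rw [gen_c24]; exact M24_cardLE)
  obtain ⟨a2, r2, c2, b2⟩ := chain_next gp_inj r1 c1 b1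
  obtain ⟨a3, r3, c3, b3⟩ := chain_next gp_inj r2 c2 b2
  obtain ⟨a4, r4, c4, b4⟩ := chain_next gp_inj r3 c3 b3
  obtain ⟨a5, r5, c5, b5⟩ := chain_next gp_inj r4 c4 b4
  rw [gen_c24, top_inf_eq] at a1
  exact ⟨⟨a1, (chain_gen_eq gp_inj r1 c1 le_rfl b1).2⟩, ⟨a2, (chain_gen_eq gp_inj r2 c2 le_rfl b2).2⟩,
    ⟨a3, (chain_gen_eq gp_inj r3 c3 le_rfl b3).2⟩, ⟨a4, (chain_gen_eq gp_inj r4 c4 le_rfl b4).2⟩,
    ⟨a5, (chain_gen_eq gp_inj r5 c5 le_rfl b5).2⟩⟩

theorem gen23 : gen (fam c24) 7 = stabilizer M24 (gp 23) := chain24.1.1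
theorem gen22 : gen (fam c24) 6 = stabilizer M24 (gp 23) ⊓ stabilizer M24 (gp 0) := by
  rw [chain24.2.1.1, gen23]
theorem gen21 : gen (fam c24) 5 = stabilizer M24 (gp 23) ⊓ stabilizer M24 (gp 0) ⊓ stabilizer M24 (gp 12) := by
  rw [chain24.2.2.1.1, gen22]
theorem card23 : Nat.card (stabilizer M24 (gp 23)) = 10200960 := gen23 ▸ chain24.1.2
theorem card22 : Nat.card ↥(stabilizer M24 (gp 23) ⊓ stabilizer M24 (gp 0)) = 443520 := gen22 ▸ chain24.2.1.2
theorem card21 : Nat.card ↥(stabilizer M24 (gp 23) ⊓ stabilizer M24 (gp 0) ⊓ stabilizer M24 (gp 12)) = 20160 :=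
  gen21 ▸ chain24.2.2.1.2

/-- the base 5-tuple -/
def b5 : Fin 5 ↪ GolayPt := ⟨![gp 23, gp 0, gp 12, gp 14, gp 16], by decide⟩

instance trans5 : IsMultiplyPretransitive M24 GolayPt 5 := by
  have h : orbit (⊤ : Subgroup M24) b5 = Set.univ := by
    refine orbit_eq_of_count (Set.toFinite _) (fun _ _ => trivial) (k := 48) ?_ ?_
    · refine (cardLE_of_card chain24.2.2.2.2.2.le).of_le fun g hg => ?_
      have h : ∀ i, g • b5 i = b5 i := fun i => by
        conv_rhs => rw [← mem_stabilizer_iff.mp hg.2]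
        rfl
      rw [chain24.2.2.2.2.1, chain24.2.2.2.1.1, gen21]
      exact ⟨⟨⟨⟨h 0, h 1⟩, h 2⟩, h 3⟩, h 4⟩
    · rw [Set.ncard_univ, Nat.card_eq_fintype_card, Fintype.card_embedding_eq, Subgroup.card_top, card_M24]
      decide
  refine ⟨fun x y => ?_⟩
  obtain ⟨a, -, e⟩ := exists_of_orbit (L := (⊤ : Subgroup M24)) (x := b5) (y := x) (z := y) (h ▸ trivial) (h ▸ trivial)
  exact ⟨a, e⟩

theorem transk {k : ℕ} (hk : k ≤ 5) : IsMultiplyPretransitive M24 GolayPt k :=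
  isMultiplyPretransitive_of_le (n := 5) hk (by rw [Nat.card_eq_fintype_card]; decide)

theorem exists_tuple {k : ℕ} (hk : k ≤ 5) (x y : Fin k → GolayPt) (hx : Function.Injective x)
    (hy : Function.Injective y) : ∃ g : M24, ∀ i, g • x i = y i := by
  have := transk hk
  obtain ⟨g, hg⟩ := exists_smul_eq M24 (⟨x, hx⟩ : Fin k ↪ GolayPt) ⟨y, hy⟩
  exact ⟨g, fun i => congrArg (fun f : Fin k ↪ GolayPt => f i) hg⟩

theorem map1 (a p : GolayPt) : ∃ g : M24, g • a = p := by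
  obtain ⟨g, h⟩ := exists_tuple (k := 1) (by norm_num) ![a] ![p] (Function.injective_of_subsingleton _)
    (Function.injective_of_subsingleton _)
  exact ⟨g, h 0⟩

theorem inj2 {α : Type*} {a b : α} (h : a ≠ b) : Function.Injective ![a, b] := by
  intro i j; fin_cases i <;> fin_cases j <;> simp [h, h.symm]

theorem inj3 {α : Type*} {a b c : α} (h1 : a ≠ b) (h2 : a ≠ c) (h3 : b ≠ c) : Function.Injective ![a, b, c] := by
  intro i j; fin_cases i <;> fin_cases j <;> simp [h1, h2, h3, h1.symm, h2.symm, h3.symm]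

theorem map2 {a b p q : GolayPt} (h : a ≠ b) (h' : p ≠ q) : ∃ g : M24, g • a = p ∧ g • b = q := by
  obtain ⟨g, h⟩ := exists_tuple (k := 2) (by norm_num) _ _ (inj2 h) (inj2 h')
  exact ⟨g, h 0, h 1⟩

theorem map3 {a b c p q r : GolayPt} (h1 : a ≠ b) (h2 : a ≠ c) (h3 : b ≠ c) (h4 : p ≠ q) (h5 : p ≠ r) (h6 : q ≠ r) :
    ∃ g : M24, g • a = p ∧ g • b = q ∧ g • c = r := by
  obtain ⟨g, h⟩ := exists_tuple (k := 3) (by norm_num) _ _ (inj3 h1 h2 h3) (inj3 h4 h5 h6)
  exact ⟨g, h 0, h 1, h 2⟩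

theorem mapSet {s t : Finset GolayPt} (h : s.card = t.card) (h5 : s.card ≤ 5) : ∃ g : M24, g • s = t := by
  let e := s.equivFin
  let e' := t.equivFinOfCardEq h.symm
  obtain ⟨g, hg⟩ := exists_tuple h5 (fun i => (e.symm i : GolayPt)) (fun i => (e'.symm i : GolayPt))
    (Subtype.val_injective.comp e.symm.injective) (Subtype.val_injective.comp e'.symm.injective)
  refine ⟨g, Finset.eq_of_subset_of_card_le ?_ (by rw [Finset.card_smul_finset, h])⟩
  intro p hp
  obtain ⟨q, hq, rfl⟩ := Finset.mem_smul_finset.mp hp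
  have := hg (e ⟨q, hq⟩)
  simp only [Equiv.symm_apply_apply] at this
  rw [this]; exact (e'.symm _).2

theorem cwd_oct {k : ℕ} (hk : k < 4096) : cwd k ∈ octads ↔ pop (cw k) = 8 := by
  rw [mem_octads, card_cwd]; exact and_iff_right (cwd_mem hk)
theorem cwd_dod {k : ℕ} (hk : k < 4096) : cwd k ∈ dodecads ↔ pop (cw k) = 12 := by
  rw [mem_dodecads, card_cwd]; exact and_iff_right (cwd_mem hk)

theorem bset_oct {n : ℕ} (h : Nat.beq (Nat.add (Nat.add (syn n) (ltE n 16777216)) (Nat.xor (pop n) 8)) (nat_lit 0) = true) :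
    bset n ∈ octads := by
  obtain ⟨h1, h2⟩ := add_eq_zero' (Nat.eq_of_beq_eq_true h)
  obtain ⟨h3, h4⟩ := add_eq_zero' h1
  exact ⟨(bset_mem_gC (ltE_zero h4)).mpr h3, by rw [card_bset]; exact xor_eq_zero' h2⟩

theorem bset_dod {n : ℕ} (h : Nat.beq (Nat.add (Nat.add (syn n) (ltE n 16777216)) (Nat.xor (pop n) 12)) (nat_lit 0) = true) :
    bset n ∈ dodecads := by
  obtain ⟨h1, h2⟩ := add_eq_zero' (Nat.eq_of_beq_eq_true h)
  obtain ⟨h3, h4⟩ := add_eq_zero' h1
  exact ⟨(bset_mem_gC (ltE_zero h4)).mpr h3, by rw [card_bset]; exact xor_eq_zero' h2⟩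

/-- the base octad `{0, 12, 14, 16, 17, 18, 22, ∞}` -/
theorem oct1 : cwd 1 ∈ octads := (cwd_oct (by norm_num)).mpr (by decide +kernel)
theorem cw_one : cw 1 = 13062145 := by decide +kernel

theorem oct_eq {o o' : Finset GolayPt} (ho : o ∈ octads) (ho' : o' ∈ octads) (h : 5 ≤ (o ∩ o').card) : o = o' :=
  eq_of_close ho.1 ho'.1 (by rw [ho.2, ho'.2]; omega)

theorem oct_inter {o o' : Finset GolayPt} (ho : o ∈ octads) (ho' : o' ∈ octads) :
    (o ∩ o').card = 0 ∨ (o ∩ o').card = 2 ∨ (o ∩ o').card = 4 ∨ o = o' := by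
  have h1 := card_symmDiff o o'
  have h2 := card_of_mem_gC (symmDiff_mem_gC ho.1 ho'.1)
  rw [ho.2, ho'.2] at h1
  by_cases h : 5 ≤ (o ∩ o').card
  · exact Or.inr (Or.inr (Or.inr (oct_eq ho ho' h)))
  · omega

theorem exists_oct {s : Finset GolayPt} (hs : s.card ≤ 5) : ∃ o ∈ octads, s ⊆ o := by
  obtain ⟨t, ht, ht'⟩ := Finset.exists_subset_card_eq (s := cwd 1) (n := s.card) (by rw [oct1.2]; omega)
  obtain ⟨g, hg⟩ := mapSet ht' (ht' ▸ hs)
  exact ⟨g • cwd 1, (smul_mem_octads g).mpr oct1, hg ▸ Finset.smul_finset_subset_smul_finset ht⟩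

theorem steiner_octads : IsSteinerSystem 5 8 octads := by
  refine ⟨fun b hb => hb.2, fun s hs => ?_⟩
  obtain ⟨o, ho, h⟩ := exists_oct hs.le
  refine ⟨o, ⟨ho, h⟩, fun o' ho' => oct_eq ho'.1 ho ?_⟩
  rw [← hs]; exact Finset.card_le_card (Finset.subset_inter ho'.2 h)

theorem mapOct {o o' : Finset GolayPt} (ho : o ∈ octads) (ho' : o' ∈ octads) {s s' : Finset GolayPt}
    (hs : s ⊆ o) (hs' : s' ⊆ o') (h5 : s.card = 5) {g : M24} (hg : g • s = s') : g • o = o' := by
  refine oct_eq ((smul_mem_octads g).mpr ho) ho' ?_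
  rw [← h5, ← Finset.card_smul_finset g s]
  exact Finset.card_le_card (Finset.subset_inter (Finset.smul_finset_subset_smul_finset hs) (hg ▸ hs'))

theorem oct_trans {o o' : Finset GolayPt} (ho : o ∈ octads) (ho' : o' ∈ octads) : ∃ g : M24, g • o = o' := by
  obtain ⟨s, hs, h⟩ := Finset.exists_subset_card_eq (s := o) (n := 5) (by rw [ho.2]; omega)
  obtain ⟨s', hs', h'⟩ := Finset.exists_subset_card_eq (s := o') (n := 5) (by rw [ho'.2]; omega)
  obtain ⟨g, hg⟩ := mapSet (h.trans h'.symm) h.le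
  exact ⟨g, mapOct ho ho' hs hs' h hg⟩

theorem ncard_octads : octads.ncard = 759 := by
  rw [ncard_cw (fun _ h => h.1) (fun k => pop (cw k)) 8 fun k hk => cwd_oct hk]
  decide +kernel

theorem ncard_dodecads : dodecads.ncard = 2576 := by
  rw [ncard_cw (fun _ h => h.1) (fun k => pop (cw k)) 12 fun k hk => cwd_dod hk]
  decide +kernel

def vDod_t : TN := (TN.node (TN.node (TN.node (TN.node (TN.node (TN.node (TN.leaf (nat_lit 0x72d0238400007408aab00000000800880000b8000002a000800a408ab000000000000000028640000000000000000000)) (TN.leaf (nat_lit 0x26b659645c09e4bc000002782a02f9c0a2b940000bc00006ee000026b8002c540b40ac0b40940000000aa9000000000))) (TN.node (TN.leaf (nat_lit 0x880b807ef96ba80a4002988062f8eab007c09a100000000096a8c0b400005a202d0009c08c00000000298c0000880000)) (TN.leaf (nat_lit 0x96782702e9404eaa68be2be6ba7be7026900b970006e80000249e892502cb40a9a8c000068086cb6e9c002b0009c0000)))) (TN.node (TN.node (TN.leaf (nat_lit 0x4f536289b00002c7408ee000be7aa362c000980a00000000a40b9b02d000b5eb8064000084000088000000002c6c0000))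 (TN.leaf (nat_lit 0xbe891a869768026bc06af8a5880800a006809a292a020b8002892f800a2586f02c9c0000aa1a80b6b02aa00000000900))) (TN.node (TN.leaf (nat_lit 0x1abe96c085b020aa286002f667028be1bc092c6809c0de68e48b5be59db86d000bc08c0025bc0027680016840000000)) (TN.leaf (nat_lit 0xac00000289e502996f8a7ac001ebe10278efbc0a2a7aa02fb6c0007a582d82cb66b0074096f86cba9000b6d86fbc09c0))))) (TN.node (TN.node (TN.node (TN.leaf (nat_lit 0x9af8aa8e0be38eb0009c0b40026a8084002fa0002c000000ae66400008008a6b4002f00002c000a40000640000000a80)) (TN.leaf (nat_lit 0xbe6967826ba3bdc02602f8ac672b610006e8aa29c0a8022dac0b55b00baa3808800008a490072f6c000088002a000))) (TN.node (TN.leaf (nat_lit 0x99702446a02902ca938a744062b800ae0bc002786bb26b008a9927000b6480002ab63000beeaa2929000a009c0000000)) (TN.leaf (nat_lit 0x2f9e00109c076f9d8bc0027b229806afde69c0780a6fbd892c8af99f029b408ad42f028027600a80b229afb80021)))) (TN.node (TN.node (TN.leaf (nat_lit 0x2d960a60b00a8086fbc0aa691ab0002e9a1beba8086064002001d9656ad940b0084002f825629b00bc092d000000000))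 (TN.leaf (nat_lit 0x208c0969bee02a6b5640b2f02f026bdb46e02bb249c09ea76c026a8076873791f9e4b639e46c002d000b60ae0000))) (TN.node (TN.leaf (nat_lit 0x2401d0008a7a28be17636e702b980aa7aeca2142b0000007405a796890062102e9db9c07c082e867600b249c062f027)) (TN.leaf (nat_lit 0x7af025bc002794002202602a02682f96f0009ea8e086300002902f8e20259e402f82e4c062295602b9ef98096eb00)))))) (TN.node (TN.node (TN.node (TN.node (TN.leaf (nat_lit 0x9288c0840c2e52202bb5eac086eb8002d000a9abc00006c0be2da57000260000000000008e5000b80bc0000000000000)) (TN.leaf (nat_lit 0xa61025640969baeb4082ea0002eaefde7b0002a7ad9800008ec628bc0bc082776da60000bc002b8eb0008408006c0024))) (TN.node (TN.leaf (nat_lit 0x2e021ae382caa7bad6ef000adf92702e019900027bc084002c82b956b009585409dd9c0b61a008000009c092402f000)) (TN.leaf (nat_lit 0x2c900baa9e70007e7000be4021bc062faae9eabda6ef6af029b236ab02892498032502798086cae49c07a8880000800)))) (TN.node (TN.node (TN.leaf (nat_lit 0x96a9e6ae57ae96e8c08c0000a2e8e65279a500064002495eac07a5940b6b88002f8a972b024000b009a7840b00000))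 (TN.leaf (nat_lit 0x2602e02f02f023a007772e582cb26aa6bad92e6ee02abc0ac082f02e9ed9008dece5bc096c027824840a2bbc002f000))) (TN.node (TN.leaf (nat_lit 0x257e5900829be70250359678d702b92bac098091fbd8bc002d8c001e9c086492f9c0020b22ae789f86a9c0b80826000)) (TN.leaf (nat_lit 0x2e0000278c09e79ee0260000279ef900026b6492f680000be4a6f71f02002562d6608a78690007e403602c9a1b2f))))) (TN.node (TN.node (TN.node (TN.leaf (nat_lit 0x80002d0268009ae667026a809a8a1c92f7a1bc0b40428000a19ac0723025bc0a64a297406c08aabc00008e1027bc0000)) (TN.leaf (nat_lit 0xba527792c02102486782f66ab289e0000b00840baeba80279ac02aa6776502fa40aa502eb6b02f8eba5ea00800000))) (TN.node (TN.leaf (nat_lit 0x2cb2502195f022b27767a008807279c0be102faae9e19c00008a7bd89e19af96bb40a80a5c0008e99df8eb000027900)) (TN.leaf (nat_lit 0x94000002b92202e026be601800002cba102eae7ae702d02d0209407c0b8002686f9677247249eeba24e992d0269c0)))) (TN.node (TN.node (TN.leaf (nat_lit 0x96aac0021be702d76701ea6302ea23a2980086002172302702602b424a1c9e686682d0009e882c840b40026700bc0a00))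 (TN.leaf (nat_lit 0x2002c000023be680052f000a800229ae02c866dc0aa1900029b65b1c000766b6f00002fb00a276aebe7bed6a17ab))) (TN.node (TN.leaf (nat_lit 0x90002f00000052f86f0007af02c02682f8e8be39e702fa279e602a9404ed0269de019bae82502f023865880828)) (TN.leaf (nat_lit 0x2702e0000000007e3b4002700062f02d01a9c002c01d0000008c00189e702776e00002b020b238a5980b647c0))))))) (TN.node (TN.node (TN.node (TN.node (TN.node (TN.leaf (nat_lit 0x2ebe20246e2b5cac08c00009ef800b29a40030000000b8068002e840880861000a0001a9a2000000000840ac0000000)) (TN.leaf (nat_lit 0x9ee022823a008c07a7ae3a80a26a806ef02abc0b247a7480b1da2496782cac08808e90008a86f600000080002f000000))) (TN.node (TN.leaf (nat_lit 0x76c86c9e5de279f96e026bc0000b19b63000be67e350002bb60025923840a6e8000270006f502e8dea40000640a40000)) (TN.leaf (nat_lit 0x1802502f9000220228a78ea000b1fae79229aa4b7bc0bc0a4066e940a2102392ebe69c0be48806e7940be2a8002596f)))) (TN.node (TN.node (TN.leaf (nat_lit 0x24bc0aaf6678a1b6d8657afb219a9b0002702302bbc0ac0600b2d863ac095a800000b00b24a009407abdc0000033000))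 (TN.leaf (nat_lit 0x35940000be882e6ed000a6001e0166efa639eebdaa2f000028a1e767600b5e0256eb02f02f968baaa00929840967bc0))) (TN.node (TN.leaf (nat_lit 0x2502292096fac09e48007ec0228809dfce0ac05ec6c0be48a50230270008e77616e76a8b22a00bc096f8b3b6e000)) (TN.leaf (nat_lit 0x258c069f00002792a02e02c8e7b1f02290086d0209da00066f02701b71d96db669ee02d94062c92f0227c060002f))))) (TN.node (TN.node (TN.node (TN.leaf (nat_lit 0xadbbe09808c0a200009a94eb8aa7e19c0b007af8e0ba600002d827adca40023720b80000740a2572802f940000780000)) (TN.leaf (nat_lit 0xb24026022824932aabaa6a800268ef75f02e88002f64002eb268a802e019aaa900823aed9409c0b62820029bdcbc0))) (TN.node (TN.leaf (nat_lit 0x98002ca6702fa275c0be8029b679ef02db23a005aa0270259c062d96b9dd82d9a156d73796c0229c09808009c0940)) (TN.leaf (nat_lit 0x2202fb6401d0009808ad9f4ac00209e702372a02aa249400240009e796d660aa700002c027a68727bdfae66af000)))) (TN.node (TN.node (TN.leaf (nat_lit 0x2e00002896f011ba58ef02fac07ef026ba280082eae694006f9a4a98ba196b72a026dc0bd900072a000aaca6402f600))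 (TN.leaf (nat_lit 0x940bd402900002e02a9e9012b2202cae102dbe18a598002501cb0002f800bc09689690007eba209208aaa34a00bc0))) (TN.node (TN.leaf (nat_lit 0x94003602501800042bbc0026000be796b92201e02a62d99f00001a86d84001db678ef60002f82401e8a092202cbc0bda)) (TN.leaf (nat_lit 0x27028000967000000000000b40026be3a2601f00002fbe3000940027bed0299e1980467b23020028b6f)))))) (TN.node (TN.node (TN.node (TN.node (TN.leaf (nat_lit 0x1ca2802f962b8081e8690334eda40b5bbc0aa9700bc00007678a992b0006eda21900b00b0094002b940018b808ed000)) (TN.leaf (nat_lit 0xa002ae025ba90268af9e6026025ba3680924026ba38ea02f0000006ab82a9a58e002c8408b79a0b63beb82e000bc0a40))) (TN.node (TN.leaf (nat_lit 0x95f917000740029a6f9ef9e79a262b9a3019bc08af7af029de47407a7bdd9c06c096f02e66f7c0adc92102fbc0000)) (TN.leaf (nat_lit 0x7ed0200246a6968940027026022627b68b407c002a76f0239e595f78002dbe6b1f02e937028025be086c880)))) (TN.node (TN.node (TN.leaf (nat_lit 0xa0002a92d860025026a808804af92e01bbc09288ecbe3ae6aa602402dadc7a002f7a1840023b2276b028800a6b6c0000))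 (TN.leaf (nat_lit 0x2e024000827be0bf4000be39c002fbe40007a68a702492b7ada0002fb5e02f6ad02a6328e4b0070092e940b23))) (TN.node (TN.leaf (nat_lit 0x9000170000286a902f7e700002e02d8e702d96d02f6b4025026b6996e000be582786b8c05809e7bdd66c8e0866000)) (TN.leaf (nat_lit 0x2800000002f000018000900000940024a2002b0000238220000007c0025a4002d02f9c002002b000a27be8be472f96f))))) (TN.node (TN.node (TN.node (TN.leaf (nat_lit 0x2f02b8aa9e0000d5d76276b02802b9e67ed46f92c0009de940628bae0238285009588c0025a268e9400a6bbc0000023)) (TN.leaf (nat_lit 0x2aa0002888001eb8002002600072e826beb9af96e96002502c76f025bdb7409ae980769727a4072002cbaeb40))) (TN.node (TN.leaf (nat_lit 0x2e000000027a0072b02192200002b90076abe402e9226800268c09a376002602602e0268e762f02eac092f86fa61aee)) (TN.leaf (nat_lit 0xf7c000000002500002f00002602c9e1000900be102d00000002e02500086fb1fba30009ea02f90000082a8e686d)))) (TN.node (TN.node (TN.leaf (nat_lit 0x2b000940029bdb9670290000269e7023b80929ba0bc000066c000ae802d940b63a25a60a208ee62f026bc07a856b))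 (TN.leaf (nat_lit 0x2f00001e94000000002e02e00080062700002c02fae6000000000ae802502696172d026b00026028729469026020))) (TN.node (TN.leaf (nat_lit 0x9e800000002802302002702f940027a800009af0000240000298dd02298096794000002285802f91f9e1b00)) (TN.leaf (nat_lit 0x279000000000000000007e602602d00094000002700002702500000002a86f02b00002e8009e7))))))))
noncomputable def vDod (i : ℕ) : ℕ := get2 vDod_t (nat_lit 6) (nat_lit 63) i
def s23 (j : ℕ) : ℕ := cds (nat_lit 0xbc44168ce09228c22d357c2ce2a8d3b8aa0719a78128c4acb2545e198ec8b948f958701226b3d131ab9ac30540b928d0ba62b3d2c348e58456355500ba09149aa553a0c69c3393c43a2ec0bc9f45c6d05382c454b36888930ce0bd9ea34a30ab96c6d0e44cc4809460bc84d546d05b8ec316a4a3e6342420bc84d546d05b8ec316a4a3e6342420bc9657c6d0138cc3b683aa9240cd00bc955146d07b90c0d1a92ac73390c0bd9620ca306b9eca950920d4735260bd8832ca304392c385af58a75a1940ba1f4894d5838ec1a9640cc564c9a0b96226d4c8a388c1a5569ca07585e0b8dc70d050499ecb4da8954b159140bc05240553315ac7c576224eea5460b85a3614efb212434e4bac5d482840b8ac070c324bea48ace56c18a9a286bd1cd4026190e0b15a254bea7628c4)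 j
theorem s23_ok : FamOK s23 20 := famOK_of (by decide +kernel)
def s23w_t : TL := (TL.node (TL.node (TL.node (TL.node (TL.node (TL.leaf []) (TL.leaf [nat_lit 5, nat_lit 4, nat_lit 5, nat_lit 6, nat_lit 7, nat_lit 10])) (TL.leaf [nat_lit 7, nat_lit 0, nat_lit 2, nat_lit 1, nat_lit 3, nat_lit 2, nat_lit 4, nat_lit 3, nat_lit 5, nat_lit 5, nat_lit 6, nat_lit 5])) (TL.node (TL.leaf [nat_lit 0, nat_lit 0, nat_lit 0, nat_lit 2, nat_lit 0, nat_lit 3, nat_lit 3, nat_lit 3, nat_lit 2]) (TL.leaf [nat_lit 11]))) (TL.node (TL.node (TL.node (TL.leaf [nat_lit 1, nat_lit 0, nat_lit 1, nat_lit 1, nat_lit 1, nat_lit 0, nat_lit 1, nat_lit 0]) (TL.leaf [nat_lit 1, nat_lit 9, nat_lit 2, nat_lit 6, nat_lit 3, nat_lit 6, nat_lit 10, nat_lit 11, nat_lit 11])) (TL.leaf [nat_lit 8, nat_lit 0, nat_lit 9, nat_lit 9, nat_lit 6, nat_lit 0, nat_lit 6, nat_lit 9, nat_lit 2, nat_lit 9, nat_lit 3, nat_lit 3, nat_lit 5, nat_lit 5])) (TL.node (TL.leaf [nat_lit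 2, nat_lit 4, nat_lit 3, nat_lit 4, nat_lit 0, nat_lit 5, nat_lit 4, nat_lit 0, nat_lit 3, nat_lit 3, nat_lit 4, nat_lit 4]) (TL.leaf [nat_lit 10, nat_lit 10, nat_lit 7, nat_lit 11, nat_lit 11])))) (TL.node (TL.node (TL.node (TL.node (TL.leaf [nat_lit 19]) (TL.leaf [nat_lit 9, nat_lit 2, nat_lit 4, nat_lit 4, nat_lit 8, nat_lit 6, nat_lit 8, nat_lit 7, nat_lit 11, nat_lit 11])) (TL.leaf [nat_lit 2, nat_lit 3, nat_lit 5, nat_lit 4, nat_lit 6, nat_lit 2, nat_lit 8, nat_lit 3, nat_lit 3, nat_lit 3, nat_lit 6])) (TL.node (TL.leaf [nat_lit 1, nat_lit 4, nat_lit 2, nat_lit 0, nat_lit 2, nat_lit 0, nat_lit 0, nat_lit 4, nat_lit 3, nat_lit 2, nat_lit 2, nat_lit 3, nat_lit 4, nat_lit 4, nat_lit 3]) (TL.leaf [nat_lit 10, nat_lit 11, nat_lit 11]))) (TL.node (TL.node (TL.node (TL.leaf [nat_lit 1, nat_lit 1, nat_lit 0, nat_lit 0, nat_lit 0, nat_lit 0, nat_lit 0, nat_lit 2, nat_lit 2, nat_lit 2, nat_lit 2]) (TL.leaf [nat_lit 1, nat_lit 0, nat_lit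 5, nat_lit 2, nat_lit 5, nat_lit 5, nat_lit 10, nat_lit 7, nat_lit 11, nat_lit 11])) (TL.leaf [nat_lit 10, nat_lit 4, nat_lit 1, nat_lit 5, nat_lit 0, nat_lit 5, nat_lit 2, nat_lit 2, nat_lit 6, nat_lit 6, nat_lit 3, nat_lit 7, nat_lit 9, nat_lit 5, nat_lit 10, nat_lit 7, nat_lit 10])) (TL.node (TL.leaf [nat_lit 5, nat_lit 5, nat_lit 1, nat_lit 2, nat_lit 0, nat_lit 4, nat_lit 1, nat_lit 1, nat_lit 5, nat_lit 2, nat_lit 3, nat_lit 3]) (TL.leaf [nat_lit 8, nat_lit 6, nat_lit 9, nat_lit 8])))))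
noncomputable def s23w (i : ℕ) : List ℕ := TL.get s23w_t i
def s22 (j : ℕ) : ℕ := cds (nat_lit 0xb9ed0110a853cc19c9a3755898d160b948f958701226b3d131ab9ac30540b928d0ba62b3d2c348e58456355500ba09149aa553a0c69c3393c43a2ec0bc9f45c6d05382c454b36888930ce0bd9ea34a30ab96c6d0e44cc4809460bc84d546d05b8ec316a4a3e6342420bc5272da5033a8c7cc436ad4825420bd9ea34a30ab96c6d0e44cc4809460bc488a5a500b8ac58d53abc474b4c0bce4b089e4a394c299161c22da9d20ba0f0254a69bacc5256d9502f18a20bd024344af6ae0c1a928a8a5674ce0bca855c60e9d84c08de43a14da9920ba1917961610eab9928e3292d09e40bb615b248794dea744cc41422a0d60) j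
theorem s22_ok : FamOK s22 16 := famOK_of (by decide +kernel)
def s22w_t : TL := (TL.node (TL.node (TL.node (TL.node (TL.leaf []) (TL.leaf [nat_lit 1, nat_lit 0, nat_lit 2, nat_lit 1, nat_lit 0, nat_lit 5, nat_lit 2, nat_lit 4, nat_lit 7, nat_lit 5, nat_lit 4, nat_lit 6])) (TL.node (TL.leaf [nat_lit 0, nat_lit 2, nat_lit 0, nat_lit 2, nat_lit 0, nat_lit 3, nat_lit 0, nat_lit 0, nat_lit 2, nat_lit 2, nat_lit 3, nat_lit 2]) (TL.leaf [nat_lit 8, nat_lit 4, nat_lit 8, nat_lit 7, nat_lit 6]))) (TL.node (TL.node (TL.leaf [nat_lit 1, nat_lit 1, nat_lit 0, nat_lit 1, nat_lit 0]) (TL.leaf [nat_lit 7])) (TL.node (TL.leaf [nat_lit 2, nat_lit 4, nat_lit 0, nat_lit 5, nat_lit 2, nat_lit 0, nat_lit 2, nat_lit 3, nat_lit 4, nat_lit 5, nat_lit 5, nat_lit 5]) (TL.leaf [nat_lit 7, nat_lit 0, nat_lit 6, nat_lit 2, nat_lit 2, nat_lit 8, nat_lit 7, nat_lit 4, nat_lit 6])))) (TL.node (TL.node (TL.node (TL.leaf [nat_lit 15]) (TL.leaf [nat_lit 8, nat_lit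 8])) (TL.node (TL.leaf [nat_lit 2, nat_lit 1, nat_lit 3, nat_lit 2, nat_lit 1, nat_lit 3, nat_lit 2]) (TL.leaf [nat_lit 2, nat_lit 2, nat_lit 2, nat_lit 8, nat_lit 8, nat_lit 4, nat_lit 6, nat_lit 7, nat_lit 6]))) (TL.node (TL.node (TL.leaf [nat_lit 0, nat_lit 0, nat_lit 0, nat_lit 1, nat_lit 1, nat_lit 1]) (TL.leaf [nat_lit 7, nat_lit 8, nat_lit 6])) (TL.node (TL.leaf [nat_lit 2, nat_lit 5, nat_lit 6, nat_lit 4, nat_lit 2, nat_lit 5, nat_lit 6, nat_lit 4]) (TL.leaf [nat_lit 1, nat_lit 5, nat_lit 0, nat_lit 5, nat_lit 3, nat_lit 6, nat_lit 4, nat_lit 6, nat_lit 6, nat_lit 7, nat_lit 8])))))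
noncomputable def s22w (i : ℕ) : List ℕ := TL.get s22w_t i

theorem eqI_ne {a b : ℕ} (h : a = b) : eqI a b ≠ 0 := by rw [eqI_eq, if_pos h]; exact one_ne_zero
theorem eqI_one {a b : ℕ} (h : a = b) : eqI a b = 1 := by rw [eqI_eq, if_pos h]

theorem dod_trans {d d' : Finset GolayPt} (hd : d ∈ dodecads) (hd' : d' ∈ dodecads) : ∃ g : M24, g • d = d' := by
  obtain ⟨k, hk, rfl⟩ := exists_cwd hd.1
  obtain ⟨k', hk', rfl⟩ := exists_cwd hd'.1
  obtain ⟨a, -, e⟩ := descT_conj c24_ok.repsC (M := nat_lit 8) (V := vDod) (O := fun k => eqI (pop (cw k)) (nat_lit 12))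
    (rt := fun _ => nat_lit 863) (upTo_beq (by decide +kernel)) k hk k' hk' (eqI_ne ((cwd_dod hk).mp hd))
    (by simp only [(cwd_dod hk).mp hd, (cwd_dod hk').mp hd'])
  exact ⟨a, e⟩

theorem cw_dod0 : cw 863 = 340831 := by decide +kernel

theorem squareDodecad_eq : Cfsg.Spor.squareDodecad = cwd 863 := by
  rw [cwd, cw_dod0, ← support_wd, Cfsg.Spor.squareDodecad, funext (qrWord_eq 0)]
  rfl

theorem dod0 : cwd 863 ∈ dodecads := (cwd_dod (by norm_num)).mpr (by decide +kernel)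

theorem card_stab_oct {o : Finset GolayPt} (ho : o ∈ octads) : Nat.card (stabilizer M24 o) = 322560 :=
  card_stab (n := 759) card_M24 (by norm_num) (by
    rw [← orbit_top, orbit_eq_of (S := octads) (fun a _ => (smul_mem_octads a).mpr ho) (fun y hy => by
      obtain ⟨g, e⟩ := oct_trans ho hy; exact ⟨g, trivial, e⟩), ncard_octads])

theorem card_stab_dod {o : Finset GolayPt} (ho : o ∈ dodecads) : Nat.card (stabilizer M24 o) = 95040 :=
  card_stab (n := 2576) card_M24 (by norm_num) (by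
    rw [← orbit_top, orbit_eq_of (S := dodecads) (fun a _ => (smul_mem_dodecads a).mpr ho) (fun y hy => by
      obtain ⟨g, e⟩ := dod_trans ho hy; exact ⟨g, trivial, e⟩), ncard_dodecads])

theorem stab_sub_equiv {G X : Type*} [Group G] [MulAction G X] (L : Subgroup G) (x : X) :
    Nonempty (stabilizer L x ≃* ↥(L ⊓ stabilizer G x)) :=
  ⟨{ toFun := fun a => ⟨a.1.1, a.1.2, a.2⟩
     invFun := fun a => ⟨⟨a.1, a.2.1⟩, a.2.2⟩
     left_inv := fun _ => rfl
     right_inv := fun _ => rfl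
     map_mul' := fun _ _ => rfl }⟩

theorem card_stab_sub {G X : Type*} [Group G] [MulAction G X] (L : Subgroup G) (x : X) :
    Nat.card (stabilizer L x) = Nat.card ↥(L ⊓ stabilizer G x) := by
  obtain ⟨e⟩ := stab_sub_equiv L x
  exact Nat.card_congr e.toEquiv

theorem simple22 : IsSimpleGroup ↥(stabilizer M24 (gp 23) ⊓ stabilizer M24 (gp 0)) := by
  have hL : gen (fam s22) 16 = stabilizer M24 (gp 23) ⊓ stabilizer M24 (gp 0) :=
    le_antisymm (le_inf (gen_le_stab s22_ok.repsP (by norm_num) (by decide +kernel))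
      (gen_le_stab s22_ok.repsP (by norm_num) (by decide +kernel)))
      (gen22 ▸ gen_le_codes 9 (by norm_num) (by decide +kernel))
  have horb : orbit ↥(stabilizer M24 (gp 23) ⊓ stabilizer M24 (gp 0)) (gp 12) = {y | y ≠ gp 23 ∧ y ≠ gp 0} := by
    refine orbit_eq_of (fun a ha => ⟨fun e => ?_, fun e => ?_⟩) fun y hy => ?_
    · rw [← mem_stabilizer_iff.mp ha.1, smul_left_cancel_iff] at e; exact absurd e (by decide)
    · rw [← mem_stabilizer_iff.mp ha.2, smul_left_cancel_iff] at e; exact absurd e (by decide)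
    · obtain ⟨g, h1, h2, h3⟩ := map3 (a := gp 23) (b := gp 0) (c := gp 12) (by decide) (by decide) (by decide)
        (show gp 23 ≠ gp 0 by decide) hy.1.symm hy.2.symm
      exact ⟨g, ⟨h1, h2⟩, h3⟩
  refine simple_cert gp_surj (s22_ok.repsP.sub hL.le) (gen_sub_top hL) (H := stabilizer _ (gp 12))
    (isCoatom_of_two_trans (Set.toFinite _) horb ?_ ?_) (normalCore_stabilizer_eq_bot ?_)
    ((card_stab_sub _ _).trans card21) (p := 11) (by norm_num) (W := s22w) (by norm_num) (by decide +kernel)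
  · rw [Set.one_lt_ncard (Set.toFinite _)]
    exact ⟨gp 1, by decide, gp 2, by decide, by decide⟩
  · intro y hy z hz h1 h2
    obtain ⟨g, hg⟩ := exists_tuple (k := 4) (by norm_num) ![gp 23, gp 0, gp 12, y] ![gp 23, gp 0, gp 12, z]
      (by intro i j; fin_cases i <;> fin_cases j <;> simp [hy.1, hy.2, h1, hy.1.symm, hy.2.symm, h1.symm] <;> decide)
      (by intro i j; fin_cases i <;> fin_cases j <;> simp [hz.1, hz.2, h2, hz.1.symm, hz.2.symm, h2.symm] <;> decide)
    exact ⟨⟨g, hg 0, hg 1⟩, hg 2, hg 3⟩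
  · intro a ha
    rw [horb] at ha
    refine eq_of_smul_eq_smul (α := GolayPt) fun p => ?_
    rw [one_smul]
    by_cases h1 : p = gp 23
    · rw [h1]; exact a.2.1
    by_cases h2 : p = gp 0
    · rw [h2]; exact a.2.2
    exact ha p ⟨h1, h2⟩

theorem simple23 : IsSimpleGroup ↥(stabilizer M24 (gp 23)) := by
  have hL : gen (fam s23) 20 = stabilizer M24 (gp 23) :=
    le_antisymm (gen_le_stab s23_ok.repsP (by norm_num) (by decide +kernel))
      (gen23 ▸ gen_le_codes 12 (by norm_num) (by decide +kernel))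
  have horb : orbit ↥(stabilizer M24 (gp 23)) (gp 0) = {y | y ≠ gp 23} := by
    refine orbit_eq_of (fun a ha e => ?_) fun y hy => ?_
    · rw [← mem_stabilizer_iff.mp ha, smul_left_cancel_iff] at e; exact absurd e (by decide)
    · obtain ⟨g, h1, h2⟩ := map2 (a := gp 23) (b := gp 0) (by decide) (Ne.symm hy)
      exact ⟨g, h1, h2⟩
  refine simple_cert gp_surj (s23_ok.repsP.sub hL.le) (gen_sub_top hL) (H := stabilizer _ (gp 0))
    (isCoatom_of_two_trans (Set.toFinite _) horb ?_ ?_) (normalCore_stabilizer_eq_bot ?_)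
    ((card_stab_sub _ _).trans card22) (p := 23) (by norm_num) (W := s23w) (by norm_num) (by decide +kernel)
  · rw [Set.one_lt_ncard (Set.toFinite _)]
    exact ⟨gp 1, by decide, gp 2, by decide, by decide⟩
  · intro y hy z hz h1 h2
    obtain ⟨g, a, b, c⟩ := map3 (a := gp 23) (b := gp 0) (c := y) (by decide) (Ne.symm hy) h1.symm
      (show gp 23 ≠ gp 0 by decide) (Ne.symm hz) h2.symm
    exact ⟨⟨g, a⟩, b, c⟩
  · intro a ha
    rw [horb] at ha
    refine eq_of_smul_eq_smul (α := GolayPt) fun p => ?_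
    rw [one_smul]
    by_cases h1 : p = gp 23
    · rw [h1]; exact a.2
    exact ha p h1

theorem simple24 : IsSimpleGroup M24 := by
  refine simple_of_two_trans (x := gp 23) (S := Set.univ) (p := 2) (q := 3) ?_ ?_ ?_ (by norm_num) (by norm_num)
    (by norm_num) ?_ ?_ simple23
  · exact Set.eq_univ_of_forall fun y => map1 _ y
  · exact fun a ha => eq_of_smul_eq_smul (α := GolayPt) fun p => by rw [one_smul]; exact ha p trivial
  · intro y _ z _ h1 h2
    obtain ⟨g, a, b⟩ := map2 h1.symm h2.symm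
    exact ⟨g, a, b⟩
  · rw [Set.ncard_univ, Nat.card_eq_fintype_card]; decide
  · rw [Set.ncard_univ, Nat.card_eq_fintype_card]; decide

/-- pass between subgroups of `M24` and of the symmetric group -/
def toPerm {L : Subgroup M24} {K : Subgroup (Equiv.Perm GolayPt)} (h : ∀ g, g ∈ K ↔ ∃ hg : g ∈ M24, ⟨g, hg⟩ ∈ L) :
    L ≃* K where
  toFun a := ⟨a.1.1, (h _).mpr ⟨a.1.2, a.2⟩⟩
  invFun b := ⟨⟨b.1, ((h _).mp b.2).1⟩, ((h _).mp b.2).2⟩
  left_inv _ := rfl
  right_inv _ := rfl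
  map_mul' _ _ := rfl

end Cfsg.Agent.Spor
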