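import Cfsg.Agent.Lib.Spor.Stabs
import Cfsg.Agent.Lib.Spor.Key2
import Cfsg.Agent.Lib.Spor.M12

/-! Pruned search through the whole group along a stabiliser chain. -/

set_option autoImplicit false
set_option linter.unusedVariables false

namespace Cfsg.Agent.Spor

open Cfsg.Agent.PC Finset MulAction
open scoped Pointwise symmDiff

def pk (f : ℕ → ℕ) : ℕ → ℕ → ℕ
  | 0, _ => 0
  | k + 1, j => f j + 32 * pk f k (j + 1)

theorem pf_def (c i : ℕ) : pf c i = c / 32 ^ i % 32 := by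
  change (c >>> (5 * i)) &&& (2 ^ 5 - 1) = _
  rw [Nat.and_two_pow_sub_one_eq_mod, Nat.shiftRight_eq_div_pow, pow_mul]; rfl

theorem pf_lt32 (c i : ℕ) : pf c i < 32 := by rw [pf_def]; omega

theorem pf_succ (c i : ℕ) : pf c (i + 1) = pf (c / 32) i := by
  rw [pf_def, pf_def, Nat.div_div_eq_div_mul, pow_succ']

theorem pf_pk {f : ℕ → ℕ} (hf : ∀ i, f i < 32) : ∀ k j i, i < k → pf (pk f k j) i = f (j + i)
  | k + 1, j, 0, _ => by have := hf j; rw [pf_def, pk]; simp; omega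
  | k + 1, j, i + 1, h => by
    have := hf j
    rw [pf_succ, pk, show (f j + 32 * pk f k (j + 1)) / 32 = pk f k (j + 1) by omega, pf_pk hf k _ i (by omega)]
    congr 1; omega

theorem pk_lt {f : ℕ → ℕ} (hf : ∀ i, f i < 32) : ∀ k j, pk f k j < 32 ^ k
  | 0, _ => by simp [pk]
  | k + 1, j => by have := hf j; have := pk_lt hf k (j + 1); rw [pk, pow_succ]; omega

theorem eq_of_pf : ∀ k c d, c < 32 ^ k → d < 32 ^ k → (∀ i < k, pf c i = pf d i) → c = d
  | 0, c, d, h, h', _ => by omega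
  | k + 1, c, d, h, h', e => by
    have a := e 0 (by omega)
    have b := eq_of_pf k (c / 32) (d / 32) (by rw [pow_succ] at h; omega) (by rw [pow_succ] at h'; omega)
      fun i hi => by rw [← pf_succ, ← pf_succ]; exact e _ (by omega)
    simp only [pf_def, pow_zero, Nat.div_one] at a
    omega

def cmp0 (c d : ℕ) : ℕ := (Nat.add (Nat.land (Nat.shiftRight c (Nat.mul (nat_lit 5) (Nat.land (Nat.shiftRight d (nat_lit 0)) (nat_lit 31)))) (nat_lit 31)) (Nat.mul (nat_lit 32) (Nat.add (Nat.land (Nat.shiftRight c (Nat.mul (nat_lit 5) (Nat.land (Nat.shiftRight d (nat_lit 5)) (nat_lit 31)))) (nat_lit 31)) (Nat.mul (nat_lit 32) (Nat.add (Nat.land (Nat.shiftRight c (Nat.mul (nat_lit 5) (Nat.land (Nat.shiftRight d (nat_lit 10)) (nat_lit 31)))) (nat_lit 31)) (Nat.mul (nat_lit 32) (Nat.add (Nat.land (Nat.shiftRight c (Nat.mul (nat_lit 5) (Nat.land (Nat.shiftRight d (nat_lit 15)) (nat_lit 31)))) (nat_lit 31)) (Nat.mul (nat_lit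 32) (Nat.add (Nat.land (Nat.shiftRight c (Nat.mul (nat_lit 5) (Nat.land (Nat.shiftRight d (nat_lit 20)) (nat_lit 31)))) (nat_lit 31)) (Nat.mul (nat_lit 32) (Nat.add (Nat.land (Nat.shiftRight c (Nat.mul (nat_lit 5) (Nat.land (Nat.shiftRight d (nat_lit 25)) (nat_lit 31)))) (nat_lit 31)) (Nat.mul (nat_lit 32) (Nat.add (Nat.land (Nat.shiftRight c (Nat.mul (nat_lit 5) (Nat.land (Nat.shiftRight d (nat_lit 30)) (nat_lit 31)))) (nat_lit 31)) (Nat.mul (nat_lit 32) (Nat.add (Nat.land (Nat.shiftRight c (Nat.mul (nat_lit 5) (Nat.land (Nat.shiftRight d (nat_lit 35)) (nat_lit 31)))) (nat_lit 31)) (Nat.mul (nat_lit 32) (Nat.add (Nat.land (Nat.shiftRight c (Nat.mul (nat_lit 5) (Nat.land (Nat.shiftRight d (nat_lit 40)) (nat_lit 31)))) (nat_lit 31)) (Nat.mul (nat_lit 32) (Nat.add (Nat.land (Nat.shiftRight c (Nat.mul (nat_lit 5) (Nat.land (Nat.shiftRight d (nat_lit 45)) (nat_lit 31)))) (nat_lit 31)) (Nat.mul (nat_lit 32) (Nat.add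 (Nat.land (Nat.shiftRight c (Nat.mul (nat_lit 5) (Nat.land (Nat.shiftRight d (nat_lit 50)) (nat_lit 31)))) (nat_lit 31)) (Nat.mul (nat_lit 32) (Nat.add (Nat.land (Nat.shiftRight c (Nat.mul (nat_lit 5) (Nat.land (Nat.shiftRight d (nat_lit 55)) (nat_lit 31)))) (nat_lit 31)) (Nat.mul (nat_lit 32) (Nat.add (Nat.land (Nat.shiftRight c (Nat.mul (nat_lit 5) (Nat.land (Nat.shiftRight d (nat_lit 60)) (nat_lit 31)))) (nat_lit 31)) (Nat.mul (nat_lit 32) (Nat.add (Nat.land (Nat.shiftRight c (Nat.mul (nat_lit 5) (Nat.land (Nat.shiftRight d (nat_lit 65)) (nat_lit 31)))) (nat_lit 31)) (Nat.mul (nat_lit 32) (Nat.add (Nat.land (Nat.shiftRight c (Nat.mul (nat_lit 5) (Nat.land (Nat.shiftRight d (nat_lit 70)) (nat_lit 31)))) (nat_lit 31)) (Nat.mul (nat_lit 32) (Nat.add (Nat.land (Nat.shiftRight c (Nat.mul (nat_lit 5) (Nat.land (Nat.shiftRight d (nat_lit 75)) (nat_lit 31)))) (nat_lit 31)) (Nat.mul (nat_lit 32) (Nat.add (Nat.land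 (Nat.shiftRight c (Nat.mul (nat_lit 5) (Nat.land (Nat.shiftRight d (nat_lit 80)) (nat_lit 31)))) (nat_lit 31)) (Nat.mul (nat_lit 32) (Nat.add (Nat.land (Nat.shiftRight c (Nat.mul (nat_lit 5) (Nat.land (Nat.shiftRight d (nat_lit 85)) (nat_lit 31)))) (nat_lit 31)) (Nat.mul (nat_lit 32) (Nat.add (Nat.land (Nat.shiftRight c (Nat.mul (nat_lit 5) (Nat.land (Nat.shiftRight d (nat_lit 90)) (nat_lit 31)))) (nat_lit 31)) (Nat.mul (nat_lit 32) (Nat.add (Nat.land (Nat.shiftRight c (Nat.mul (nat_lit 5) (Nat.land (Nat.shiftRight d (nat_lit 95)) (nat_lit 31)))) (nat_lit 31)) (Nat.mul (nat_lit 32) (Nat.add (Nat.land (Nat.shiftRight c (Nat.mul (nat_lit 5) (Nat.land (Nat.shiftRight d (nat_lit 100)) (nat_lit 31)))) (nat_lit 31)) (Nat.mul (nat_lit 32) (Nat.add (Nat.land (Nat.shiftRight c (Nat.mul (nat_lit 5) (Nat.land (Nat.shiftRight d (nat_lit 105)) (nat_lit 31)))) (nat_lit 31)) (Nat.mul (nat_lit 32) (Nat.add (Nat.land (Nat.shiftRight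 c (Nat.mul (nat_lit 5) (Nat.land (Nat.shiftRight d (nat_lit 110)) (nat_lit 31)))) (nat_lit 31)) (Nat.mul (nat_lit 32) (Nat.add (Nat.land (Nat.shiftRight c (Nat.mul (nat_lit 5) (Nat.land (Nat.shiftRight d (nat_lit 115)) (nat_lit 31)))) (nat_lit 31)) (Nat.mul (nat_lit 32) (nat_lit 0)))))))))))))))))))))))))))))))))))))))))))))))))
noncomputable def cmp (c d : ℕ) : ℕ := frc c fun c => frc d fun d => cmp0 c d

theorem cmp_eq (c d : ℕ) : cmp c d = pk (fun i => pf c (pf d i)) 24 0 := by rw [cmp, frc_eq, frc_eq]; rfl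

structure Is (g : M24) (c : ℕ) : Prop where
  lt : c < 32 ^ 24
  rep : Rep gp 24 g (pf c)

def idc : ℕ := nat_lit 0xbdab49ca307b9ac5a928398a418820

variable {g h : M24} {c d : ℕ}

theorem Is.lt24 (a : Is g c) {i : ℕ} (hi : i < 24) : pf c i < 24 := (a.rep i hi).1
theorem Is.gp (a : Is g c) {i : ℕ} (hi : i < 24) : g • gp i = gp (pf c i) := (a.rep i hi).2
theorem Is.gp_iff (a : Is g c) {i j : ℕ} (hi : i < 24) (hj : j < 24) : g • Spor.gp i = Spor.gp j ↔ pf c i = j :=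
  ⟨fun e => gp_inj _ (a.lt24 hi) _ hj ((a.gp hi).symm.trans e), fun e => e ▸ a.gp hi⟩

theorem Is.mul (a : Is g c) (b : Is h d) : Is (g * h) (cmp c d) := by
  rw [cmp_eq]
  exact ⟨pk_lt (fun _ => pf_lt32 _ _) _ _, (a.rep.mul b.rep).congr fun i hi => by
    rw [pf_pk (fun _ => pf_lt32 _ _) _ _ _ hi, zero_add]⟩

theorem is_one : Is 1 idc := ⟨by decide, Rep.one.congr (by decide)⟩

theorem is_m24 (h : okE c = 0) (h' : c < 32 ^ 24) : Is (m24 c) c :=
  ⟨h', fun i hi => ⟨(valid_of_okE h).pf_lt hi, m24_smul_gp h hi⟩⟩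

theorem is_of (h : Nat.beq (Nat.add (okE c) (ltE c (nat_lit 0x1000000000000000000000000000000))) (nat_lit 0) = true) :
    Is (m24 c) c :=
  let a := add_eq_zero' (Nat.eq_of_beq_eq_true h); is_m24 a.1 (ltE_zero a.2)

theorem Is.eq_iff (a : Is g c) (b : Is h d) : g = h ↔ c = d :=
  ⟨fun e => eq_of_pf 24 _ _ a.lt b.lt fun i hi => (a.gp_iff hi (b.lt24 hi)).1 (e ▸ b.gp hi),
    fun e => a.rep.eq_of_faithful gp_surj b.rep fun i _ => e ▸ rfl⟩

theorem exists_is (g : M24) : ∃ c, Is g c :=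
  have a : ∀ i, gi (g • Spor.gp i) < 32 := fun i => (gi_lt _).trans (by decide)
  ⟨pk (fun i => gi (g • Spor.gp i)) 24 0, pk_lt a _ _, fun i hi => by
    rw [pf_pk a _ _ _ hi, zero_add, gp_gi]; exact ⟨gi_lt _, rfl⟩⟩

theorem Is.bset (a : Is g c) (n : ℕ) : g • bset n = bset (img c n) := by
  ext q
  simp only [Finset.mem_smul_finset, mem_bset, testBit_img]
  constructor
  · rintro ⟨p, hp, rfl⟩
    exact ⟨gi p, gi_lt p, hp, (a.gp_iff (gi_lt p) (gi_lt _)).1 (by rw [gp_gi, gp_gi])⟩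
  · rintro ⟨i, hi, hn, e⟩
    exact ⟨Spor.gp i, by rwa [gi_gp hi], by rw [a.gp hi, e, gp_gi]⟩

theorem Is.img_lt (a : Is g c) (n : ℕ) : img c n < 2 ^ 24 := Nat.lt_pow_two_of_testBit _ fun j hj => by
  by_contra e
  obtain ⟨i, hi, -, e⟩ := (testBit_img c n j).1 (by simpa using e)
  have := a.lt24 hi
  omega

theorem Is.bset_iff (a : Is g c) (n : ℕ) {m : ℕ} (hm : m < 2 ^ 24) : g • Spor.bset n = Spor.bset m ↔ img c n = m := by
  rw [a.bset]; exact ⟨bset_inj (a.img_lt n) hm, fun e => e ▸ rfl⟩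

noncomputable def nfx (c : ℕ) : ℕ := frc c fun c => cnt (fun i => Nat.xor (pf c i) i) (nat_lit 0) (nat_lit 24)

theorem Is.ncard_fix (a : Is g c) : {p : GolayPt | g • p = p}.ncard = nfx c := by
  rw [nfx, frc_eq, ← gp_inj.ncard_class]
  congr 1; ext p
  refine ⟨fun h => ⟨gi p, ⟨gi_lt p, ?_⟩, gp_gi p⟩, ?_⟩
  · rw [(a.gp_iff (gi_lt p) (gi_lt p)).1 (by rw [gp_gi]; exact h)]; exact Nat.xor_self _
  · rintro ⟨i, ⟨hi, e⟩, rfl⟩
    exact (a.gp_iff hi hi).2 (xor_eq_zero' e)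

theorem Is.card_fix (a : Is g c) : (univ.filter fun p => g.1 p = p).card = nfx c := by
  rw [← a.ncard_fix, ← Set.ncard_coe_finset, coe_filter]; simp only [mem_univ, true_and]; rfl

noncomputable def els : List (ℕ × List ℕ) → List M24
  | [] => [1]
  | l :: t => l.2.flatMap fun d => (els t).map (m24 d * ·)

def TrOK : List ℕ → List (ℕ × List ℕ) → Prop
  | _, [] => True
  | D, l :: t => l.1 < 24 ∧ (∀ d ∈ l.2, okE d = 0 ∧ d < 32 ^ 24 ∧ ∀ i ∈ D, pf d i = i) ∧ (l.2.map (pf · l.1)).Nodup ∧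
    TrOK (l.1 :: D) t

noncomputable instance decTr : ∀ D t, Decidable (TrOK D t)
  | _, [] => isTrue trivial
  | D, l :: t => @instDecidableAnd _ _ _ (@instDecidableAnd _ _ _ (@instDecidableAnd _ _ _ (decTr (l.1 :: D) t)))

theorem cons_lt {D : List ℕ} {b : ℕ} (hb : b < 24) (h : ∀ i ∈ D, i < 24) : ∀ i ∈ b :: D, i < 24 :=
  List.forall_mem_cons.2 ⟨hb, h⟩

theorem els_fix : ∀ t D, TrOK D t → (∀ i ∈ D, i < 24) → ∀ k ∈ els t, ∀ i ∈ D, k • gp i = gp i
  | [], D, _, _, k, hk, i, _ => by rw [List.mem_singleton.1 hk, one_smul]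
  | l :: t, D, ⟨h1, h2, _, h4⟩, hD, k, hk, i, hi => by
    obtain ⟨d, hd, hk1⟩ := List.mem_flatMap.1 hk
    obtain ⟨k, hk2, rfl⟩ := List.mem_map.1 hk1
    rw [mul_smul, els_fix t _ h4 (cons_lt h1 hD) k hk2 i (List.mem_cons_of_mem _ hi), m24_smul_gp (h2 d hd).1 (hD i hi),
      (h2 d hd).2.2 i hi]

theorem els_nodup : ∀ t D, TrOK D t → (∀ i ∈ D, i < 24) → (els t).Nodup
  | [], _, _, _ => List.nodup_singleton _
  | l :: t, D, ⟨h1, h2, h3, h4⟩, hD => by
    refine List.nodup_flatMap.2 ⟨fun d _ => (els_nodup t _ h4 (cons_lt h1 hD)).map (mul_right_injective _),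
      (List.pairwise_map.1 h3).imp_of_mem fun {a b} ha hb n k h h' => n ?_⟩
    obtain ⟨x, hx, rfl⟩ := List.mem_map.1 h
    obtain ⟨y, hy, e⟩ := List.mem_map.1 h'
    have := congrArg (· • gp l.1) e
    simp only [mul_smul, els_fix t _ h4 (cons_lt h1 hD) _ hx _ List.mem_cons_self,
      els_fix t _ h4 (cons_lt h1 hD) _ hy _ List.mem_cons_self] at this
    have p := is_m24 (h2 a ha).1 (h2 a ha).2.1
    have q := is_m24 (h2 b hb).1 (h2 b hb).2.1
    exact (p.gp_iff h1 (q.lt24 h1)).1 (this.symm.trans (q.gp h1))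

theorem els_length : ∀ t, (els t).length = (t.map (·.2.length)).prod
  | [] => rfl
  | l :: t => by simp [els, List.length_flatMap, els_length t]

def PrOK (P : M24 → Prop) (pr : List ℕ → ℕ → ℕ → ℕ → ℕ) : Prop :=
  ∀ g D b c x, P g → (∀ i ∈ D, i < 24 ∧ pf c i < 24 ∧ g • gp i = gp (pf c i)) → b < 24 → x < 24 → g • gp b = gp x →
    pr D b c x = 0

noncomputable def tree (pr : List ℕ → ℕ → ℕ → ℕ → ℕ) (lf : ℕ → ℕ) (t : List (ℕ × List ℕ)) : List ℕ → ℕ → ℕ :=
  List.rec (motive := fun _ => List ℕ → ℕ → ℕ) (fun _ c => lf c)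
    (fun l _ ih D c => List.rec (nat_lit 0) (fun d _ s => Nat.add (frc (pf c (pf d l.1)) fun x =>
      Nat.rec (frc (cmp c d) (ih (l.1 :: D))) (fun _ _ => nat_lit 0) (pr D l.1 c x)) s) l.2) t

theorem tree_rel (R : ℕ → ℕ → Prop) (R0 : R 0 0) (Ra : ∀ a b c d, R a b → R c d → R (a + c) (b + d)) {f : M24 → ℕ}
    {pr : List ℕ → ℕ → ℕ → ℕ → ℕ} {lf : ℕ → ℕ} (hl : ∀ g c, Is g c → R (f g) (lf c)) (hp : PrOK (f · ≠ 0) pr) :
    ∀ t D h c, TrOK D t → (∀ i ∈ D, i < 24) → Is h c → R ((els t).map fun k => f (h * k)).sum (tree pr lf t D c)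
  | [], D, h, c, _, _, a => by simpa [els, tree] using hl h c a
  | l :: t, D, h, c, ⟨h1, h2, _, h4⟩, hD, a => by
    have k : ∀ L : List ℕ, (∀ d ∈ L, okE d = 0 ∧ d < 32 ^ 24 ∧ ∀ i ∈ D, pf d i = i) →
        R ((L.flatMap fun d => (els t).map (m24 d * ·)).map fun k => f (h * k)).sum
          (List.rec (nat_lit 0) (fun d _ s => Nat.add (frc (pf c (pf d l.1)) fun x =>
            Nat.rec (frc (cmp c d) (tree pr lf t (l.1 :: D))) (fun _ _ => nat_lit 0) (pr D l.1 c x)) s) L) := by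
      intro L
      induction L with
      | nil => exact fun _ => R0
      | cons d L ih =>
        intro hL
        rw [List.flatMap_cons, List.map_append, List.sum_append]
        refine Ra _ _ _ _ ?_ (ih fun e he => hL e (List.mem_cons_of_mem _ he))
        obtain ⟨p1, p2, p3⟩ := hL d List.mem_cons_self
        have b := is_m24 p1 p2
        rw [frc_eq, frc_eq, List.map_map]
        cases e : pr D l.1 c (pf c (pf d l.1)) with
        | zero => simpa only [Function.comp_def, mul_assoc, Nat.rec_zero] using tree_rel R R0 Ra hl hp t _ _ _ h4 (cons_lt h1 hD) (a.mul b)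
        | succ n =>
          rw [List.sum_eq_zero]
          · exact R0
          intro x hx
          obtain ⟨k, hk, rfl⟩ := List.mem_map.1 hx
          by_contra m
          have q := els_fix t _ h4 (cons_lt h1 hD) k hk
          rw [hp _ D l.1 c _ m (fun i hi => ⟨hD i hi, a.lt24 (hD i hi), by
            rw [mul_smul, mul_smul, q i (List.mem_cons_of_mem _ hi), b.gp (hD i hi), p3 i hi, a.gp (hD i hi)]⟩) h1
            (a.lt24 (b.lt24 h1)) (by rw [mul_smul, mul_smul, q _ List.mem_cons_self, b.gp h1, a.gp (b.lt24 h1)])] at e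
          omega
    exact k l.2 h2

def Full (t : List (ℕ × List ℕ)) : Prop := TrOK [] t ∧ (t.map (·.2.length)).prod = 244823040

noncomputable instance (t : List (ℕ × List ℕ)) : Decidable (Full t) := by unfold Full; infer_instance

theorem Full.sum {t : List (ℕ × List ℕ)} (h : Full t) [Fintype M24] (f : M24 → ℕ) :
    ∑ g, f g = ((els t).map fun k => f (1 * k)).sum := by
  classical
  have a := els_nodup t [] h.1 (by simp)
  simp only [one_mul]
  rw [← List.sum_toFinset _ a, eq_univ_of_card (els t).toFinset (by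
    rw [List.toFinset_card_of_nodup a, els_length, h.2, ← Nat.card_eq_fintype_card, card_M24])]

theorem PrOK.mono {P Q : M24 → Prop} {pr : List ℕ → ℕ → ℕ → ℕ → ℕ} (h : PrOK P pr) (e : ∀ g, Q g → P g) : PrOK Q pr :=
  fun g D b c x a => h g D b c x (e g a)

/-- count the elements with a property -/
theorem Full.card {t : List (ℕ × List ℕ)} (h : Full t) {P : M24 → Prop} (Q : ℕ → Prop) [DecidablePred Q]
    {pr : List ℕ → ℕ → ℕ → ℕ → ℕ} (hp : PrOK P pr) (hl : ∀ g c, Is g c → (P g ↔ Q c)) {n : ℕ}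
    (e : Nat.beq (tree pr (fun c => if Q c then 1 else 0) t [] idc) n = true) : Nat.card {g // P g} = n := by
  classical
  have := Fintype.ofFinite M24
  rw [← Nat.eq_of_beq_eq_true e, Nat.card_eq_fintype_card, Fintype.card_subtype, card_filter, h.sum]
  exact tree_rel Eq rfl (fun _ _ _ _ a b => a ▸ b ▸ rfl) (f := fun g => if P g then 1 else 0)
    (fun g c a => by simp only [hl g c a]) (hp.mono fun g a => by simpa using a) t [] 1 idc h.1 (by simp) is_one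

/-- a property of all elements passing the pruning -/
theorem Full.all {t : List (ℕ × List ℕ)} (h : Full t) {P : M24 → Prop} (Q : ℕ → Prop) [DecidablePred Q]
    {pr : List ℕ → ℕ → ℕ → ℕ → ℕ} (hp : PrOK P pr)
    (e : Nat.beq (tree pr (fun c => if Q c then 0 else 1) t [] idc) (nat_lit 0) = true) {g : M24} {c : ℕ} (a : Is g c)
    (hg : P g) : Q c := by
  classical
  have := Fintype.ofFinite M24
  have b := tree_rel (· ≤ ·) le_rfl (fun _ _ _ _ => add_le_add) (f := fun g => if P g ∧ ∃ c, Is g c ∧ ¬ Q c then 1 else 0)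
    (lf := fun c => if Q c then 0 else 1) (fun g c a => by
      split_ifs with p q
      · obtain ⟨-, d, b, n⟩ := p
        exact absurd ((a.eq_iff b).1 rfl ▸ q) n
      all_goals simp) (hp.mono fun g a => by simp at a; exact a.1) t [] 1 idc h.1 (by simp) is_one
  rw [← h.sum fun g => if P g ∧ ∃ c, Is g c ∧ ¬ Q c then 1 else 0, Nat.eq_of_beq_eq_true e] at b
  by_contra n
  simpa [hg, (⟨c, a, n⟩ : ∃ c, Is g c ∧ ¬ Q c)] using sum_eq_zero_iff.1 (Nat.le_zero.1 b) g (mem_univ _)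

def prA (p q : List ℕ → ℕ → ℕ → ℕ → ℕ) (D : List ℕ) (b c x : ℕ) : ℕ := Nat.add (p D b c x) (q D b c x)

theorem PrOK.add {P Q : M24 → Prop} {p q : List ℕ → ℕ → ℕ → ℕ → ℕ} (h : PrOK P p) (h' : PrOK Q q) :
    PrOK (fun g => P g ∧ Q g) (prA p q) := fun g D b c x a a1 a2 a3 a4 => by
  rw [prA, h g D b c x a.1 a1 a2 a3 a4, h' g D b c x a.2 a1 a2 a3 a4]

theorem and_one_zero {m : ℕ} (h : m.testBit 0 = false) : m &&& 1 = 0 := by
  rw [Nat.and_one_is_mod]; simpa using h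

/-- prescribed images of sets -/
noncomputable def prS (L : List (ℕ × ℕ)) (D : List ℕ) (b c x : ℕ) : ℕ :=
  List.rec (nat_lit 0) (fun a _ s => Nat.add (Nat.land (Nat.xor (Nat.shiftRight a.1 b) (Nat.shiftRight a.2 x)) (nat_lit 1)) s) L

theorem prS_ok (L : List (ℕ × ℕ)) : PrOK (fun g => ∀ a ∈ L, g • bset a.1 = bset a.2) (prS L) := fun g D b c x a _ a2 a3 a4 => by
  induction L with
  | nil => rfl
  | cons y L ih =>
    have e : y.1.testBit b = y.2.testBit x := by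
      rw [Bool.eq_iff_iff, ← gp_mem_bset a2, ← gp_mem_bset a3, ← a y List.mem_cons_self, ← a4, smul_mem_smul_finset_iff]
    change (((y.1 >>> b) ^^^ (y.2 >>> x)) &&& 1) + prS L D b c x = 0
    rw [ih fun z hz => a z (List.mem_cons_of_mem _ hz), add_zero]
    exact and_one_zero (by rw [Nat.testBit_xor, Nat.testBit_shiftRight, Nat.testBit_shiftRight, add_zero, add_zero, e]; simp)

/-- prescribed images of points -/
theorem prP_ok (L : List (ℕ × ℕ)) (h : ∀ a ∈ L, a.1 < 24 ∧ a.2 < 24) :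
    PrOK (fun g => ∀ a ∈ L, g • gp a.1 = gp a.2) (prS (L.map fun a => (2 ^ a.1, 2 ^ a.2))) :=
  (prS_ok _).mono fun g a => List.forall_mem_map.2 fun y hy => by
    rw [bset_pow' (h y hy).1, bset_pow' (h y hy).2, smul_finset_singleton, a y hy]

/-- pointwise fixed set -/
def prF (n : ℕ) (D : List ℕ) (b c x : ℕ) : ℕ :=
  Nat.mul (Nat.land (Nat.lor (Nat.shiftRight n b) (Nat.shiftRight n x)) (nat_lit 1)) (Nat.xor b x)

theorem prF_ok (n : ℕ) : PrOK (fun g => ∀ p ∈ bset n, g • p = p) (prF n) := fun g D b c x a _ a2 a3 a4 => by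
  change (((n >>> b) ||| (n >>> x)) &&& 1) * (b ^^^ x) = 0
  by_cases e : b = x
  · simp [e]
  have p : n.testBit b = false := by
    by_contra m
    exact e (gp_inj _ a2 _ a3 ((a _ ((gp_mem_bset a2).2 (by simpa using m))).symm.trans a4))
  have q : n.testBit x = false := by
    by_contra m
    exact e (gp_inj _ a2 _ a3 (smul_left_cancel g (a4.trans (a _ ((gp_mem_bset a3).2 (by simpa using m))).symm)))
  rw [and_one_zero (by rw [Nat.testBit_or, Nat.testBit_shiftRight, Nat.testBit_shiftRight, add_zero, add_zero, p, q]; rfl),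
    zero_mul]

noncomputable def prC (K K' : ℕ → ℕ → ℕ) (D : List ℕ) (b c x : ℕ) : ℕ :=
  Nat.add (Nat.xor (K b b) (K' x x)) (List.rec (nat_lit 0) (fun i _ s => Nat.add (frc (pf c i) fun y =>
    Nat.add (Nat.xor (K b i) (K' x y)) (Nat.xor (K i b) (K' y x))) s) D)

def Col (K K' : ℕ → ℕ → ℕ) (g : M24) : Prop :=
  ∀ i < 24, ∀ j < 24, ∀ i' < 24, ∀ j' < 24, g • gp i = gp i' → g • gp j = gp j' → K i j = K' i' j'

theorem prC_ok (K K' : ℕ → ℕ → ℕ) : PrOK (Col K K') (prC K K') := fun g D b c x a a1 a2 a3 a4 => by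
  have z : ∀ a : ℕ, Nat.xor a a = 0 := Nat.xor_self
  rw [prC, a b a2 b a2 x a3 x a3 a4 a4, z]
  refine (Nat.zero_add _).trans ?_
  induction D with
  | nil => rfl
  | cons i D ih =>
    obtain ⟨p1, p2, p3⟩ := a1 i List.mem_cons_self
    refine (congrArg₂ Nat.add ?_ (ih fun j hj => a1 j (List.mem_cons_of_mem _ hj))).trans (Nat.zero_add 0)
    rw [frc_eq, a b a2 i p1 x a3 _ p2 a4 p3, a i p1 b a2 _ p2 x a3 p3 a4, z, z]

/-- intertwining -/
theorem prX_ok {A B : M24} {a b : ℕ} (ha : Is A a) (hb : Is B b) :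
    PrOK (fun g => g * A = B * g) (prC (fun i j => eqI (pf a i) j) (fun i j => eqI (pf b i) j)) :=
  (prC_ok _ _).mono fun g e i hi j hj i' hi' j' hj' p q => by
    simp only [eqI_eq, ← ha.gp_iff hi hj, ← hb.gp_iff hi' hj']
    rw [← p, ← q, ← mul_smul, ← e, mul_smul]
    simp only [smul_left_cancel_iff]

def tr1 : List (ℕ × List ℕ) := [(nat_lit 23, [nat_lit 0xbdab49ca307b9ac5a928398a418820, nat_lit 0x516b693c5371ee04b2860a08383571, nat_lit 0x2cc528ad2a752e0ab1af0906881cd6, nat_lit 0xa09f6954a6726e03b1531910182db1, nat_lit 0xa91f28a86b736e02b2823cd2680516, nat_lit 0x388883296974ae00b22fb4c742c1b5, nat_lit 0x92e8475aa17c2e03b1b14146a124d3, nat_lit 0x5bea23406e22ae82b011b48333d12d, nat_lit 0x612a57b9b238551a02c8598709dd22, nat_lit 0x9a931b1aa5736e0130eb08d04851f2, nat_lit 0x118b28b4f472ae07b1751a02482676, nat_lit 0x22c71b20b5752e07b02a3a4d383452, nat_lit 0x6c83619d3443ee022e62530d1855c5, nat_lit 0x7b8666a4ab202e8ab290b06723aa22,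 nat_lit 0x8ad483104f706e0930e9a0e762b615, nat_lit 0xe02355f1216e85316e986563a68d, nat_lit 0xb35c57d4883d1510819280ccb9a6e2, nat_lit 0x495049d1a774ae01b235b182a1416f, nat_lit 0x854658c8c77bae0432762054d58934, nat_lit 0xb466431343bd515804e2ca1624ef5, nat_lit 0x3362372096516e09321598a87585e9, nat_lit 0x719a379288b0ae0831332ad52a9e21, nat_lit 0x429e3140ce4d6f323016944eb6d0a1, nat_lit 0x18891b05b4756e05310f34ce981572]), (nat_lit 0, [nat_lit 0xbdab49ca307b9ac5a928398a418820, nat_lit 0xb8aa0719a78128c4acb2545e198ec8, nat_lit 0xba44073cf480daca9a712d96152244, nat_lit 0xb8de07082d8268c2a091ad94759a53, nat_lit 0xbd6807c53010dac3996e94ec80a885, nat_lit 0xb848043a75831eb49db6a0c4a918b1, nat_lit 0xb8ea82468a3840c2a5e65b61674c52, nat_lit 0xbd52072e8d820ec13d569c8c129223, nat_lit 0xb9460729b48182c7897624907ace29, nat_lit 0xba42040aaf81a6b23a43694eaa46cc, nat_lit 0xb9468241403ce8cac5cd789365c8c1, nat_lit 0xba16072427855ac99076148b433e2a,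 nat_lit 0xb86a07146b81d4c111117da896ce46, nat_lit 0xb994070ce18168c24d367caad40a2b, nat_lit 0xbce0820ed43940c7c82da896a4c4ce, nat_lit 0xbbd40ac4f02856c4cdae91ac41d102, nat_lit 0xb91e010d3009a6bab8e8b48b15518d, nat_lit 0xbd408834a71ce8c5452433852b2c2f, nat_lit 0xb84602394283166ad0f26a1258be76, nat_lit 0xbd8609b9242b14d0ca088d16733c55, nat_lit 0xb9020736302ce4c5a8e8499f610eb4, nat_lit 0xb88207516a84c6ca95b64488979a27, nat_lit 0xb8d405d025b3d2d23a53418553c590]), (nat_lit 12, [nat_lit 0xbdab49ca307b9ac5a928398a418820, nat_lit 0xb948f958701226b3d131ab9ac30540, nat_lit 0xbcc6b8c91049146a36b6138ec784a0, nat_lit 0xb891595830290cd4a8f17b96c98e80, nat_lit 0xb912a8c8d01cd686d0b67b82c11ea0, nat_lit 0xbb582b14d00c647abd232226b72a80, nat_lit 0xba906b4490a8caf69c524ba8c58660, nat_lit 0xb982d8c8903a29352df62b92ca8c40, nat_lit 0xbacc8b46702a6a2a05f21b9ac51c80, nat_lit 0xb85469b8a238e516a684abe0cb2160, nat_lit 0xbc8c71da304b28e7cc850a2ab129a0,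 nat_lit 0xb8e6f8c8f0224412d5b65390c59a80, nat_lit 0xbae64322c510df009e55539ac4d220, nat_lit 0xbd4b47110258e293ca13b3ccc0a9a0, nat_lit 0xb8ea5b45f0428c43b6725b82c4d040, nat_lit 0xb8cf29ba22504c54b564b3d0cac280, nat_lit 0xb9d8994df00da3412ea819146715a0, nat_lit 0xbc18b409e5b54d2228341cd2d71e20, nat_lit 0xbcd612b5d050ed52092664647451e0, nat_lit 0xbd662959307988a0b4712ba8c41d60, nat_lit 0xbc8b124c62a29764c2ae3bdac32020, nat_lit 0xba05395970215e3a1d513382cab520]), (nat_lit 14, [nat_lit 0xbdab49ca307b9ac5a928398a418820, nat_lit 0xb928d0ba62b3d2c348e58456355500, nat_lit 0xb8da70b94992eac7c693858c828880, nat_lit 0xba14b1b8c5b54ec9c922845a1a3c80, nat_lit 0xba6813b963928ac145a485906abe60, nat_lit 0xb8da943c35258ec8ba0b14cca950a0, nat_lit 0xba0f40b8b58984c5d9aa849e49a460, nat_lit 0xb85691ba87935ecac54685a6411500, nat_lit 0xb982d3baa58a1ec55a8b8485320d20, nat_lit 0xb90a6439f390a8c546a9858e16ac60, nat_lit 0xbcceda39e24124c4982b2d6168a860,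 nat_lit 0xb964653e2b2520c0b8f514d286d860, nat_lit 0xbd5a1a38c88966c4d8e38488f12d40, nat_lit 0xb8636939b431c4c5d6032a26f22920, nat_lit 0xb9da883cca7496cacd23110b1a5820, nat_lit 0xb912a1b84f8ccac6d97484aa831c20, nat_lit 0xb960d43d749c6ac3113213ac309d40, nat_lit 0xb9d0533a8d8854c7daa28496919260, nat_lit 0xbd9a1a3a323414c254ef2a12358a60, nat_lit 0xba0c753db0726cca4e5111023aaca0, nat_lit 0xba4829b94b88e8cad9e5849a70a0c0]), (nat_lit 16, [nat_lit 0xbdab49ca307b9ac5a928398a418820, nat_lit 0xba09149aa553a0c69c3393c43a2ec0, nat_lit 0xb9076abc532ba0c3d02a8ad2869a40, nat_lit 0xb91113cde2a3a0c5a466954a1536c0, nat_lit 0xbcd36289e4aba0c0b4eb8a866a2240, nat_lit 0xb8d1212d2a9ba0ca3425b1aa43be20, nat_lit 0xba0367d4a613a0c4a8748b4e45ce40, nat_lit 0xba4d27a86b23a0c6d0f5b20b308a20, nat_lit 0xb8e8822969138ac946c7ab43383cc0, nat_lit 0xba6766ad43a3a0c414c28bc87a8640, nat_lit 0xb98f6116a87ba0c1ad2d8d03351240, nat_lit 0xb84922b4f433a0c52c62b4de84d620,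 nat_lit 0xb9a711a0b55ba0ca04e4909e96aac0, nat_lit 0xbd2665b4274b8ac8c2c243c8392aa0, nat_lit 0xb903258a6f4ba0ca950db1e8332a20, nat_lit 0xb9e72ad02d43a0c5a92fb104619620, nat_lit 0xbd23319da15b84c35512242c92a9e0, nat_lit 0xbd866142517b8ac3b68b42553092a0, nat_lit 0xbc52f6c2d20b84ca950b9a87431c80, nat_lit 0xbc6a9a4a166b96c792661950111d40]), (nat_lit 1, [nat_lit 0xbdab49ca307b9ac5a928398a418820, nat_lit 0xbd9ea34a30ab96c6d0e44cc4809460, nat_lit 0xbc9657c6d0138cc3b683aa9240cd00, nat_lit 0xbc4d35da504b9eca1da8116a30a880, nat_lit 0xbc9f45c6d05382c454b36888930ce0, nat_lit 0xbc955146d07b90c0d1a92ac73390c0, nat_lit 0xbc50455a501b84c686867d4a93ae60, nat_lit 0xbd84b44a302b94ca3433191e63d520, nat_lit 0xbc56d35a502b82c20a6a3a4757a280, nat_lit 0xbc55445a50ab8ec9bc8b08d25119a0, nat_lit 0xbc4a24da505b88c0b4f59990aa0de0, nat_lit 0xbc6af1da5053a6c3d025220cb6a440, nat_lit 0xbd8832ca304392c385af58a75a1940, nat_lit 0xbda69aca303386c09e8253c856a160,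 nat_lit 0xbc926246d09b8ac69c2a40d6fa0aa0, nat_lit 0xbc8689c6d023aaca04eb325426bca0]), (nat_lit 17, [nat_lit 0xbdab49ca307b9ac5a928398a418820, nat_lit 0xbc84d546d05b8ec316a4a3e6342420, nat_lit 0xbc5272da5033a8c7cc436ad4825420])]
def tr2 : List (ℕ × List ℕ) := [(nat_lit 23, [nat_lit 0xbdab49ca307b9ac5a928398a418820, nat_lit 0x516b693c5371ee04b2860a08383571, nat_lit 0x2cc528ad2a752e0ab1af0906881cd6, nat_lit 0xa09f6954a6726e03b1531910182db1, nat_lit 0x4a0d694c8f752e0530f56944b80471, nat_lit 0x388883296974ae00b22fb4c742c1b5, nat_lit 0x92e8475aa17c2e03b1b14146a124d3, nat_lit 0x5bea23406e22ae82b011b48333d12d, nat_lit 0x612a57b9b238551a02c8598709dd22, nat_lit 0x9a931b1aa5736e0130eb08d04851f2, nat_lit 0x118b28b4f472ae07b1751a02482676, nat_lit 0x43c9288d4971ee03303368965852b6, nat_lit 0x6c83619d3443ee022e62530d1855c5, nat_lit 0x7b8666a4ab202e8ab290b06723aa22, nat_lit 0x249af1268c3d951a82ee58e0698505, nat_lit 0x8ad483104f706e0930e9a0e762b615,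 nat_lit 0xe02355f1216e85316e986563a68d, nat_lit 0xb35c57d4883d1510819280ccb9a6e2, nat_lit 0xa91f28a86b736e02b2823cd2680516, nat_lit 0xcde83246a746e03b2448096d2da95, nat_lit 0x854658c8c77bae0432762054d58934, nat_lit 0x3362372096516e09321598a87585e9, nat_lit 0x719a379288b0ae0831332ad52a9e21, nat_lit 0x1ccc4ac16e126e543011b49afa1d41]), (nat_lit 0, [nat_lit 0xbdab49ca307b9ac5a928398a418820, nat_lit 0xb8aa0719a78128c4acb2545e198ec8, nat_lit 0xba44073cf480daca9a712d96152244, nat_lit 0xb90c075434808ec50d124c66d7aec5, nat_lit 0xbac8073e1228e2c0b4463d5564d113, nat_lit 0xb848043a75831eb49db6a0c4a918b1, nat_lit 0xb8ea82468a3840c2a5e65b61674c52, nat_lit 0xbd52072e8d820ec13d569c8c129223, nat_lit 0xba88074e8782c2c355f14586d49642, nat_lit 0xba42040aaf81a6b23a43694eaa46cc, nat_lit 0xb9468241403ce8cac5cd789365c8c1, nat_lit 0xb8e207d10d1560c928ae3cc29b188b, nat_lit 0xbb1c04114f806aba1a3648e5311cad, nat_lit 0xb8628256c038d4c5ce462b5d48244f,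 nat_lit 0xb986072e119a2cc09d2fa08b2ab48a, nat_lit 0xbb500756121062c1acb34be963a886, nat_lit 0xbb460728a6152acb416f910e80c669, nat_lit 0xba428240e67cdacb5071555622824e, nat_lit 0xb84602394283166ad0f26a1258be76, nat_lit 0xbd8609b9242b14d0ca088d16733c55, nat_lit 0xb9020736302ce4c5a8e8499f610eb4, nat_lit 0xb986013e330920bb51a8ac9492b987, nat_lit 0xbb1c098cea2d88d8bea80d0c95c850]), (nat_lit 12, [nat_lit 0xbdab49ca307b9ac5a928398a418820, nat_lit 0xb948f958701226b3d131ab9ac30540, nat_lit 0xbcc6b8c91049146a36b6138ec784a0, nat_lit 0xb891595830290cd4a8f17b96c98e80, nat_lit 0xba05395970215e3a1d513382cab520, nat_lit 0xbb582b14d00c647abd232226b72a80, nat_lit 0xba906b4490a8caf69c524ba8c58660, nat_lit 0xb982d8c8903a29352df62b92ca8c40, nat_lit 0xbbd638c8b050935384d623a8c9b500, nat_lit 0xb85469b8a238e516a684abe0cb2160, nat_lit 0xbc8c71da304b28e7cc850a2ab129a0, nat_lit 0xb90a6959b040aa1526919b86c7ace0, nat_lit 0xbae64322c510df009e55539ac4d220,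 nat_lit 0xbd4b47110258e293ca13b3ccc0a9a0, nat_lit 0xb912a8c8d01cd686d0b67b82c11ea0, nat_lit 0xbcd69321a5189548c8f57bacc24020, nat_lit 0xb96a1710c21aeca6c2538bd0ca24e0, nat_lit 0xbc18b409e5b54d2228341cd2d71e20, nat_lit 0xbc8b124c62a29764c2ae3bdac32020, nat_lit 0xbd22e28d90219a29d4364a1eb3aa40, nat_lit 0xba9b4a98453ac24959e81ba2c4c260, nat_lit 0xbb5237cd025d145b48c43ba0c0c6a0]), (nat_lit 14, [nat_lit 0xbdab49ca307b9ac5a928398a418820, nat_lit 0xb928d0ba62b3d2c348e58456355500, nat_lit 0xb8da70b94992eac7c693858c828880, nat_lit 0xba14b1b8c5b54ec9c922845a1a3c80, nat_lit 0xb88e16b9e4b4d4caca888446b498a0, nat_lit 0xb8e30b392b4282c79a422d5b439260, nat_lit 0xb8da943c35258ec8ba0b14cca950a0, nat_lit 0xba0f40b8b58984c5d9aa849e49a460, nat_lit 0xb85691ba87935ecac54685a6411500, nat_lit 0xbac346b92a90ccc9c4ef85aa541040, nat_lit 0xb90a6439f390a8c546a9858e16ac60, nat_lit 0xbcceda39e24124c4982b2d6168a860, nat_lit 0xb964653e2b2520c0b8f514d286d860,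 nat_lit 0xbae5683943424ec21a332d68d0bc40, nat_lit 0xbd6084bec32064ca39a514d463c560, nat_lit 0xba2d093aa62142c5be29988eda0d40, nat_lit 0xbd2a54382d99ecc53ccb1121190d20, nat_lit 0xbaa6223ce62c90cb45d55d12d80c20, nat_lit 0xbd2019aac41a24cab8ad5a5e734440, nat_lit 0xb960d43d749c6ac3113213ac309d40, nat_lit 0xbd9a1a3a323414c254ef2a12358a60]), (nat_lit 16, [nat_lit 0xbdab49ca307b9ac5a928398a418820, nat_lit 0xba09149aa553a0c69c3393c43a2ec0, nat_lit 0xb9076abc532ba0c3d02a8ad2869a40, nat_lit 0xb91113cde2a3a0c5a466954a1536c0, nat_lit 0xb9451554c84ba0c0d1af94c8b38ec0, nat_lit 0xb8d1212d2a9ba0ca3425b1aa43be20, nat_lit 0xba0367d4a613a0c4a8748b4e45ce40, nat_lit 0xb897634c8f43a0ca1da988d450d640, nat_lit 0xb8e8822969138ac946c7ab43383cc0, nat_lit 0xb88b1a3e643ba0c1a9759190d486c0, nat_lit 0xb8e759254b8b8ac6868f310563c100, nat_lit 0xb84922b4f433a0c52c62b4de84d620, nat_lit 0xbd2665b4274b8ac8c2c243c8392aa0, nat_lit 0xb95b69991523a0c52567886821be40,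 nat_lit 0xbd23319da15b84c35512242c92a9e0, nat_lit 0xba6766ad43a3a0c414c28bc87a8640, nat_lit 0xb84cf91e8d8b84c58d559a0b64c080, nat_lit 0xbd866142517b8ac3b68b42553092a0, nat_lit 0xbc52f6c2d20b84ca950b9a87431c80, nat_lit 0xbc6a9a4a166b96c792661950111d40]), (nat_lit 17, [nat_lit 0xbdab49ca307b9ac5a928398a418820, nat_lit 0xbc84d546d05b8ec316a4a3e6342420, nat_lit 0xbc5272da5033a8c7cc436ad4825420]), (nat_lit 1, [nat_lit 0xbdab49ca307b9ac5a928398a418820, nat_lit 0xbd9ea34a30ab96c6d0e44cc4809460, nat_lit 0xbd8c77ca309b82c1a545a5502591a0, nat_lit 0xbda69aca303386c09e8253c856a160, nat_lit 0xbd94f3ca30a384c2d4c39a56143480, nat_lit 0xbda954ca30538ac13e6131da322d00, nat_lit 0xbd933a4a303b88c41aab7a86d28440, nat_lit 0xbd8e654a304b90c24dedad02b10ca0, nat_lit 0xbd8ad24a3013a8c52c660a2b34bce0, nat_lit 0xbd84b44a302b94ca3433191e63d520, nat_lit 0xbd90114a30238ec48d75694cf54e80, nat_lit 0xbd8832ca304392c385af58a75a1940, nat_lit 0xbd9620ca306b9eca950920d4735260,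 nat_lit 0xbd9a51ca305baac78887406899a8c0, nat_lit 0xbd8646ca300ba6c320aa12d34a9de0, nat_lit 0xbd8285ca301b8cc990542b4ea7a6a0])]

/-- base 23, 0, 12, 14, 16, 1, 17 -/
theorem full1 : Full tr1 := by decide +kernel
/-- base 23, 0, 12, 14, 16, 17, 1 -/
theorem full2 : Full tr2 := by decide +kernel

end Cfsg.Agent.Spor
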